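import Mathlib
import Cfsg.Agent.Nodes.StabComb
import Cfsg.Agent.Nodes.Relations
import Cfsg.Agent.Tits.RootComb
import Cfsg.Agent.Mrg.Omega.EH3.Kf.InL_m3
import Cfsg.Agent.KFacts.RgdSyl
import Cfsg.Agent.H248.DichRGD
import Cfsg.Agent.FastGrp
import Cfsg.Agent.Prune
set_option linter.all false
prune_inst 0x7f00000000000000000000000000000000000000000000000000000000000000000000000000000000000000000000000000000000000000000000000000000000000000000000000000000000000000003fffffffffffffffffffffffffffbeffbdffffffff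
open scoped Cfsg.Agent.FastGrp

-- part: H396/CoxLem
section
/-!
# A lemma on Coxeter groups (helper396)

If `w ∈ W` (finite crystallographic) maps every simple root `α_i` with `w α_i < 0` to the negative of a simple
root, then `w ∈ W_D`, `D = {i | w α_i < 0}`.
-/

set_option autoImplicit false
set_option linter.unusedSectionVars false

namespace Cfsg.Agent.H396

open CoxeterSystem Cfsg.Agent.ChevalleyStructure.CoxeterGeom Cfsg.Agent.Tits.Roots Cfsg.Agent.Tits.Core
  Cfsg.Agent.Tits.Exchange Cfsg.Agent.Nodes.StabComb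

variable {I W : Type*} [Fintype I] [DecidableEq I] [Group W] {M : CoxeterMatrix I}
  {cs : CoxeterSystem M W} {A : I → I → ℤ} {h : IsCartan M A}

/-- every descent of `w` goes to the negative of a simple root -/
def DescSimple (cs : CoxeterSystem M W) (h : IsCartan M A) (w : W) : Prop :=
  ∀ i, rep cs h w (sr i) ≤ 0 → ∃ g, rep cs h w (sr i) = - sr g

/-- the descent set -/
def Desc (cs : CoxeterSystem M W) (h : IsCartan M A) (w : W) : Set I := {i | rep cs h w (sr i) ≤ 0}

theorem DescSimple.nonneg {w : W} (hw : DescSimple cs h w) {x : I → ℤ} (hx : x ∈ NotJ cs h (Desc cs h w)) :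
    0 ≤ rep cs h w x := by
  classical
  obtain ⟨hxr, hx0, k₀, hk₀, hxk⟩ := hx
  rcases (hxr.act w).pos_or_neg with h1 | h1
  · exact h1
  exfalso
  choose! g hg using hw
  -- the coordinates of `w α_{k₀}` outside `g '' D` vanish
  have hk₀p : 0 ≤ rep cs h w (sr k₀) := (((isRoot_sr cs h k₀).act w).pos_or_neg).resolve_right hk₀
  have hvan : ∀ q, (∀ i ∈ Desc cs h w, g i ≠ q) → rep cs h w (sr k₀) q = 0 := by
    intro q hq
    have h2 : rep cs h w x q = ∑ k, x k * rep cs h w (sr k) q := by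
      rw [Cfsg.Agent.Nodes.rep_eq_sum cs h w x, Finset.sum_apply]
      simp only [Pi.smul_apply, smul_eq_mul]
    have h3 : ∀ k, 0 ≤ x k * rep cs h w (sr k) q := by
      intro k
      refine mul_nonneg (hx0 k) ?_
      by_cases hk : k ∈ Desc cs h w
      · rw [hg k hk, Pi.neg_apply, sr_ne (hq k hk).symm, neg_zero]
      · exact ((((isRoot_sr cs h k).act w).pos_or_neg).resolve_right hk) q
    have h4 : x k₀ * rep cs h w (sr k₀) q ≤ rep cs h w x q := by
      rw [h2]
      exact Finset.single_le_sum (f := fun k => x k * rep cs h w (sr k) q) (fun k _ => h3 k) (Finset.mem_univ k₀)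
    have h5 : x k₀ * rep cs h w (sr k₀) q ≤ 0 := h4.trans (h1 q)
    have h6 : 0 ≤ rep cs h w (sr k₀) q := hk₀p q
    nlinarith
  -- expand
  have hex : sr k₀ = ∑ q, rep cs h w (sr k₀) q • rep cs h w⁻¹ (sr q) := by
    rw [← Cfsg.Agent.Nodes.rep_eq_sum cs h w⁻¹, rep_inv_apply]
  have h7 : (sr k₀ : I → ℤ) k₀ = ∑ q, rep cs h w (sr k₀) q * rep cs h w⁻¹ (sr q) k₀ := by
    conv_lhs => rw [hex]
    rw [Finset.sum_apply]
    simp only [Pi.smul_apply, smul_eq_mul]
  rw [sr_self, Finset.sum_eq_zero] at h7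
  · exact one_ne_zero h7
  · intro q _
    by_cases hq : ∀ i ∈ Desc cs h w, g i ≠ q
    · rw [hvan q hq, zero_mul]
    · push Not at hq
      obtain ⟨i, hi, rfl⟩ := hq
      have h8 : rep cs h w⁻¹ (sr (g i)) = - sr i := by
        have h9 := hg i hi
        have h10 : sr (g i) = - rep cs h w (sr i) := by rw [h9, neg_neg]
        rw [h10, map_neg, rep_inv_apply]
      rw [h8, Pi.neg_apply, sr_ne, neg_zero, mul_zero]
      rintro rfl
      exact hk₀ hi

theorem DescSimple.nonpos {w : W} {x : I → ℤ} (hx : x ∈ PosJ cs h (Desc cs h w)) :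
    rep cs h w x ≤ 0 := by
  obtain ⟨_, hx0, hxk⟩ := hx
  intro q
  rw [Cfsg.Agent.Nodes.rep_eq_sum cs h w x, Finset.sum_apply]
  refine Finset.sum_nonpos fun k _ => ?_
  rw [Pi.smul_apply, smul_eq_mul]
  by_cases hk : k ∈ Desc cs h w
  · exact mul_nonpos_of_nonneg_of_nonpos (hx0 k) (hk q)
  · rw [hxk k hk, zero_mul]

theorem DescSimple.mem_WJ [Finite W] {w : W} (hw : DescSimple cs h w) : w ∈ WJ cs (Desc cs h w) := by
  have hl := isLongest_wJ cs (Desc cs h w)
  set v := wJ cs (Desc cs h w) with hv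
  have h1 : w * v = 1 := by
    refine eq_one_of_nonneg cs h (w * v) fun k => ?_
    change 0 ≤ rep cs h (w * v) (sr k)
    rw [rep_mul_apply]
    by_cases hk : k ∈ Desc cs h w
    · have h2 : rep cs h v (sr k) ≤ 0 := rep_longest_nonpos hl (sr_mem_PosJ hk)
      have h3 : - rep cs h v (sr k) ∈ PosJ cs h (Desc cs h w) := by
        have h4 := RootsJ.act (h := h) hl.1 (PosJ_subset _ (sr_mem_PosJ hk))
        exact ⟨h4.1.neg, neg_nonneg.2 h2, fun j hj => by rw [Pi.neg_apply, h4.2 j hj, neg_zero]⟩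
      have h5 := DescSimple.nonpos h3
      rw [map_neg] at h5
      exact neg_nonpos.1 h5
    · exact hw.nonneg (NotJ.act hl.1 (sr_mem_NotJ hk))
  have h2 := inv_mem hl.1
  rwa [← eq_inv_of_mul_eq_one_left h1] at h2

end Cfsg.Agent.H396
end

-- part: H396/IdxP
section
/-!
# Subgroups of index `p` of `p`-subgroups (helper396)
-/

set_option autoImplicit false

open scoped commutatorElement

namespace Cfsg.Agent.H396

variable {Y : Type*} [Group Y]

/-- a subgroup of index `p` of a finite `p`-group is normal. -/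
theorem normal_of_index {G : Type*} [Group G] [Finite G] {p : ℕ} [hp : Fact p.Prime] (hG : IsPGroup p G)
    {K : Subgroup G} (hK : K.index = p) : K.Normal := by
  obtain ⟨n, hn⟩ := hG.exists_card_eq
  have hn0 : n ≠ 0 := by
    rintro rfl
    have h1 : K.index ∣ Nat.card G := K.index_dvd_card
    rw [hn, hK, pow_zero, Nat.dvd_one] at h1
    exact hp.out.one_lt.ne' h1
  refine Subgroup.normal_of_index_eq_minFac_card ?_
  rw [hK, hn, Nat.Prime.pow_minFac hp.out hn0]

variable {U P : Subgroup Y} {p : ℕ} [hp : Fact p.Prime]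

theorem commutator_le_of_relIndex [Finite Y] (hU : IsPGroup p U) (hidx : P.relIndex U = p) : ⁅U, U⁆ ≤ P := by
  have hnor : (P.subgroupOf U).Normal := normal_of_index hU hidx
  rw [Subgroup.commutator_le]
  intro a ha b hb
  have hcard : Nat.card (U ⧸ P.subgroupOf U) = p := hidx
  have hcyc : IsCyclic (U ⧸ P.subgroupOf U) := isCyclic_of_prime_card hcard
  have hcomm : ∀ x y : U ⧸ P.subgroupOf U, x * y = y * x := by
    letI : CommGroup (U ⧸ P.subgroupOf U) := IsCyclic.commGroup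
    exact fun x y => mul_comm x y
  have h1 : (QuotientGroup.mk (⁅(⟨a, ha⟩ : U), ⟨b, hb⟩⁆) : U ⧸ P.subgroupOf U) = 1 := by
    have : (QuotientGroup.mk (⁅(⟨a, ha⟩ : U), ⟨b, hb⟩⁆) : U ⧸ P.subgroupOf U) =
        ⁅(QuotientGroup.mk (⟨a, ha⟩ : U) : U ⧸ P.subgroupOf U), QuotientGroup.mk (⟨b, hb⟩ : U)⁆ := rfl
    rw [this, commutatorElement_eq_one_iff_mul_comm]
    exact hcomm _ _
  rw [QuotientGroup.eq_one_iff] at h1
  exact h1

/-- `U = (P ∩ U) ⟨v⟩` if `v ∈ U` is not in `P`. -/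
theorem exists_mul_zpow_mem [Finite Y] (hU : IsPGroup p U) (hidx : P.relIndex U = p) {v : Y} (hv : v ∈ U)
    (hvP : v ∉ P) {x : Y} (hx : x ∈ U) : ∃ j : ℤ, x * v ^ j ∈ P := by
  have hnor : (P.subgroupOf U).Normal := normal_of_index hU hidx
  have hcard : Nat.card (U ⧸ P.subgroupOf U) = p := hidx
  have hne : (QuotientGroup.mk (⟨v, hv⟩ : U) : U ⧸ P.subgroupOf U) ≠ 1 := by
    rw [Ne, QuotientGroup.eq_one_iff]
    exact hvP
  obtain ⟨j, hj⟩ := mem_zpowers_of_prime_card (g' := (QuotientGroup.mk (⟨x, hx⟩ : U) : U ⧸ P.subgroupOf U))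
    hcard hne
  refine ⟨-j, ?_⟩
  have hj' : (QuotientGroup.mk (⟨v, hv⟩ : U) : U ⧸ P.subgroupOf U) ^ j =
    QuotientGroup.mk (⟨x, hx⟩ : U) := hj
  have h1 : (QuotientGroup.mk ((⟨x, hx⟩ : U) * ⟨v, hv⟩ ^ (-j)) : U ⧸ P.subgroupOf U) = 1 := by
    rw [QuotientGroup.mk_mul, QuotientGroup.mk_zpow, ← hj', ← zpow_add, add_neg_cancel, zpow_zero]
  rw [QuotientGroup.eq_one_iff] at h1
  exact h1

/-- the version with the power on the left. -/
theorem exists_zpow_mul_mem [Finite Y] (hU : IsPGroup p U) (hidx : P.relIndex U = p) {v : Y} (hv : v ∈ U)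
    (hvP : v ∉ P) {x : Y} (hx : x ∈ U) : ∃ j : ℤ, v ^ j * x ∈ P := by
  obtain ⟨j, hj⟩ := exists_mul_zpow_mem hU hidx hv hvP (inv_mem hx)
  refine ⟨-j, ?_⟩
  have := inv_mem hj
  rwa [mul_inv_rev, inv_inv, ← zpow_neg] at this

end Cfsg.Agent.H396
end

-- part: H396/ThmA
section
/-!
# Root group data: subgroups of index `p · (p'-number)` are in proper parabolic subgroups (helper396)

`R : RGD cs h p T n X`, `U = ⟨X a : a > 0⟩`, the non-simple positive root groups lie in `⁅U, U⁆` (`CommGen`),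
the diagram is connected with at least two nodes. If `|U : P ∩ U| = p` and `P` contains no conjugate of `U`,
then `P ≤ P_K` for a proper subset `K` of the nodes (`le_PJ_of_index`).
-/

set_option autoImplicit false
set_option linter.unusedSectionVars false

namespace Cfsg.Agent.H396.ThmA

open CoxeterSystem Cfsg.Agent.ChevalleyStructure.CoxeterGeom Cfsg.Agent.Tits.Roots Cfsg.Agent.Tits.Core
  Cfsg.Agent.Tits.RootComb Cfsg.Agent.Tits.Exchange Cfsg.Agent.Nodes.Reps Cfsg.Agent.Nodes.BNOf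
  Cfsg.Agent.Nodes.StabComb Cfsg.Agent.Nodes.Bruhat Cfsg.Agent.Nodes.OppDec Cfsg.Agent.Nodes.LeviDec
  Cfsg.Agent.Omega.EH3.Kf.Lev
open scoped commutatorElement

variable {I W Y : Type*} [Fintype I] [DecidableEq I] [Group W] [Group Y] {M : CoxeterMatrix I}
  {cs : CoxeterSystem M W} {A : I → I → ℤ} {h : IsCartan M A} {p : ℕ} {T : Subgroup Y} {n : I → Y}
  {X : (I → ℤ) → Subgroup Y}

/-- `P ∩ U` has index `p` in `U` and `P` contains no conjugate of `U`. -/
structure Hyp (cs : CoxeterSystem M W) (h : IsCartan M A) (X : (I → ℤ) → Subgroup Y) (p : ℕ)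
    (P : Subgroup Y) : Prop where
  idx : P.relIndex (RGD.Sup X (RGD.Pos cs h)) = p
  nosyl : ∀ g : Y, ¬ cj g (RGD.Sup X (RGD.Pos cs h)) ≤ P

/-- the positions (in the Weyl group) of the elements of `P` -/
def WM (hN : NSys M T n) (cs : CoxeterSystem M W) (h : IsCartan M A) (X : (I → ℤ) → Subgroup Y)
    (P : Subgroup Y) : Set W := {w | ∃ m ∈ P, Cell hN cs h X w m}

variable (R : RGD cs h p T n X)
include R

theorem cj_U_of_mem_B {b : Y} (hb : b ∈ RGD.B cs h T X) :
    cj b (RGD.Sup X (RGD.Pos cs h)) = RGD.Sup X (RGD.Pos cs h) :=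
  mem_normalizer_iff_cj.1 (R.B_le_normalizer_U hb)

theorem Hyp.conj {P : Subgroup Y} (hP : Hyp cs h X p P) {b : Y} (hb : b ∈ RGD.B cs h T X) :
    Hyp cs h X p (cj b P) := by
  refine ⟨?_, fun g hg => hP.nosyl (b⁻¹ * g) ?_⟩
  · have h1 := Subgroup.relIndex_map_map_of_injective (f := (MulAut.conj b).toMonoidHom) P
      (RGD.Sup X (RGD.Pos cs h)) (MulAut.conj b).injective
    have h2 : (RGD.Sup X (RGD.Pos cs h)).map (MulAut.conj b).toMonoidHom = RGD.Sup X (RGD.Pos cs h) :=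
      cj_U_of_mem_B R hb
    rw [h2] at h1
    exact h1.trans hP.idx
  · rw [cj_mul, ← cj_le_cj_iff b, cj_cj_inv]
    exact hg

theorem comm_le_of_hyp [Finite W] [Finite Y] [Fact p.Prime] {P : Subgroup Y} (hP : Hyp cs h X p P) :
    ⁅RGD.Sup X (RGD.Pos cs h), RGD.Sup X (RGD.Pos cs h)⁆ ≤ P :=
  commutator_le_of_relIndex R.isPGroup_Upos hP.idx

theorem X_le_of_nonsimple [Finite W] [Finite Y] [Fact p.Prime] (hC : CommGen cs h X) {P : Subgroup Y}
    (hP : Hyp cs h X p P) {x : I → ℤ} (hx : IsRoot cs h x) (h0 : 0 ≤ x) (hns : ∀ i, x ≠ sr i) : X x ≤ P :=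
  (hC x hx h0 hns).trans (comm_le_of_hyp R hP)

theorem le_cj_of_le [Finite W] [Finite Y] [Fact p.Prime] {P : Subgroup Y} (hP : Hyp cs h X p P) {b : Y}
    (hb : b ∈ RGD.B cs h T X) {i : I} (hi : X (sr i) ≤ P) : X (sr i) ≤ cj b P := by
  obtain ⟨t, ht, v, hv, e⟩ := R.mem_B.1 (inv_mem hb)
  intro u hu
  rw [mem_cj]
  have hb' : b = v⁻¹ * t⁻¹ := by rw [← inv_inv b, e, mul_inv_rev]
  have hU : X (sr i) ≤ RGD.Sup X (RGD.Pos cs h) := RGD.le_Sup ⟨isRoot_sr cs h i, sr_nonneg i⟩
  have htU : ∀ y ∈ RGD.Sup X (RGD.Pos cs h), t * y * t⁻¹ ∈ RGD.Sup X (RGD.Pos cs h) := fun y hy =>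
    (Subgroup.mem_normalizer_iff.1 (R.T_le_normalizer_U ht) y).1 hy
  have e2 : b⁻¹ * u * b = ⁅t * v * t⁻¹, t * u * t⁻¹⁆ * (t * u * t⁻¹) := by
    rw [hb', commutatorElement_def]; group
  rw [e2]
  refine mul_mem (comm_le_of_hyp R hP (Subgroup.commutator_mem_commutator (htU v hv) (htU u (hU hu)))) (hi ?_)
  have h1 := R.tor (sr i) (isRoot_sr cs h i) t ht
  rw [← h1]
  exact conj_mem_cj.2 hu

/-- containment of positive root groups is invariant under conjugation by `B` -/
theorem le_cj_iff [Finite W] [Finite Y] [Fact p.Prime] (hC : CommGen cs h X) {P : Subgroup Y}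
    (hP : Hyp cs h X p P) {b : Y} (hb : b ∈ RGD.B cs h T X) {x : I → ℤ} (hx : IsRoot cs h x) (h0 : 0 ≤ x) :
    X x ≤ cj b P ↔ X x ≤ P := by
  by_cases hs : ∀ i, x ≠ sr i
  · exact ⟨fun _ => X_le_of_nonsimple R hC hP hx h0 hs, fun _ => X_le_of_nonsimple R hC (hP.conj R hb) hx h0 hs⟩
  · push Not at hs
    obtain ⟨i, rfl⟩ := hs
    refine ⟨fun h1 => ?_, fun h1 => le_cj_of_le R hP hb h1⟩
    have h2 := le_cj_of_le R (hP.conj R hb) (inv_mem hb) h1
    rwa [cj_inv_cj] at h2

omit R in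
theorem WM_cj_le {hN : NSys M T n} {P : Subgroup Y} {b : Y} (hb : b ∈ RGD.B cs h T X) :
    WM hN cs h X P ⊆ WM hN cs h X (cj b P) := by
  rintro w ⟨m, hm, hw⟩
  exact ⟨b * m * b⁻¹, conj_mem_cj.2 hm, (hw.mul_left hb).mul_right (inv_mem hb)⟩

omit R in
theorem WM_cj {hN : NSys M T n} {P : Subgroup Y} {b : Y} (hb : b ∈ RGD.B cs h T X) :
    WM hN cs h X (cj b P) = WM hN cs h X P := by
  refine Set.Subset.antisymm ?_ (WM_cj_le hb)
  have h1 := WM_cj_le (hN := hN) (P := cj b P) (inv_mem hb)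
  rwa [cj_inv_cj] at h1

omit R in
theorem WM_inv {hN : NSys M T n} {P : Subgroup Y} {w : W} (hw : w ∈ WM hN cs h X P) :
    w⁻¹ ∈ WM hN cs h X P := by
  obtain ⟨m, hm, hw⟩ := hw
  exact ⟨m⁻¹, inv_mem hm, hw.inv⟩

/-- a representative, after conjugation in `B` -/
theorem exists_rp_of_WM {P : Subgroup Y} {w : W} (hw : w ∈ WM R.nsys cs h X P) :
    ∃ b₀ ∈ RGD.B cs h T X, ∃ k, Rp cs R.nsys w k ∧ ∃ b ∈ RGD.B cs h T X, k * b ∈ cj b₀ P := by
  obtain ⟨m, hm, b₁, hb₁, k, hk, b₂, hb₂, rfl⟩ := hw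
  refine ⟨b₁⁻¹, inv_mem hb₁, k, hk, b₂ * b₁, mul_mem hb₂ hb₁, ?_⟩
  rw [mem_cj]
  have : b₁⁻¹⁻¹ * (k * (b₂ * b₁)) * b₁⁻¹ = b₁ * k * b₂ := by group
  rwa [this]

omit [Fintype I] [DecidableEq I] R in
theorem le_iff_of_rp [Fintype I] [DecidableEq I] (R : RGD cs h p T n X) {P : Subgroup Y} {w : W} {k b : Y}
    (hk : Rp cs R.nsys w k) (hkb : k * b ∈ P) {x : I → ℤ} (hx : IsRoot cs h x) :
    X x ≤ P ↔ X (rep cs h w⁻¹ x) ≤ cj b P := by
  have e : cj b P = cj k⁻¹ P := by
    calc cj b P = cj (k⁻¹ * (k * b)) P := by rw [inv_mul_cancel_left]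
      _ = cj k⁻¹ P := by rw [cj_mul, cj_eq_of_mem hkb]
  rw [← R.conj_rp hk.inv hx, e, cj_le_cj_iff]

theorem le_iff_of_WM [Finite W] [Finite Y] [Fact p.Prime] (hC : CommGen cs h X) {P : Subgroup Y}
    (hP : Hyp cs h X p P) {w : W} (hw : w ∈ WM R.nsys cs h X P) {x : I → ℤ} (hx : IsRoot cs h x) (h0 : 0 ≤ x)
    (h1 : 0 ≤ rep cs h w⁻¹ x) : X x ≤ P ↔ X (rep cs h w⁻¹ x) ≤ P := by
  obtain ⟨b₀, hb₀, k, hk, b, hb, hkb⟩ := exists_rp_of_WM R hw
  rw [← le_cj_iff R hC hP hb₀ hx h0, le_iff_of_rp R hk hkb hx,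
    le_cj_iff R hC (hP.conj R hb₀) hb (hx.act _) h1, le_cj_iff R hC hP hb₀ (hx.act _) h1]

/-- **key step** -/
theorem step [Finite W] [Finite Y] [Fact p.Prime] (hC : CommGen cs h X) {P : Subgroup Y}
    (hP : Hyp cs h X p P) {w : W} (hw : w ∈ WM R.nsys cs h X P) {i : I} (hi : rep cs h w (sr i) ≤ 0)
    (hX : X (-rep cs h w (sr i)) ≤ P) :
    w * cs.simple i ∈ WM R.nsys cs h X P ∧ cs.simple i ∈ WM R.nsys cs h X P := by
  obtain ⟨b₀, hb₀, k, hk, b, hb, hkb⟩ := exists_rp_of_WM R hw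
  have hP' := hP.conj R hb₀
  have hP'' := hP'.conj R hb
  set P' := cj b₀ P with hP'def
  set P'' := cj b P' with hP''def
  have hroot : IsRoot cs h (-rep cs h w (sr i)) := ((isRoot_sr cs h i).act w).neg
  have hpos : 0 ≤ -rep cs h w (sr i) := neg_nonneg.2 hi
  -- `X (-α_i) ≤ P''`
  have hneg : X (-sr i) ≤ P'' := by
    have h1 := (le_iff_of_rp R hk hkb hroot).1 ((le_cj_iff R hC hP hb₀ hroot hpos).2 hX)
    rwa [map_neg, rep_inv_apply] at h1
  have hWM : WM R.nsys cs h X P'' = WM R.nsys cs h X P := by rw [hP''def, WM_cj hb, hP'def, WM_cj hb₀]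
  have hbk : b * k ∈ P'' := by
    rw [hP''def, mem_cj]
    have : b⁻¹ * (b * k) * b = k * b := by group
    rwa [this]
  have hiff : ∀ {x : I → ℤ}, IsRoot cs h x → 0 ≤ x → (X x ≤ P'' ↔ X x ≤ P) := fun hx h0 => by
    rw [hP''def, le_cj_iff R hC hP' hb hx h0, hP'def, le_cj_iff R hC hP hb₀ hx h0]
  rw [← hWM]
  -- a nontrivial element of `X (-α_i)`
  obtain ⟨u, hu, hu1⟩ : ∃ u ∈ X (-sr i), u ≠ 1 := by
    by_contra hcon
    push Not at hcon
    exact X_ne_bot R (isRoot_sr cs h i).neg ((Subgroup.eq_bot_iff_forall _).2 hcon)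
  obtain ⟨a, ha, t, ht, b', hb', e⟩ := R.rk1 i u hu hu1
  have hUXi : X (sr i) ≤ RGD.Sup X (RGD.Pos cs h) := RGD.le_Sup ⟨isRoot_sr cs h i, sr_nonneg i⟩
  have hrtn : Rp cs R.nsys (cs.simple i) (t * n i) := by
    have := (rp_of_mem (cs := cs) (hN := R.nsys) ht).mul (rp_simple cs R.nsys i)
    rwa [one_mul] at this
  have hrw : Rp cs R.nsys (w * cs.simple i) (k * (t * n i)) := hk.mul hrtn
  by_cases hXi : X (sr i) ≤ P
  · have hXi'' : X (sr i) ≤ P'' := (hiff (isRoot_sr cs h i) (sr_nonneg i)).2 hXi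
    have htn : t * n i ∈ P'' := by
      have h1 : t * n i = a⁻¹ * u * b'⁻¹ := by rw [e]; group
      rw [h1]
      exact mul_mem (mul_mem (inv_mem (hXi'' ha)) (hneg hu)) (inv_mem (hXi'' hb'))
    refine ⟨⟨(b * k) * (t * n i), mul_mem hbk htn, ?_⟩, ⟨t * n i, htn, cell_of_rp hrtn⟩⟩
    rw [mul_assoc]
    exact (cell_of_rp hrw).mul_left hb
  · by_cases hS : ∃ j, j ≠ i ∧ ¬ X (sr j) ≤ P
    · obtain ⟨j, hji, hj⟩ := hS
      have hj'' : ¬ X (sr j) ≤ P'' := fun h1 => hj ((hiff (isRoot_sr cs h j) (sr_nonneg j)).1 h1)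
      obtain ⟨v, hv, hvP⟩ := Set.not_subset.1 hj''
      have hvU : v ∈ RGD.Sup X (RGD.Pos cs h) := RGD.le_Sup (S := RGD.Pos cs h) ⟨isRoot_sr cs h j, sr_nonneg j⟩ hv
      have hvV : v ∈ RGD.Sup X (RGD.PosNe cs h i) :=
        RGD.le_Sup (S := RGD.PosNe cs h i) ⟨isRoot_sr cs h j, sr_nonneg j, fun h1 => by
          have := congrFun h1 j
          rw [sr_self, sr_ne hji] at this
          exact one_ne_zero this⟩ hv
      obtain ⟨l₁, hl₁⟩ := exists_mul_zpow_mem R.isPGroup_Upos hP''.idx hvU hvP (hUXi ha)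
      obtain ⟨l₂, hl₂⟩ := exists_zpow_mul_mem R.isPGroup_Upos hP''.idx hvU hvP (hUXi hb')
      have hz : (v ^ l₁)⁻¹ * (t * n i) * (v ^ l₂)⁻¹ ∈ P'' := by
        have h1 : (v ^ l₁)⁻¹ * (t * n i) * (v ^ l₂)⁻¹ = (a * v ^ l₁)⁻¹ * u * (v ^ l₂ * b')⁻¹ := by
          rw [e]; group
        rw [h1]
        exact mul_mem (mul_mem (inv_mem hl₁) (hneg hu)) (inv_mem hl₂)
      have hV₁ : (v ^ l₁)⁻¹ ∈ RGD.Sup X (RGD.PosNe cs h i) := inv_mem (zpow_mem hvV _)
      have hVU : RGD.Sup X (RGD.PosNe cs h i) ≤ RGD.Sup X (RGD.Pos cs h) :=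
        RGD.Sup_mono fun x hx => ⟨hx.1, hx.2.1⟩
      have hVB : RGD.Sup X (RGD.PosNe cs h i) ≤ RGD.B cs h T X := hVU.trans RGD.U_le_B
      have hV₂ : (v ^ l₂)⁻¹ ∈ RGD.B cs h T X := hVB (inv_mem (zpow_mem hvV _))
      -- `(t n_i)⁻¹ V_i (t n_i) = V_i`
      have hconj : (t * n i)⁻¹ * (v ^ l₁)⁻¹ * (t * n i) ∈ RGD.Sup X (RGD.PosNe cs h i) := by
        have hT : t⁻¹ * (v ^ l₁)⁻¹ * t ∈ RGD.Sup X (RGD.PosNe cs h i) := by
          have h1 := (Subgroup.mem_normalizer_iff.1 (R.T_le_normalizer (S := RGD.PosNe cs h i)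
            (fun x hx => hx.1) (inv_mem ht)) (v ^ l₁)⁻¹).1 hV₁
          rwa [inv_inv] at h1
        have h2 := R.cj_n_V i
        rw [← h2] at hT
        rw [mem_cj] at hT
        have h3 : (t * n i)⁻¹ * (v ^ l₁)⁻¹ * (t * n i) = (n i)⁻¹ * (t⁻¹ * (v ^ l₁)⁻¹ * t) * n i := by group
        rwa [h3]
      refine ⟨⟨(b * k) * ((v ^ l₁)⁻¹ * (t * n i) * (v ^ l₂)⁻¹), mul_mem hbk hz, ?_⟩,
        ⟨_, hz, ((cell_of_rp hrtn).mul_left (hVB hV₁)).mul_right hV₂⟩⟩
      have h4 : (b * k) * ((v ^ l₁)⁻¹ * (t * n i) * (v ^ l₂)⁻¹) =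
          b * (k * (t * n i)) * (((t * n i)⁻¹ * (v ^ l₁)⁻¹ * (t * n i)) * (v ^ l₂)⁻¹) := by group
      rw [h4]
      exact ((cell_of_rp hrw).mul_left hb).mul_right (mul_mem (hVB hconj) hV₂)
    · -- `P''` contains a full conjugate of `U`
      exfalso
      push Not at hS
      refine hP''.nosyl (n i) ?_
      rw [R.Upos_eq i, cj_sup, R.cj_n_V i]
      refine sup_le ?_ ?_
      · rw [R.conj i (sr i) (isRoot_sr cs h i), rep_simple_sr]
        exact hneg
      · refine RGD.Sup_le fun x hx => ?_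
        by_cases hs : ∀ j, x ≠ sr j
        · exact X_le_of_nonsimple R hC hP'' hx.1 hx.2.1 hs
        · push Not at hs
          obtain ⟨j, rfl⟩ := hs
          exact (hiff hx.1 hx.2.1).2 (hS j fun h1 => hx.2.2 (by rw [h1]))

/-- `s_j α_σ` is a positive non-simple root for adjacent nodes -/
theorem claim1 [Finite W] [Finite Y] [Fact p.Prime] (hC : CommGen cs h X) {P : Subgroup Y}
    (hP : Hyp cs h X p P) {j s : I} (hj : cs.simple j ∈ WM R.nsys cs h X P) (hjs : j ≠ s) (hM : M j s ≠ 2) :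
    X (sr s) ≤ P := by
  have hA : A j s < 0 := cartan_neg h hjs hM
  have hr : IsRoot cs h (rep cs h (cs.simple j) (sr s)) := (isRoot_sr cs h s).act _
  have hne : (sr s : I → ℤ) ≠ sr j := by
    intro h1
    have := congrFun h1 s
    rw [sr_self, sr_ne hjs.symm] at this
    exact one_ne_zero this
  have h0 : 0 ≤ rep cs h (cs.simple j) (sr s) := (isRoot_sr cs h s).simple_nonneg (sr_nonneg s) j hne
  have hcj : 0 < rep cs h (cs.simple j) (sr s) j := by
    rw [rep_simple_apply_self, sr_ne hjs]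
    have : pairing A j (sr s) = A j s := by
      unfold pairing
      rw [Finset.sum_eq_single s]
      · rw [sr_self]; ring
      · intro q _ hq; rw [sr_ne hq]; ring
      · intro hq; exact absurd (Finset.mem_univ s) hq
    rw [this]; omega
  have hcs : rep cs h (cs.simple j) (sr s) s = 1 := by
    rw [rep_simple_apply cs h j _ s hjs.symm, sr_self]
  have hns : ∀ i, rep cs h (cs.simple j) (sr s) ≠ sr i := by
    intro i h1
    by_cases his : i = s
    · subst his
      rw [h1, sr_ne hjs] at hcj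
      exact lt_irrefl _ hcj
    · rw [h1, sr_ne (Ne.symm his)] at hcs
      exact zero_ne_one hcs
  have h1 : 0 ≤ rep cs h (cs.simple j)⁻¹ (rep cs h (cs.simple j) (sr s)) := by
    rw [rep_inv_apply]; exact sr_nonneg s
  have h2 := (le_iff_of_WM R hC hP hj hr h0 h1).1 (X_le_of_nonsimple R hC hP hr h0 hns)
  rwa [rep_inv_apply] at h2

/-- **claim 2** -/
theorem mem_WJ_of_WM [Finite W] [Finite Y] [Fact p.Prime] (hC : CommGen cs h X) {P : Subgroup Y}
    (hP : Hyp cs h X p P) : ∀ {w : W}, w ∈ WM R.nsys cs h X P →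
    w ∈ WJ cs ({i | cs.simple i ∈ WM R.nsys cs h X P} ∪ {i | ¬ X (sr i) ≤ P}) := by
  intro w
  induction hl : cs.length w using Nat.strong_induction_on generalizing w with
  | _ N ih =>
  intro hw
  by_cases hw1 : w = 1
  · rw [hw1]; exact one_mem _
  by_cases H : ∃ i, rep cs h w (sr i) ≤ 0 ∧ (X (-rep cs h w (sr i)) ≤ P ∨ X (sr i) ≤ P)
  · obtain ⟨i, hi, hX⟩ := H
    have hroot : IsRoot cs h (-rep cs h w (sr i)) := ((isRoot_sr cs h i).act w).neg
    have hpos : 0 ≤ -rep cs h w (sr i) := neg_nonneg.2 hi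
    by_cases hX1 : X (-rep cs h w (sr i)) ≤ P
    · obtain ⟨h1, h2⟩ := step R hC hP hw hi hX1
      have hlt : cs.length (w * cs.simple i) < cs.length w := (lt_iff cs h w i).2 hi
      have h3 := ih _ (by rw [← hl]; exact hlt) rfl h1
      have h4 : w = (w * cs.simple i) * cs.simple i := by rw [mul_assoc, simple_mul_simple_self, mul_one]
      rw [h4]
      exact mul_mem h3 (simple_mem_WJ cs (Or.inl h2))
    · have hXi : X (sr i) ≤ P := hX.resolve_left hX1
      have hg : ∃ g, -rep cs h w (sr i) = sr g := by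
        by_contra hcon
        push Not at hcon
        exact hX1 (X_le_of_nonsimple R hC hP hroot hpos hcon)
      obtain ⟨g, hg⟩ := hg
      have hwg : rep cs h w⁻¹ (sr g) = -sr i := by rw [← hg, map_neg, rep_inv_apply]
      have h0 : rep cs h w⁻¹ (sr g) ≤ 0 := by rw [hwg]; exact neg_nonpos.2 (sr_nonneg i)
      obtain ⟨h1, h2⟩ := step R hC hP (WM_inv hw) h0 (by rw [hwg, neg_neg]; exact hXi)
      have h3 : cs.simple g * w ∈ WM R.nsys cs h X P := by
        have := WM_inv h1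
        rwa [mul_inv_rev, inv_inv, inv_simple] at this
      have hlt : cs.length (cs.simple g * w) < cs.length w := by
        have := (lt_iff cs h w⁻¹ g).2 h0
        rw [← cs.length_inv w, ← cs.length_inv (cs.simple g * w), mul_inv_rev, inv_simple]
        exact this
      have h4 := ih _ (by rw [← hl]; exact hlt) rfl h3
      have h5 : w = cs.simple g * (cs.simple g * w) := by rw [← mul_assoc, simple_mul_simple_self, one_mul]
      rw [h5]
      exact mul_mem (simple_mem_WJ cs (Or.inl h2)) h4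
  · push Not at H
    have hD : DescSimple cs h w := by
      intro i hi
      have h1 := (H i hi).1
      by_contra hcon
      push Not at hcon
      refine h1 (X_le_of_nonsimple R hC hP ((isRoot_sr cs h i).act w).neg (neg_nonneg.2 hi) fun g hg => hcon g ?_)
      rw [← hg, neg_neg]
    refine WJ_mono cs ?_ (DescSimple.mem_WJ hD)
    intro i hi
    exact Or.inr (H i hi).2

/-- **claim 4** -/
theorem claim4 [Finite W] [Finite Y] [Fact p.Prime] (hC : CommGen cs h X)
    (hconn : ∀ J : Set I, J.Nonempty → J ≠ Set.univ → ∃ a ∈ J, ∃ b, b ∉ J ∧ M a b ≠ 2) [Nontrivial I]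
    {P : Subgroup Y} (hP : Hyp cs h X p P) (hJ : ∀ i, cs.simple i ∉ WM R.nsys cs h X P)
    (hS : ∀ i, ¬ X (sr i) ≤ P) {w : W} (hw : w ∈ WM R.nsys cs h X P) : w = 1 := by
  -- all descents of all elements are simple
  have hDS : ∀ {w : W}, w ∈ WM R.nsys cs h X P → DescSimple cs h w := by
    intro w hw i hi
    by_contra hcon
    push Not at hcon
    refine hJ i (step R hC hP hw hi ?_).2
    refine X_le_of_nonsimple R hC hP ((isRoot_sr cs h i).act w).neg (neg_nonneg.2 hi) fun g hg => hcon g ?_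
    rw [← hg, neg_neg]
  have hDU : ∀ {w : W}, w ∈ WM R.nsys cs h X P → w ≠ 1 → ∀ i, rep cs h w (sr i) ≤ 0 := by
    intro w hw hw1
    by_contra hcon
    have hne : Desc cs h w ≠ Set.univ := fun h1 => hcon fun i => by
      have : i ∈ Desc cs h w := by rw [h1]; trivial
      exact this
    have hnonempty : (Desc cs h w).Nonempty := by
      by_contra hemp
      rw [Set.not_nonempty_iff_eq_empty] at hemp
      refine hw1 (eq_one_of_nonneg cs h w fun i => ?_)
      have hi : i ∉ Desc cs h w := by rw [hemp]; exact Set.notMem_empty i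
      exact ((isRoot_sr cs h i).act w).pos_or_neg.resolve_right hi
    obtain ⟨a, ha, t, ht, hM⟩ := hconn _ hnonempty hne
    have hat : a ≠ t := fun h1 => ht (h1 ▸ ha)
    have hpos : 0 ≤ rep cs h w (sr t) := ((isRoot_sr cs h t).act w).pos_or_neg.resolve_right ht
    have hroot : IsRoot cs h (rep cs h w (sr t)) := (isRoot_sr cs h t).act w
    have h1 : 0 ≤ rep cs h w⁻¹ (rep cs h w (sr t)) := by rw [rep_inv_apply]; exact sr_nonneg t
    by_cases hs : ∀ q, rep cs h w (sr t) ≠ sr q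
    · have h2 := (le_iff_of_WM R hC hP hw hroot hpos h1).1 (X_le_of_nonsimple R hC hP hroot hpos hs)
      rw [rep_inv_apply] at h2
      exact hS t h2
    · push Not at hs
      obtain ⟨q, hq⟩ := hs
      have hwD := (hDS hw).mem_WJ
      have h3 : rep cs h w (sr t) t = 1 := by
        rw [rep_apply_of_mem cs h hwD (sr t) ht, sr_self]
      have hqt : q = t := by
        by_contra hqt
        rw [hq, sr_ne (Ne.symm hqt)] at h3
        exact zero_ne_one h3
      subst hqt
      -- the root `s_a α_t`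
      have hA : A a q < 0 := cartan_neg h hat hM
      have hx : rep cs h (cs.simple a) (sr q) = sr q - A a q • sr a := by
        rw [rep_simple_eq]
        congr 2
        unfold pairing
        rw [Finset.sum_eq_single q]
        · rw [sr_self]; ring
        · intro r _ hr; rw [sr_ne hr]; ring
        · intro hr; exact absurd (Finset.mem_univ q) hr
      have hxN : rep cs h (cs.simple a) (sr q) ∈ NotJ cs h (Desc cs h w) := by
        refine ⟨(isRoot_sr cs h q).act _, ?_, q, ht, ?_⟩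
        · refine (isRoot_sr cs h q).simple_nonneg (sr_nonneg q) a fun h4 => ?_
          have := congrFun h4 q
          rw [sr_self, sr_ne hat.symm] at this
          exact one_ne_zero this
        · rw [rep_simple_apply cs h a _ q hat.symm, sr_self]; exact one_pos
      have h5 := (hDS hw).nonneg hxN
      obtain ⟨g, hg⟩ := hDS hw a ha
      have h6 : rep cs h w (rep cs h (cs.simple a) (sr q)) = sr q + A a q • sr g := by
        rw [hx, map_sub, map_smul, hq, hg, smul_neg, sub_neg_eq_add]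
      rw [h6] at h5
      have h7 : (0 : ℤ) ≤ sr q g + A a q * sr g g := h5 g
      rw [sr_self, mul_one] at h7
      by_cases hgq : g = q
      · subst hgq
        rw [sr_self] at h7
        have h8 : A a g = -1 := by omega
        have h9 := ((isRoot_sr cs h g).act (cs.simple a)).act w
        rw [h6, h8] at h9
        exact h9.ne_zero (by simp)
      · rw [sr_ne hgq] at h7
        omega
  by_contra hw1
  have hwi := WM_inv hw
  have hwi1 : w⁻¹ ≠ 1 := inv_ne_one.2 hw1
  obtain ⟨b₀, hb₀, k, hk, b, hb, hkb⟩ := exists_rp_of_WM R hw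
  have hP' := hP.conj R hb₀
  set P' := cj b₀ P with hP'def
  have hWM : WM R.nsys cs h X P' = WM R.nsys cs h X P := by rw [hP'def, WM_cj hb₀]
  obtain ⟨i, j, hij⟩ := exists_pair_ne I
  have hnot : ∀ i, ∃ x ∈ X (sr i), x ∉ P' := by
    intro i
    have h1 : ¬ X (sr i) ≤ P' := fun h1 => hS i ((le_cj_iff R hC hP hb₀ (isRoot_sr cs h i) (sr_nonneg i)).1 h1)
    exact Set.not_subset.1 h1
  obtain ⟨x, hx, hxP⟩ := hnot i
  obtain ⟨y, hy, hyP⟩ := hnot j
  have hXU : ∀ i, X (sr i) ≤ RGD.Sup X (RGD.Pos cs h) := fun i => RGD.le_Sup ⟨isRoot_sr cs h i, sr_nonneg i⟩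
  obtain ⟨l, hl⟩ := exists_mul_zpow_mem R.isPGroup_Upos hP'.idx (hXU j hy) hyP (hXU i hx)
  have hx1 : x ≠ 1 := fun h1 => hxP (h1 ▸ one_mem _)
  have hyl : y ^ l ∈ X (sr j) := zpow_mem hy l
  obtain ⟨i', hi'⟩ := hDS hwi i (hDU hwi hwi1 i)
  obtain ⟨j', hj'⟩ := hDS hwi j (hDU hwi hwi1 j)
  have hij' : i' ≠ j' := by
    rintro rfl
    have h1 := rep_injective_apply cs h w⁻¹ (hi'.trans hj'.symm)
    have h2 := congrFun h1 i
    rw [sr_self, sr_ne hij] at h2
    exact one_ne_zero h2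
  have hxm : k⁻¹ * x * k ∈ X (-sr i') := by
    have := R.conj_mem' hk (isRoot_sr cs h i) hx
    rwa [hi'] at this
  have hym : k⁻¹ * y ^ l * k ∈ X (-sr j') := by
    have := R.conj_mem' hk (isRoot_sr cs h j) hyl
    rwa [hj'] at this
  have hxm1 : k⁻¹ * x * k ≠ 1 := by
    intro h1
    apply hx1
    have : x = k * (k⁻¹ * x * k) * k⁻¹ := by group
    rw [this, h1]; group
  have hcell : ∀ {q : I} {z : Y}, z ∈ X (-sr q) → z ≠ 1 → Cell R.nsys cs h X (cs.simple q) z := by
    intro q z hz hz1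
    obtain ⟨a, ha, t, ht, b', hb', e⟩ := R.rk1 q z hz hz1
    have hrtn : Rp cs R.nsys (cs.simple q) (t * n q) := by
      have := (rp_of_mem (cs := cs) (hN := R.nsys) ht).mul (rp_simple cs R.nsys q)
      rwa [one_mul] at this
    exact ⟨a, RGD.X_le_B (isRoot_sr cs h q) (sr_nonneg q) ha, t * n q, hrtn, b',
      RGD.X_le_B (isRoot_sr cs h q) (sr_nonneg q) hb', by rw [e]; group⟩
  have hz : (k * b)⁻¹ * (x * y ^ l) * (k * b) ∈ P' := mul_mem (mul_mem (inv_mem hkb) hl) hkb
  have e : (k * b)⁻¹ * (x * y ^ l) * (k * b) = b⁻¹ * ((k⁻¹ * x * k) * (k⁻¹ * y ^ l * k)) * b := by group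
  rw [e] at hz
  have hcx := hcell hxm hxm1
  by_cases hym1 : k⁻¹ * y ^ l * k = 1
  · rw [hym1, mul_one] at hz
    refine hJ i' ?_
    rw [← hWM]
    exact ⟨_, hz, (hcx.mul_left (inv_mem hb)).mul_right hb⟩
  · have hcy := hcell hym hym1
    have hne1 : cs.simple i' * cs.simple j' ≠ 1 := by
      intro h1
      have h2 : cs.simple i' = cs.simple j' := by rw [← cs.inv_simple j']; exact eq_inv_of_mul_eq_one_left h1
      exact RGD.simple_ne (h := h) hij' h2
    have hlen : cs.length (cs.simple i' * cs.simple j') = cs.length (cs.simple i') + cs.length (cs.simple j') := by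
      have h1 : cs.length (cs.simple i') < cs.length (cs.simple i' * cs.simple j') := by
        rw [lt_iff' cs h]
        refine (isRoot_sr cs h j').simple_nonneg (sr_nonneg j') i' fun h4 => ?_
        have := congrFun h4 j'
        rw [sr_self, sr_ne hij'.symm] at this
        exact one_ne_zero this
      have h2 := cs.length_mul_le (cs.simple i') (cs.simple j')
      rw [cs.length_simple, cs.length_simple] at h2 ⊢
      rw [cs.length_simple] at h1
      omega
    have hcxy := Cell.mul_of_length R hlen hcx hcy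
    have hmem : cs.simple i' * cs.simple j' ∈ WM R.nsys cs h X P := by
      rw [← hWM]
      exact ⟨_, hz, (hcxy.mul_left (inv_mem hb)).mul_right hb⟩
    have hall := hDU hmem hne1
    obtain ⟨a, ha, c, hc, hM⟩ := hconn {i'} ⟨i', rfl⟩ (fun h1 => hij' (by
      have : j' ∈ ({i'} : Set I) := by rw [h1]; trivial
      exact this.symm))
    rw [Set.mem_singleton_iff] at ha hc
    subst ha
    by_cases hcj : c = j'
    · subst hcj
      have hA : A c a < 0 := cartan_neg h hij'.symm (by rwa [M.symmetric])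
      have h1 : rep cs h (cs.simple a * cs.simple c) (sr a) c ≤ (0 : ℤ) := hall a c
      rw [rep_mul_apply, rep_simple_apply cs h a _ c hij'.symm, rep_simple_apply_self, sr_ne hc] at h1
      have : pairing A c (sr a) = A c a := by
        unfold pairing
        rw [Finset.sum_eq_single a]
        · rw [sr_self]; ring
        · intro q _ hq; rw [sr_ne hq]; ring
        · intro hq; exact absurd (Finset.mem_univ a) hq
      rw [this] at h1
      omega
    · have h1 : rep cs h (cs.simple a * cs.simple j') (sr c) c ≤ (0 : ℤ) := hall c c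
      rw [rep_mul_apply, rep_simple_apply cs h a _ c hc, rep_simple_apply cs h j' _ c hcj, sr_self] at h1
      omega

/-- **Theorem A** -/
theorem le_PJ_of_index [Finite W] [Finite Y] [Fact p.Prime] (hC : CommGen cs h X)
    (hconn : ∀ J : Set I, J.Nonempty → J ≠ Set.univ → ∃ a ∈ J, ∃ b, b ∉ J ∧ M a b ≠ 2) [Nontrivial I]
    {P : Subgroup Y} (hG : P ≤ GG cs h T X) (hP : Hyp cs h X p P) :
    ∃ K : Set I, K ≠ Set.univ ∧ P ≤ PJ cs h T X K := by
  have key : ∀ K : Set I, (∀ w ∈ WM R.nsys cs h X P, w ∈ WJ cs K) → P ≤ PJ cs h T X K := by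
    intro K hK g hg
    obtain ⟨w, hw⟩ := (mem_GG R).1 (hG hg)
    rw [mem_PJ_iff_cell R]
    exact ⟨w, hK w ⟨g, hg, hw⟩, hw⟩
  set J : Set I := {i | cs.simple i ∈ WM R.nsys cs h X P} with hJdef
  set S : Set I := {i | ¬ X (sr i) ≤ P} with hSdef
  by_cases hJS : J ∪ S = Set.univ
  swap
  · exact ⟨J ∪ S, hJS, key _ fun w hw => mem_WJ_of_WM R hC hP hw⟩
  have hSne : S.Nonempty := by
    by_contra hemp
    rw [Set.not_nonempty_iff_eq_empty] at hemp
    refine hP.nosyl 1 ?_
    rw [cj_one]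
    refine RGD.Sup_le fun x hx => ?_
    by_cases hs : ∀ j, x ≠ sr j
    · exact X_le_of_nonsimple R hC hP hx.1 hx.2 hs
    · push Not at hs
      obtain ⟨j, rfl⟩ := hs
      by_contra hcon
      have : j ∈ S := hcon
      rw [hemp] at this
      exact this
  have hadj : ∀ j ∈ J, ∀ s, j ≠ s → M j s ≠ 2 → s ∉ S := by
    intro j hj s hjs hM hs
    exact hs (claim1 R hC hP hj hjs hM)
  have hJe : J = ∅ := by
    by_contra hJne
    have hJne' : J.Nonempty := Set.nonempty_iff_ne_empty.2 hJne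
    by_cases hJu : J = Set.univ
    · obtain ⟨s, hs⟩ := hSne
      obtain ⟨a, ha, c, hc, hM⟩ := hconn {s} ⟨s, rfl⟩ (fun h1 => by
        obtain ⟨q, hq⟩ := exists_ne s
        have : q ∈ ({s} : Set I) := by rw [h1]; trivial
        exact hq this)
      rw [Set.mem_singleton_iff] at ha hc
      subst ha
      exact hadj c (by rw [hJu]; trivial) a hc (by rwa [M.symmetric]) hs
    · obtain ⟨a, ha, c, hc, hM⟩ := hconn J hJne' hJu
      have hcS : c ∈ S := by
        have : c ∈ J ∪ S := by rw [hJS]; trivial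
        exact this.resolve_left hc
      exact hadj a ha c (fun h1 => hc (h1 ▸ ha)) hM hcS
  have hSu : ∀ i, ¬ X (sr i) ≤ P := by
    intro i
    have : i ∈ J ∪ S := by rw [hJS]; trivial
    rw [hJe, Set.empty_union] at this
    exact this
  have hJ' : ∀ i, cs.simple i ∉ WM R.nsys cs h X P := by
    intro i hi
    have : i ∈ J := hi
    rw [hJe] at this
    exact this
  refine ⟨∅, ?_, key _ fun w hw => ?_⟩
  · obtain ⟨i⟩ : Nonempty I := inferInstance
    exact fun h1 => Set.notMem_empty i (by rw [h1]; trivial)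
  · rw [claim4 R hC hconn hP hJ' hSu hw]
    exact one_mem _

end Cfsg.Agent.H396.ThmA
end

-- part: H396/HasCG
section
/-!
# Subgroups of index not divisible by `p ^ 2` in groups of Lie type of characteristic `p` (helper396)

* `HasCG p G` : `G` has a root group datum of characteristic `p` and rank `≥ 2` with connected diagram, generation and
  `CommGen` (the non-simple positive root groups lie in `⁅U, U⁆`);
* `Par p G` : every proper subgroup of index not divisible by `p ^ 2` is contained in a proper subgroup of index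
  prime to `p` normalising a nontrivial `p`-subgroup of itself;
* `HasCG.par`.
-/

set_option autoImplicit false
set_option linter.unusedSectionVars false

namespace Cfsg.Agent.H396

open CoxeterSystem Cfsg.Agent.ChevalleyStructure.CoxeterGeom Cfsg.Agent.Tits.Roots Cfsg.Agent.Tits.Core
  Cfsg.Agent.Tits.RootComb Cfsg.Agent.Tits.Exchange Cfsg.Agent.Nodes.Reps Cfsg.Agent.Nodes.BNOf
  Cfsg.Agent.Nodes.StabComb Cfsg.Agent.Nodes.Bruhat Cfsg.Agent.Nodes.OppDec Cfsg.Agent.Nodes.LeviDec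
  Cfsg.Agent.Omega.EH3.Kf.Lev

/-- connected diagram -/
def Conn {I : Type*} (M : CoxeterMatrix I) : Prop :=
  ∀ J : Set I, J.Nonempty → J ≠ Set.univ → ∃ a ∈ J, ∃ b, b ∉ J ∧ M a b ≠ 2

/-- root group datum of rank `≥ 2` with `CommGen`, connected diagram, generating -/
def HasCG (p : ℕ) (G : Type*) [Group G] : Prop :=
  ∃ (l : ℕ) (M : CoxeterMatrix (Fin l)) (A : Fin l → Fin l → ℤ) (h : IsCartan M A) (T : Subgroup G) (n : Fin l → G)
    (X : (Fin l → ℤ) → Subgroup G), 2 ≤ l ∧ Finite M.Group ∧ RGD M.toCoxeterSystem h p T n X ∧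
      Nodes.RGDLib.G1 M.toCoxeterSystem h X = ⊤ ∧ CommGen M.toCoxeterSystem h X ∧ Conn M

theorem HasCG.of_equiv {p : ℕ} {G H : Type*} [Group G] [Group H] (e : G ≃* H) (hG : HasCG p G) : HasCG p H := by
  obtain ⟨l, M, A, h, T, n, X, hl, hW, R, hX, hC, hM⟩ := hG
  refine ⟨l, M, A, h, T.map e.toMonoidHom, fun i => e (n i), fun x => (X x).map e.toMonoidHom, hl, hW,
    Nodes.RGDLib.rgd_map_of_injective R e.toMonoidHom e.injective, ?_, ?_, hM⟩
  · have h1 : (Nodes.RGDLib.G1 M.toCoxeterSystem h X).map e.toMonoidHom =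
        Nodes.RGDLib.G1 M.toCoxeterSystem h (fun x => (X x).map e.toMonoidHom) := by
      unfold Nodes.RGDLib.G1 RGD.Sup
      rw [Subgroup.map_iSup]
    rw [← h1, hX, Subgroup.map_top_of_surjective _ e.surjective]
  · intro r hr h0 hs
    have h1 : (RGD.Sup X (RGD.Pos M.toCoxeterSystem h)).map e.toMonoidHom =
        RGD.Sup (fun x => (X x).map e.toMonoidHom) (RGD.Pos M.toCoxeterSystem h) := by
      unfold RGD.Sup
      rw [Subgroup.map_iSup]
    rw [← h1, ← Subgroup.map_commutator]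
    exact Subgroup.map_mono (hC r hr h0 hs)

/-- every proper subgroup of index not divisible by `p ^ 2` is in a proper subgroup of index prime to `p` which
normalises a nontrivial `p`-subgroup of itself -/
def Par (p : ℕ) (G : Type*) [Group G] : Prop :=
  ∀ M : Subgroup G, M ≠ ⊤ → ¬ p ^ 2 ∣ M.index → ∃ P : Subgroup G, M ≤ P ∧ P ≠ ⊤ ∧ ¬ p ∣ P.index ∧
    ∃ V : Subgroup G, V ≠ ⊥ ∧ IsPGroup p V ∧ V ≤ P ∧ P ≤ Subgroup.normalizer (V : Set G)

theorem mem_normalizer_map {G H : Type*} [Group G] [Group H] (e : G ≃* H) {P V : Subgroup G}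
    (h : P ≤ Subgroup.normalizer (V : Set G)) :
    P.map e.toMonoidHom ≤ Subgroup.normalizer ((V.map e.toMonoidHom : Subgroup H) : Set H) := by
  rintro _ ⟨x, hx, rfl⟩
  rw [Subgroup.mem_normalizer_iff]
  intro y
  obtain ⟨z, rfl⟩ := e.surjective y
  have h1 := Subgroup.mem_normalizer_iff.1 (h hx) z
  have hmem : ∀ z : G, e z ∈ V.map e.toMonoidHom ↔ z ∈ V := fun z =>
    ⟨fun ⟨w, hw, hwz⟩ => by rwa [← e.injective hwz], fun hz => ⟨z, hz, rfl⟩⟩
  have h2 : (e.toMonoidHom x) * e z * (e.toMonoidHom x)⁻¹ = e (x * z * x⁻¹) := by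
    rw [map_mul, map_mul, map_inv]; rfl
  rw [h2, hmem, hmem]
  exact h1

theorem Par.of_equiv {p : ℕ} {G H : Type*} [Group G] [Group H] (e : G ≃* H) (hG : Par p G) : Par p H := by
  intro M hM hidx
  have hi : (M.comap e.toMonoidHom).index = M.index := Subgroup.index_comap_of_surjective M e.surjective
  have hmc : (M.comap e.toMonoidHom).map e.toMonoidHom = M :=
    Subgroup.map_comap_eq_self_of_surjective (f := e.toMonoidHom) e.surjective M
  obtain ⟨P, hMP, hP, hPi, V, hV, hVp, hVP, hPV⟩ := hG (M.comap e.toMonoidHom) (fun h1 => hM (by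
    rw [← hmc, h1, Subgroup.map_top_of_surjective _ e.surjective])) (by rwa [hi])
  refine ⟨P.map e.toMonoidHom, ?_, ?_, ?_, V.map e.toMonoidHom, ?_, hVp.map _, Subgroup.map_mono hVP,
    mem_normalizer_map e hPV⟩
  · rw [← hmc]; exact Subgroup.map_mono hMP
  · intro h1
    apply hP
    rw [eq_top_iff]
    intro x _
    have h2 : e x ∈ P.map e.toMonoidHom := by rw [h1]; trivial
    obtain ⟨y, hy, hyx⟩ := h2
    rwa [← e.injective hyx]
  · rwa [show (P.map e.toMonoidHom).index = P.index from Subgroup.index_map_equiv P e]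
  · intro h1
    exact hV ((Subgroup.map_eq_bot_iff_of_injective _ e.injective).1 h1)

/-- conjugation into the position of Theorem A -/
theorem exists_conj_index {G : Type*} [Group G] [Finite G] {p : ℕ} [hp : Fact p.Prime] {U M : Subgroup G}
    (hU : IsPGroup p U) (hUi : ¬ p ∣ U.index) (h1 : p ∣ M.index) (h2 : ¬ p ^ 2 ∣ M.index) :
    ∃ g : G, (cj g M).relIndex U = p ∧ ∀ x : G, ¬ cj x U ≤ cj g M := by
  obtain ⟨S⟩ : Nonempty (Sylow p ↥M) := inferInstance
  let S' : Subgroup G := (S : Subgroup ↥M).map M.subtype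
  have hS' : IsPGroup p S' := S.isPGroup'.map _
  have hS'i : S'.index = (S : Subgroup ↥M).index * M.index := Subgroup.index_map_subtype (S : Subgroup ↥M)
  have hS'p : ¬ p ^ 2 ∣ S'.index := by
    rw [hS'i]
    intro h3
    have h4 : Nat.Coprime (p ^ 2) (S : Subgroup ↥M).index :=
      ((Nat.Prime.coprime_iff_not_dvd hp.out).2 S.not_dvd_index).pow_left 2
    exact h2 (h4.dvd_of_dvd_mul_left h3)
  obtain ⟨g, hg⟩ := H248.Ovg.exists_conj_le hS' hUi
  have hcjidx : ∀ (x : G) (A : Subgroup G), (cj x A).index = A.index := fun x A =>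
    Subgroup.index_map_equiv A (MulAut.conj x)
  have hno : ∀ x : G, ¬ cj x U ≤ cj g M := by
    intro x hx
    have h3 := Subgroup.index_dvd_of_le hx
    rw [hcjidx, hcjidx] at h3
    exact hUi (h1.trans h3)
  refine ⟨g, ?_, hno⟩
  obtain ⟨k, hk⟩ := hU.index ((cj g M).subgroupOf U)
  have hk' : (cj g M).relIndex U = p ^ k := hk
  have hk0 : k ≠ 0 := by
    rintro rfl
    rw [pow_zero, Subgroup.relIndex_eq_one] at hk'
    exact hno 1 (by rwa [cj_one])
  have hk2 : k < 2 := by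
    by_contra hcon
    push Not at hcon
    apply hS'p
    have h3 : cj g S' ≤ cj g M ⊓ U := le_inf (cj_mono g (Subgroup.map_subtype_le _)) hg
    have h4 := Subgroup.index_dvd_of_le h3
    rw [hcjidx] at h4
    have h5 : (cj g M ⊓ U).index = (cj g M).relIndex U * U.index := by
      rw [← Subgroup.inf_relIndex_right]
      exact (Subgroup.relIndex_mul_index inf_le_right).symm
    rw [h5, hk'] at h4
    exact ((pow_dvd_pow p hcon).trans (dvd_mul_right _ _)).trans h4
  have hk1 : k = 1 := by omega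
  rw [hk', hk1, pow_one]

section RGD

variable {I W Y : Type*} [Fintype I] [DecidableEq I] [Group W] [Group Y] {M : CoxeterMatrix I}
  {cs : CoxeterSystem M W} {A : I → I → ℤ} {h : IsCartan M A} {p : ℕ} {T : Subgroup Y} {n : I → Y}
  {X : (I → ℤ) → Subgroup Y}

theorem not_mem_WJ {i : I} {K : Set I} (hi : i ∉ K) (h : IsCartan M A) : cs.simple i ∉ WJ cs K := by
  intro h1
  have h2 := rep_apply_of_mem cs h h1 (sr i) hi
  rw [rep_simple_sr, Pi.neg_apply, sr_self] at h2
  omega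

variable (R : RGD cs h p T n X)
include R

theorem PJ_ne_top [Finite W] {K : Set I} (hK : K ≠ Set.univ) : PJ cs h T X K ≠ ⊤ := by
  obtain ⟨i, hi⟩ := (Set.ne_univ_iff_exists_notMem _).1 hK
  intro h1
  have h2 : n i ∈ PJ cs h T X K := by rw [h1]; trivial
  rw [cell_mem_PJ_iff R (cell_of_rp (rp_simple cs R.nsys i))] at h2
  exact not_mem_WJ hi h h2

theorem VJ_ne_bot [Finite W] {K : Set I} (hK : K ≠ Set.univ) : VJ cs h X K ≠ ⊥ := by
  obtain ⟨i, hi⟩ := (Set.ne_univ_iff_exists_notMem _).1 hK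
  intro h1
  obtain ⟨u, hu, hu1⟩ := exists_ne_one R i
  have h2 : u ∈ VJ cs h X K := RGD.le_Sup (S := NotJ cs h K) (sr_mem_NotJ hi) hu
  rw [h1, Subgroup.mem_bot] at h2
  exact hu1 h2

theorem par_of_rgd [Finite W] [Finite Y] [Fact p.Prime] (hG : Nodes.RGDLib.G1 cs h X = ⊤) (hC : CommGen cs h X)
    (hM : Conn M) [Nontrivial I] : Par p Y := by
  have hGG : GG cs h T X = ⊤ := by
    rw [eq_top_iff, ← hG]
    exact le_sup_right
  have hUi : ¬ p ∣ (RGD.Sup X (RGD.Pos cs h)).index := by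
    have h1 := KFacts.RgdSyl.not_dvd_relIndex R
    rwa [hGG, Subgroup.relIndex_top_right] at h1
  have hcjidx : ∀ (x : Y) (A : Subgroup Y), (cj x A).index = A.index := fun x A =>
    Subgroup.index_map_equiv A (MulAut.conj x)
  -- it is enough to find a conjugate of `P` in a proper parabolic subgroup
  have key : ∀ (P : Subgroup Y) (g : Y) (K : Set I), K ≠ Set.univ → cj g P ≤ PJ cs h T X K →
      ∃ Q : Subgroup Y, P ≤ Q ∧ Q ≠ ⊤ ∧ ¬ p ∣ Q.index ∧
        ∃ V : Subgroup Y, V ≠ ⊥ ∧ IsPGroup p V ∧ V ≤ Q ∧ Q ≤ Subgroup.normalizer (V : Set Y) := by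
    intro P g K hK hle
    refine ⟨cj g⁻¹ (PJ cs h T X K), ?_, ?_, ?_, cj g⁻¹ (VJ cs h X K), ?_, ?_, cj_mono _ VJ_le_PJ, ?_⟩
    · rw [← cj_le_cj_iff g, cj_cj_inv]; exact hle
    · intro h1
      have h2 : (cj g⁻¹ (PJ cs h T X K)).index = 1 := by rw [h1, Subgroup.index_top]
      rw [hcjidx, Subgroup.index_eq_one] at h2
      exact PJ_ne_top R hK h2
    · rw [hcjidx]
      intro h1
      refine hUi (h1.trans (Subgroup.index_dvd_of_le ?_))
      exact RGD.U_le_B.trans B_le_PJ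
    · intro h1
      exact VJ_ne_bot R hK ((Subgroup.map_eq_bot_iff_of_injective _ (MulAut.conj g⁻¹).injective).1 h1)
    · have h1 : IsPGroup p (VJ cs h X K) := R.isPGroup_of_pos (S := NotJ cs h K) fun _ hx => ⟨hx.1, hx.2.1⟩
      exact h1.map _
    · exact mem_normalizer_map (MulAut.conj g⁻¹) (PJ_le_normalizer_VJ R K)
  intro P hP hidx
  by_cases hpi : p ∣ P.index
  · obtain ⟨g, h1, h2⟩ := exists_conj_index R.isPGroup_Upos hUi hpi hidx
    obtain ⟨K, hK, hle⟩ := ThmA.le_PJ_of_index R hC hM (P := cj g P) (by rw [hGG]; exact le_top) ⟨h1, h2⟩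
    exact key P g K hK hle
  · obtain ⟨g, hg⟩ := H248.Ovg.exists_conj_le (R.isPGroup_Upos) hpi
    have hU : RGD.Sup X (RGD.Pos cs h) ≤ cj g⁻¹ P := by
      rw [← cj_le_cj_iff g, cj_cj_inv]; exact hg
    by_cases hJ : H248.TitsRGD.JU T n (cj g⁻¹ P) = Set.univ
    · exfalso
      have h1 := H248.TitsRGD.Sup_le_of_univ R hU hJ
      have h2 : cj g⁻¹ P = ⊤ := by
        rw [eq_top_iff, ← hG]; exact h1
      have h3 : (cj g⁻¹ P).index = 1 := by rw [h2, Subgroup.index_top]
      rw [hcjidx, Subgroup.index_eq_one] at h3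
      exact hP h3
    · exact key P g⁻¹ _ hJ (H248.TitsRGD.le_PJ R hU (by rw [hGG]; exact le_top))

end RGD

theorem HasCG.par {p : ℕ} [Fact p.Prime] {G : Type*} [Group G] [Finite G] (hG : HasCG p G) : Par p G := by
  obtain ⟨l, M, A, h, T, n, X, hl, hW, R, hX, hC, hM⟩ := hG
  have : Nontrivial (Fin l) := by
    obtain ⟨k, rfl⟩ : ∃ k, l = k + 2 := ⟨l - 2, by omega⟩
    infer_instance
  exact par_of_rgd R hX hC hM

/-- a maximal subgroup of index not divisible by `p ^ 2` has index prime to `p` and normalises a nontrivial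
`p`-subgroup of itself -/
theorem Par.of_isCoatom {p : ℕ} {G : Type*} [Group G] (hG : Par p G) {M : Subgroup G} (hM : IsCoatom M)
    (hidx : ¬ p ^ 2 ∣ M.index) : ¬ p ∣ M.index ∧
    ∃ V : Subgroup G, V ≠ ⊥ ∧ IsPGroup p V ∧ V ≤ M ∧ M ≤ Subgroup.normalizer (V : Set G) := by
  obtain ⟨P, hMP, hP, hPi, V, hV, hVp, hVP, hPV⟩ := hG M hM.1 hidx
  have h1 : M = P := by
    by_contra hne
    exact hP (hM.2 P (lt_of_le_of_ne hMP hne))
  subst h1
  exact ⟨hPi, V, hV, hVp, hVP, hPV⟩

end Cfsg.Agent.H396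
end

private theorem dce_de23e0474894 : _root_.True := by
  try have : _root_.True := by simp only [_root_.Cfsg.Agent.H396.Desc.congr_simp]
  exact _root_.True.intro
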