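import Mathlib
import Cfsg.Agent.H396.HasCG
import Cfsg.Agent.H396.Der
import Cfsg.Agent.Mrg.Omega.EH3.Kf.InL_m3
import Cfsg.Agent.KFacts.RgdSyl
import Cfsg.Agent.FastGrp
import Cfsg.Agent.Prune
set_option linter.all false

section
prune_inst 0x7f00000000000000000000000000000000000000000000000000000000000000000000000000000000000000000000000000000000000000000000000000000000000000000000000000000000000000003fffffffffffffffffffffffffffbeffbdffffffff

-- part: H396/Crit
section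
set_option linter.all false
open scoped Cfsg.Agent.FastGrp

/-!
# The orders of the parabolic subgroups modulo a prime (helper396)

If the prime `u` divides `|P_J|` but not `|B|`, then `u ∣ |U_{J'}| - (-1)^{|J'|}` for some nonempty connected
`J' ⊆ J` (alternating sum formula of Solomon). Criterion `der_of_rgd`.
-/

set_option autoImplicit false
set_option linter.unusedSectionVars false

namespace Cfsg.Agent.H396.Crit

open CoxeterSystem Cfsg.Agent.ChevalleyStructure.CoxeterGeom Cfsg.Agent.Tits.Roots Cfsg.Agent.Tits.Core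
  Cfsg.Agent.Tits.RootComb Cfsg.Agent.Tits.Exchange Cfsg.Agent.Nodes.Reps Cfsg.Agent.Nodes.BNOf
  Cfsg.Agent.Nodes.StabComb Cfsg.Agent.Nodes.Bruhat Cfsg.Agent.Nodes.OppDec Cfsg.Agent.Nodes.LeviDec
  Cfsg.Agent.Omega.EH3.Kf.Lev

/-- counting: `S` a union of cosets of `B`, `Q = S P`, `a' = a k` implies `k ∈ B`. -/
theorem card_mul {Y : Type*} [Group Y] [Fintype Y] [DecidableEq Y] (S : Finset Y) {P Q B : Subgroup Y}
    (hSB : ∀ a ∈ S, ∀ b ∈ B, a * b ∈ S) (hBP : B ≤ P)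
    (hQ : ∀ a ∈ S, ∀ k ∈ P, a * k ∈ Q) (hex : ∀ g ∈ Q, ∃ a ∈ S, ∃ k ∈ P, g = a * k)
    (huniq : ∀ a ∈ S, ∀ a' ∈ S, ∀ k ∈ P, a' = a * k → k ∈ B) :
    S.card * Nat.card P = Nat.card Q * Nat.card B := by
  classical
  have hc : ∀ H : Subgroup Y, Nat.card H = (Finset.univ.filter (· ∈ H)).card := by
    intro H
    rw [Nat.card_eq_fintype_card, ← Fintype.card_subtype]
  rw [hc P, hc Q, hc B, ← Finset.card_product]
  rw [Finset.card_eq_sum_card_fiberwise (f := fun x : Y × Y => x.1 * x.2) (t := Finset.univ.filter (· ∈ Q))]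
  · rw [Finset.sum_const_nat (m := (Finset.univ.filter (· ∈ B)).card)]
    intro g hg
    simp only [Finset.mem_filter, Finset.mem_univ, true_and] at hg
    obtain ⟨a, ha, k, hk, rfl⟩ := hex g hg
    symm
    refine Finset.card_bij (fun b _ => (a * b, b⁻¹ * k)) ?_ ?_ ?_
    · intro b hb
      simp only [Finset.mem_filter, Finset.mem_univ, true_and] at hb
      simp only [Finset.mem_filter, Finset.mem_product, Finset.mem_univ, true_and]
      exact ⟨⟨hSB a ha b hb, mul_mem (inv_mem (hBP hb)) hk⟩, by group⟩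
    · intro b _ b' _ h
      exact mul_left_cancel (Prod.ext_iff.1 h).1
    · rintro ⟨a', k'⟩ h
      simp only [Finset.mem_filter, Finset.mem_product, Finset.mem_univ, true_and] at h
      obtain ⟨⟨ha', hk'⟩, he⟩ := h
      have h1 : a' = a * (k * k'⁻¹) := by rw [← mul_assoc, ← he]; group
      refine ⟨k * k'⁻¹, ?_, ?_⟩
      · simp only [Finset.mem_filter, Finset.mem_univ, true_and]
        exact huniq a ha a' ha' _ (mul_mem hk (inv_mem hk')) h1
      · rw [← h1]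
        refine Prod.ext rfl ?_
        show (k * k'⁻¹)⁻¹ * k = k'
        group
  · rintro ⟨a, k⟩ h
    simp only [Finset.coe_product, Finset.coe_filter, Finset.mem_univ, true_and, Set.mem_prod, Finset.mem_coe,
      Set.mem_ofPred_eq] at h ⊢
    exact hQ a h.1 k h.2

variable {I W Y : Type*} [Fintype I] [DecidableEq I] [Group W] [Group Y] {M : CoxeterMatrix I}
  {cs : CoxeterSystem M W} {A : I → I → ℤ} {h : IsCartan M A} {p : ℕ} {T : Subgroup Y} {n : I → Y}
  {X : (I → ℤ) → Subgroup Y}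

/-- an element of `W_J` with all descents is the longest one -/
theorem eq_wJ_of_desc [Finite W] {J : Set I} {w : W} (hw : w ∈ WJ cs J)
    (hd : ∀ i ∈ J, cs.length (w * cs.simple i) < cs.length w) : w = wJ cs J := by
  have hl := isLongest_wJ cs J
  have h1 : IsMinR cs J (wJ cs J * w) := by
    rw [isMinR_iff]
    intro i hi
    have h2 := (hl.2 w hw).1
    have h3 := (hl.2 (w * cs.simple i) (mul_mem hw (simple_mem_WJ cs hi))).1
    have h4 := hd i hi
    rw [← mul_assoc] at h3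
    omega
  have h2 := h1 _ (inv_mem (mul_mem hl.1 hw))
  rw [mul_inv_cancel, cs.length_one] at h2
  have h3 : wJ cs J * w = 1 := cs.length_eq_zero_iff.1 (by omega)
  rw [← hl.inv_eq]
  exact eq_inv_of_mul_eq_one_right h3

/-- `W_J ∩ W_K = 1` for disjoint `J`, `K` -/
theorem eq_one_of_mem_WJ {J K : Set I} (hJK : Disjoint J K) (h : IsCartan M A) {w : W} (h1 : w ∈ WJ cs J)
    (h2 : w ∈ WJ cs K) : w = 1 := by
  refine eq_one_of_nonneg cs h w fun k => ?_
  have h3 : rep cs h w (sr k) = sr k := by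
    funext q
    by_cases hq : q ∈ J
    · exact rep_apply_of_mem cs h h2 _ (Set.disjoint_left.1 hJK hq)
    · exact rep_apply_of_mem cs h h1 _ hq
  show 0 ≤ rep cs h w (sr k)
  rw [h3]
  exact sr_nonneg k


section Comb

variable [Finite W]

omit [Finite W] in
theorem rep_simple_sr_of_two (h : IsCartan M A) {i j : I} (hM : M i j = 2) (hij : i ≠ j) :
    rep cs h (cs.simple i) (sr j) = sr j := by
  rw [rep_simple_eq]
  have : pairing A i (sr j) = 0 := by
    unfold pairing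
    rw [Finset.sum_eq_single j]
    · rw [sr_self, mul_one]; exact cartan_zero h hij hM
    · intro q _ hq; rw [sr_ne hq]; ring
    · intro hq; exact absurd (Finset.mem_univ j) hq
  rw [this, zero_smul, sub_zero]

omit [Finite W] in
/-- `W_J` fixes `α_j` if `j ∉ J` is joined to no node of `J` -/
theorem rep_sr_of_comm (h : IsCartan M A) {J : Set I} {j : I} (hj : j ∉ J) (hM : ∀ i ∈ J, M i j = 2) {w : W}
    (hw : w ∈ WJ cs J) : rep cs h w (sr j) = sr j := by
  induction hw using Subgroup.closure_induction with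
  | mem y hy =>
    obtain ⟨i, hi, rfl⟩ := hy
    exact rep_simple_sr_of_two h (hM i hi) (by rintro rfl; exact hj hi)
  | one => rw [map_one]; rfl
  | mul x y _ _ hx hy => rw [rep_mul_apply, hy, hx]
  | inv x _ hx =>
    have := rep_inv_apply cs h x (sr j)
    rwa [hx] at this

omit [Finite W] in
/-- a product decomposition with additive lengths -/
theorem exists_mul_of_comm (h : IsCartan M A) {J K : Set I} (hJK : Disjoint J K)
    (hM : ∀ i ∈ J, ∀ j ∈ K, M i j = 2) {w : W} (hw : w ∈ WJ cs (J ∪ K)) :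
    ∃ w₁ ∈ WJ cs J, ∃ w₂ ∈ WJ cs K, w = w₁ * w₂ ∧ cs.length (w₁ * w₂) = cs.length w₁ + cs.length w₂ := by
  have hcomm : ∀ a ∈ WJ cs J, ∀ b ∈ WJ cs K, a * b = b * a := by
    have h1 : ∀ i ∈ J, ∀ j ∈ K, cs.simple i * cs.simple j = cs.simple j * cs.simple i := by
      intro i hi j hj
      have h2 := cs.simple_mul_simple_pow i j
      rw [hM i hi j hj, pow_two] at h2
      have h3 : (cs.simple i * cs.simple j) = (cs.simple i * cs.simple j)⁻¹ := eq_inv_of_mul_eq_one_left h2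
      rwa [mul_inv_rev, inv_simple, inv_simple] at h3
    intro a ha b hb
    have h4 : WJ cs J ≤ Subgroup.centralizer (WJ cs K : Set W) := by
      unfold WJ
      rw [Subgroup.closure_le]
      rintro _ ⟨i, hi, rfl⟩
      rw [SetLike.mem_coe, Subgroup.mem_centralizer_iff]
      intro b hb
      rw [SetLike.mem_coe] at hb
      induction hb using Subgroup.closure_induction with
      | mem y hy =>
        obtain ⟨j, hj, rfl⟩ := hy
        exact (h1 i hi j hj).symm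
      | one => rw [one_mul, mul_one]
      | mul x y _ _ hx hy => rw [mul_assoc, hy, ← mul_assoc, hx, mul_assoc]
      | inv x _ hx =>
        rw [inv_mul_eq_iff_eq_mul, ← mul_assoc, hx, mul_assoc, mul_inv_cancel, mul_one]
    exact (Subgroup.mem_centralizer_iff.1 (h4 ha) b hb).symm
  have hmul : ∃ w₁ ∈ WJ cs J, ∃ w₂ ∈ WJ cs K, w = w₁ * w₂ := by
    induction hw using Subgroup.closure_induction with
    | mem y hy =>
      obtain ⟨i, hi | hi, rfl⟩ := hy
      · exact ⟨_, simple_mem_WJ cs hi, 1, one_mem _, by rw [mul_one]⟩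
      · exact ⟨1, one_mem _, _, simple_mem_WJ cs hi, by rw [one_mul]⟩
    | one => exact ⟨1, one_mem _, 1, one_mem _, by rw [mul_one]⟩
    | mul x y _ _ hx hy =>
      obtain ⟨a, ha, b, hb, rfl⟩ := hx
      obtain ⟨c, hc, d, hd, rfl⟩ := hy
      refine ⟨a * c, mul_mem ha hc, b * d, mul_mem hb hd, ?_⟩
      calc a * b * (c * d) = a * (b * c) * d := by group
        _ = a * (c * b) * d := by rw [hcomm c hc b hb]
        _ = a * c * (b * d) := by group
    | inv x _ hx =>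
      obtain ⟨a, ha, b, hb, rfl⟩ := hx
      exact ⟨a⁻¹, inv_mem ha, b⁻¹, inv_mem hb, by rw [mul_inv_rev, hcomm _ (inv_mem ha) _ (inv_mem hb)]⟩
  obtain ⟨w₁, h1, w₂, h2, e⟩ := hmul
  refine ⟨w₁, h1, w₂, h2, e, ?_⟩
  have h3 : IsMinR cs K w₁ := by
    rw [isMinR_iff]
    intro j hj
    rw [lt_iff' cs h]
    change 0 ≤ rep cs h w₁ (sr j)
    rw [rep_sr_of_comm h (Set.disjoint_right.1 hJK hj) (fun i hi => hM i hi j hj) h1]
    exact sr_nonneg j
  exact h3 w₂ h2

end Comb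

variable (R : RGD cs h p T n X)
include R

/-- `|B| = |T| |U|` -/
theorem card_B [Finite W] [Finite Y] : Nat.card T * Nat.card (RGD.Sup X (RGD.Pos cs h)) =
    Nat.card (RGD.B cs h T X) := by
  classical
  have : Fintype Y := Fintype.ofFinite Y
  have h1 := card_mul (Finset.univ.filter (· ∈ T)) (P := RGD.Sup X (RGD.Pos cs h)) (Q := RGD.B cs h T X)
    (B := ⊥) ?_ bot_le ?_ ?_ ?_
  · rw [Subgroup.card_bot, mul_one] at h1
    rw [← h1, Nat.card_eq_fintype_card, ← Fintype.card_subtype]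
  · intro a ha b hb
    rw [Subgroup.mem_bot.1 hb, mul_one]; exact ha
  · intro a ha k hk
    exact mul_mem (RGD.T_le_B (by simpa using ha)) (RGD.U_le_B hk)
  · intro g hg
    obtain ⟨t, ht, v, hv, e⟩ := R.mem_B.1 hg
    exact ⟨t, by simpa using ht, v, hv, e⟩
  · intro a ha a' ha' k hk e
    have ha1 : a ∈ T := by simpa using ha
    have ha2 : a' ∈ T := by simpa using ha'
    have h2 : k ∈ T := by
      have : k = a⁻¹ * a' := by rw [e]; group
      rw [this]; exact mul_mem (inv_mem ha1) ha2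
    rw [← U_inf_T R]
    exact ⟨hk, h2⟩

/-- `|P_J| |B| = |P_{J₁}| |P_{J₂}|` if no node of `J₁` is joined to a node of `J₂` -/
theorem card_PJ_mul [Finite W] [Finite Y] {J K : Set I} (hJK : Disjoint J K) (hM : ∀ i ∈ J, ∀ j ∈ K, M i j = 2) :
    Nat.card (PJ cs h T X J) * Nat.card (PJ cs h T X K) =
      Nat.card (PJ cs h T X (J ∪ K)) * Nat.card (RGD.B cs h T X) := by
  classical
  have : Fintype Y := Fintype.ofFinite Y
  have h1 := card_mul (Finset.univ.filter (· ∈ PJ cs h T X J)) (P := PJ cs h T X K) (Q := PJ cs h T X (J ∪ K))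
    (B := RGD.B cs h T X) ?_ B_le_PJ ?_ ?_ ?_
  · rw [← h1, Nat.card_eq_fintype_card, ← Fintype.card_subtype]
  · intro a ha b hb
    simp only [Finset.mem_filter, Finset.mem_univ, true_and] at ha ⊢
    exact mul_mem ha (B_le_PJ hb)
  · intro a ha k hk
    simp only [Finset.mem_filter, Finset.mem_univ, true_and] at ha
    obtain ⟨w, hw, ca⟩ := (mem_PJ_iff_cell R).1 ha
    obtain ⟨v, hv, ck⟩ := (mem_PJ_iff_cell R).1 hk
    exact mul_mem ((mem_PJ_iff_cell R).2 ⟨w, WJ_mono cs Set.subset_union_left hw, ca⟩)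
      ((mem_PJ_iff_cell R).2 ⟨v, WJ_mono cs Set.subset_union_right hv, ck⟩)
  · intro g hg
    obtain ⟨w, hw, b₁, hb₁, k, hk, b₂, hb₂, rfl⟩ := (mem_PJ_iff_cell R).1 hg
    obtain ⟨w₁, h1, w₂, h2, rfl, -⟩ := exists_mul_of_comm h hJK hM hw
    obtain ⟨k₁, hk₁⟩ := exists_rp (cs := cs) (hN := R.nsys) w₁
    have hk₂ : Rp cs R.nsys w₂ (k₁⁻¹ * k) := by
      have := hk₁.inv.mul hk
      rwa [inv_mul_cancel_left] at this
    refine ⟨b₁ * k₁, ?_, (k₁⁻¹ * k) * b₂, ?_, by group⟩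
    · simp only [Finset.mem_filter, Finset.mem_univ, true_and]
      exact (mem_PJ_iff_cell R).2 ⟨w₁, h1, b₁, hb₁, k₁, hk₁, 1, one_mem _, by rw [mul_one]⟩
    · exact (mem_PJ_iff_cell R).2 ⟨w₂, h2, 1, one_mem _, _, hk₂, b₂, hb₂, by rw [one_mul]⟩
  · intro a ha a' ha' k hk e
    simp only [Finset.mem_filter, Finset.mem_univ, true_and] at ha ha'
    have h2 : k ∈ PJ cs h T X J := by
      have : k = a⁻¹ * a' := by rw [e]; group
      rw [this]; exact mul_mem (inv_mem ha) ha'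
    obtain ⟨w, hw, ck⟩ := (mem_PJ_iff_cell R).1 hk
    have h3 := (cell_mem_PJ_iff R ck).1 h2
    rw [eq_one_of_mem_WJ hJK h h3 hw] at ck
    exact ck.mem_of_one

/-! ### the alternating sum -/

/-- the nodes of `J` which are not descents of the position of `g` -/
noncomputable def NS [Finite W] (J : Finset I) (g : Y) : Finset I :=
  open Classical in J.filter fun i => ∃ w, Cell R.nsys cs h X w g ∧ cs.length w < cs.length (w * cs.simple i)

theorem mem_NS [Finite W] {J : Finset I} {g : Y} {w : W} (hg : Cell R.nsys cs h X w g) {i : I} :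
    i ∈ NS R J g ↔ i ∈ J ∧ cs.length w < cs.length (w * cs.simple i) := by
  classical
  unfold NS
  rw [Finset.mem_filter]
  constructor
  · rintro ⟨h1, w', h2, h3⟩
    rw [Cell.unique R h2 hg] at h3
    exact ⟨h1, h3⟩
  · rintro ⟨h1, h2⟩
    exact ⟨h1, w, hg, h2⟩

theorem sub_NS_iff [Finite W] {J K : Finset I} (hKJ : K ⊆ J) {g : Y} {w : W} (hg : Cell R.nsys cs h X w g) :
    K ⊆ NS R J g ↔ IsMinR cs (K : Set I) w := by
  rw [isMinR_iff]
  constructor
  · intro h1 i hi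
    exact ((mem_NS R hg).1 (h1 (Finset.mem_coe.1 hi))).2
  · intro h1 i hi
    exact (mem_NS R hg).2 ⟨hKJ hi, h1 i (Finset.mem_coe.2 hi)⟩

/-- the gates -/
theorem card_gates [Finite W] [Fintype Y] [DecidableEq Y] {J K : Finset I} (hKJ : K ⊆ J) :
    open Classical in (Finset.univ.filter fun g : Y => g ∈ PJ cs h T X (J : Set I) ∧ K ⊆ NS R J g).card *
      Nat.card (PJ cs h T X (K : Set I)) = Nat.card (PJ cs h T X (J : Set I)) * Nat.card (RGD.B cs h T X) := by
  classical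
  have hKJ' : (K : Set I) ⊆ J := Finset.coe_subset.2 hKJ
  refine card_mul _ (P := PJ cs h T X (K : Set I)) (Q := PJ cs h T X (J : Set I)) ?_ B_le_PJ ?_ ?_ ?_
  · intro a ha b hb
    simp only [Finset.mem_filter, Finset.mem_univ, true_and] at ha ⊢
    obtain ⟨w, hw, ca⟩ := (mem_PJ_iff_cell R).1 ha.1
    refine ⟨mul_mem ha.1 (B_le_PJ hb), ?_⟩
    rw [sub_NS_iff R hKJ (ca.mul_right hb)]
    exact (sub_NS_iff R hKJ ca).1 ha.2
  · intro a ha k hk
    simp only [Finset.mem_filter, Finset.mem_univ, true_and] at ha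
    obtain ⟨v, hv, ck⟩ := (mem_PJ_iff_cell R).1 hk
    exact mul_mem ha.1 ((mem_PJ_iff_cell R).2 ⟨v, WJ_mono cs hKJ' hv, ck⟩)
  · intro g hg
    obtain ⟨w, hw, b₁, hb₁, k, hk, b₂, hb₂, rfl⟩ := (mem_PJ_iff_cell R).1 hg
    obtain ⟨w₁, h1, w₂, h2, rfl⟩ := exists_isMinR cs (K : Set I) w
    obtain ⟨k₁, hk₁⟩ := exists_rp (cs := cs) (hN := R.nsys) w₁
    have hk₂ : Rp cs R.nsys w₂ (k₁⁻¹ * k) := by
      have := hk₁.inv.mul hk
      rwa [inv_mul_cancel_left] at this
    have hw₁ : w₁ ∈ WJ cs (J : Set I) := by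
      have := mul_mem hw (inv_mem (WJ_mono cs hKJ' h2))
      rwa [mul_inv_cancel_right] at this
    have ca : Cell R.nsys cs h X w₁ (b₁ * k₁) := ⟨b₁, hb₁, k₁, hk₁, 1, one_mem _, by rw [mul_one]⟩
    refine ⟨b₁ * k₁, ?_, (k₁⁻¹ * k) * b₂, ?_, by group⟩
    · simp only [Finset.mem_filter, Finset.mem_univ, true_and]
      exact ⟨(mem_PJ_iff_cell R).2 ⟨w₁, hw₁, ca⟩, (sub_NS_iff R hKJ ca).2 h1⟩
    · exact (mem_PJ_iff_cell R).2 ⟨w₂, h2, 1, one_mem _, _, hk₂, b₂, hb₂, by rw [one_mul]⟩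
  · intro a ha a' ha' k hk e
    simp only [Finset.mem_filter, Finset.mem_univ, true_and] at ha ha'
    obtain ⟨w, hw, ca⟩ := (mem_PJ_iff_cell R).1 ha.1
    obtain ⟨w', hw', ca'⟩ := (mem_PJ_iff_cell R).1 ha'.1
    obtain ⟨v, hv, ck⟩ := (mem_PJ_iff_cell R).1 hk
    have hmin := (sub_NS_iff R hKJ ca).1 ha.2
    have hmin' := (sub_NS_iff R hKJ ca').1 ha'.2
    have h1 := Cell.mul_of_length R (hmin v hv) ca ck
    rw [← e] at h1
    have h2 : w' = w * v := Cell.unique R ca' h1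
    have h3 := IsMinR.unique cs hmin hmin' hv h2
    have h4 : v = 1 := by
      rw [h3] at h2
      exact (mul_eq_left.1 h2.symm)
    rw [h4] at ck
    exact ck.mem_of_one

/-- the elements of `P_J` over the longest element -/
theorem card_top [Finite W] [Fintype Y] [DecidableEq Y] (J : Finset I) :
    open Classical in (Finset.univ.filter fun g : Y => g ∈ PJ cs h T X (J : Set I) ∧ NS R J g = ∅).card =
      Nat.card (RGD.Sup X (PosJ cs h (J : Set I))) * Nat.card (RGD.B cs h T X) := by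
  classical
  have hl := isLongest_wJ cs (J : Set I)
  obtain ⟨k, hk⟩ := exists_rp (cs := cs) (hN := R.nsys) (wJ cs (J : Set I))
  have hkP : k ∈ PJ cs h T X (J : Set I) := (mem_PJ_iff_cell R).2 ⟨_, hl.1, cell_of_rp hk⟩
  have hUP : RGD.Sup X (PosJ cs h (J : Set I)) ≤ PJ cs h T X (J : Set I) :=
    (UJ_le_U (J : Set I)).trans (RGD.U_le_B.trans B_le_PJ)
  have hUB : RGD.Sup X (PosJ cs h (J : Set I)) ≤ RGD.B cs h T X := (UJ_le_U (J : Set I)).trans RGD.U_le_B
  have hc : ∀ H : Subgroup Y, Nat.card H = (Finset.univ.filter (· ∈ H)).card := by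
    intro H
    rw [Nat.card_eq_fintype_card, ← Fintype.card_subtype]
  rw [hc, hc, ← Finset.card_product]
  symm
  have hempty : ∀ {g : Y} {w : W}, w ∈ WJ cs (J : Set I) → Cell R.nsys cs h X w g → (NS R J g = ∅ ↔
      w = wJ cs (J : Set I)) := by
    intro g w hw hg
    constructor
    · intro h1
      refine eq_wJ_of_desc hw fun i hi => ?_
      have h2 : i ∉ NS R J g := by rw [h1]; exact Finset.notMem_empty i
      rw [mem_NS R hg] at h2
      push Not at h2
      have h3 := h2 (Finset.mem_coe.1 hi)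
      rcases cs.length_mul_simple w i with h4 | h4 <;> omega
    · intro h1
      rw [Finset.eq_empty_iff_forall_notMem]
      intro i hi
      have h2 := (mem_NS R hg).1 hi
      have h3 := (hl.2 _ (simple_mem_WJ cs (Finset.mem_coe.2 h2.1))).1
      rw [h1, cs.length_simple] at *
      omega
  refine Finset.card_bij (fun x _ => x.1 * k * x.2) ?_ ?_ ?_
  · rintro ⟨a, b⟩ hx
    simp only [Finset.mem_product, Finset.mem_filter, Finset.mem_univ, true_and] at hx ⊢
    refine ⟨mul_mem (mul_mem (hUP hx.1) hkP) (B_le_PJ hx.2), ?_⟩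
    exact (hempty hl.1 ⟨a, hUB hx.1, k, hk, b, hx.2, rfl⟩).2 rfl
  · rintro ⟨a, b⟩ hx ⟨a', b'⟩ hx' e
    simp only [Finset.mem_product, Finset.mem_filter, Finset.mem_univ, true_and] at hx hx'
    have e' : a * k * b = a' * k * b' := e
    have h1 : k⁻¹ * (a'⁻¹ * a) * k ∈ RGD.B cs h T X := by
      have : k⁻¹ * (a'⁻¹ * a) * k = b' * b⁻¹ := by
        have h2 : a * k = a' * k * b' * b⁻¹ := by rw [← e']; group
        calc k⁻¹ * (a'⁻¹ * a) * k = k⁻¹ * a'⁻¹ * (a * k) := by group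
          _ = k⁻¹ * a'⁻¹ * (a' * k * b' * b⁻¹) := by rw [h2]
          _ = b' * b⁻¹ := by group
      rw [this]
      exact mul_mem hx'.2 (inv_mem hx.2)
    have h2 : a'⁻¹ * a ∈ RGD.Sup X (PosJ cs h (J : Set I)) := mul_mem (inv_mem hx'.1) hx.1
    have h3 := mem_PW_of_conj R hk ((UJ_le_U (J : Set I)) h2) h1
    have h4 : PW cs h (wJ cs (J : Set I))⁻¹ ⊆ NotJ cs h (J : Set I) := by
      rintro x ⟨hx1, hx2, hx3⟩
      rcases mem_PosJ_or_NotJ (J : Set I) hx1 hx2 with h5 | h5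
      · exfalso
        have h6 := rep_longest_nonpos hl h5
        rw [hl.inv_eq] at hx3
        exact (hx1.act _).ne_zero (le_antisymm h6 hx3)
      · exact h5
    have h5 : a'⁻¹ * a ∈ VJ cs h X (J : Set I) := RGD.Sup_mono h4 h3
    have h6 : a'⁻¹ * a ∈ UJ cs h X (J : Set I) ⊓ VJ cs h X (J : Set I) := ⟨h2, h5⟩
    rw [UJ_inf_VJ R, Subgroup.mem_bot] at h6
    have h7 : a = a' := (inv_mul_eq_one.1 h6).symm
    subst h7
    have h8 : b = b' := by
      have : a * k * b = a * k * b' := e'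
      exact mul_left_cancel this
    rw [h8]
  · intro g hg
    simp only [Finset.mem_filter, Finset.mem_univ, true_and] at hg
    obtain ⟨w, hw, cg⟩ := (mem_PJ_iff_cell R).1 hg.1
    have h1 := (hempty hw cg).1 hg.2
    subst h1
    obtain ⟨b₁, hb₁, k', hk', b₂, hb₂, rfl⟩ := cg
    obtain ⟨t', ht'⟩ : ∃ t' ∈ T, k' = k * t' := ⟨k⁻¹ * k', hk.unique hk', by group⟩
    obtain ⟨t, ht, v, hv, e⟩ := R.mem_B.1 (inv_mem hb₁)
    -- `b₁ = v⁻¹ t⁻¹`
    obtain ⟨a, ha, c, hc', e2⟩ := (mem_U_iff R (J := (J : Set I))).1 (inv_mem hv)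
    have hb : b₁ = a * (c * t⁻¹) := by
      have : b₁ = v⁻¹ * t⁻¹ := by rw [← inv_inv b₁, e, mul_inv_rev]
      rw [this, e2, mul_assoc]
    have h2 : k⁻¹ * (c * t⁻¹) * k ∈ RGD.B cs h T X := by
      have h3 : k⁻¹ * c * k ∈ VJ cs h X (J : Set I) := by
        have h4 := (Subgroup.mem_normalizer_iff.1 (PJ_le_normalizer_VJ R (J : Set I) (inv_mem hkP)) c).1 hc'
        rwa [inv_inv] at h4
      have h4 : k⁻¹ * t⁻¹ * k ∈ T := by
        have h5 := (Subgroup.mem_normalizer_iff.1 (hk.inv.mem_normalizer) t⁻¹).1 (inv_mem ht)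
        rwa [inv_inv] at h5
      have h5 : k⁻¹ * (c * t⁻¹) * k = (k⁻¹ * c * k) * (k⁻¹ * t⁻¹ * k) := by group
      rw [h5]
      exact mul_mem (VJ_le_B _ h3) (RGD.T_le_B h4)
    refine ⟨(a, (k⁻¹ * (c * t⁻¹) * k) * (t' * b₂)), ?_, ?_⟩
    · simp only [Finset.mem_product, Finset.mem_filter, Finset.mem_univ, true_and]
      exact ⟨ha, mul_mem h2 (mul_mem (RGD.T_le_B ht'.1) hb₂)⟩
    · show a * k * ((k⁻¹ * (c * t⁻¹) * k) * (t' * b₂)) = b₁ * k' * b₂
      rw [hb, ht'.2]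
      group

/-- **Solomon's formula** -/
theorem alternating [Finite W] [Fintype Y] [DecidableEq Y] (J : Finset I) :
    open Classical in ∑ K ∈ J.powerset, (-1 : ℤ) ^ K.card *
      ((Finset.univ.filter fun g : Y => g ∈ PJ cs h T X (J : Set I) ∧ K ⊆ NS R J g).card : ℤ) =
      (Nat.card (RGD.Sup X (PosJ cs h (J : Set I))) * Nat.card (RGD.B cs h T X) : ℕ) := by
  classical
  rw [← card_top R J]
  have h1 : ∀ K : Finset I, ((Finset.univ.filter fun g : Y => g ∈ PJ cs h T X (J : Set I) ∧ K ⊆ NS R J g).card : ℤ) =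
      ∑ g ∈ Finset.univ.filter (fun g : Y => g ∈ PJ cs h T X (J : Set I)), if K ⊆ NS R J g then 1 else 0 := by
    intro K
    rw [Finset.sum_ite, Finset.sum_const_zero, add_zero, Finset.sum_const, Finset.filter_filter, nsmul_eq_mul, mul_one]
  simp only [h1, Finset.mul_sum]
  rw [Finset.sum_comm]
  have h2 : ∀ g : Y, ∑ K ∈ J.powerset, (-1 : ℤ) ^ K.card * (if K ⊆ NS R J g then 1 else 0) =
      if NS R J g = ∅ then 1 else 0 := by
    intro g
    rw [← Finset.sum_powerset_neg_one_pow_card]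
    have h3 : (NS R J g).powerset = J.powerset.filter (· ⊆ NS R J g) := by
      ext K
      simp only [Finset.mem_powerset, Finset.mem_filter]
      refine ⟨fun h4 => ⟨h4.trans ?_, h4⟩, fun h4 => h4.2⟩
      unfold NS
      exact Finset.filter_subset _ _
    rw [h3, Finset.sum_filter]
    refine Finset.sum_congr rfl fun K _ => ?_
    split_ifs <;> simp
  simp only [h2]
  rw [Finset.sum_ite, Finset.sum_const_zero, add_zero, Finset.sum_const, Finset.filter_filter, nsmul_eq_mul, mul_one]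

theorem dvd_of_min [Finite W] [Finite Y] {u : ℕ} (hu : u.Prime) (hB : ¬ u ∣ Nat.card (RGD.B cs h T X))
    {J : Finset I} (hJ : u ∣ Nat.card (PJ cs h T X (J : Set I)))
    (hmin : ∀ K ⊆ J, K ≠ J → ¬ u ∣ Nat.card (PJ cs h T X (K : Set I))) :
    (u : ℤ) ∣ (Nat.card (RGD.Sup X (PosJ cs h (J : Set I))) : ℤ) - (-1) ^ J.card := by
  classical
  have : Fintype Y := Fintype.ofFinite Y
  have h1 := alternating R J
  rw [← Finset.insert_erase (Finset.mem_powerset_self J), Finset.sum_insert (Finset.notMem_erase _ _)] at h1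
  have hG : ((Finset.univ.filter fun g : Y => g ∈ PJ cs h T X (J : Set I) ∧ J ⊆ NS R J g).card : ℤ) =
      Nat.card (RGD.B cs h T X) := by
    have h2 := card_gates R (Finset.Subset.refl J)
    have h3 : 0 < Nat.card (PJ cs h T X (J : Set I)) := Nat.card_pos
    rw [mul_comm] at h2
    exact_mod_cast Nat.eq_of_mul_eq_mul_left h3 h2
  rw [hG] at h1
  have h4 : (u : ℤ) ∣ ∑ K ∈ J.powerset.erase J, (-1 : ℤ) ^ K.card *
      ((Finset.univ.filter fun g : Y => g ∈ PJ cs h T X (J : Set I) ∧ K ⊆ NS R J g).card : ℤ) := by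
    refine Finset.dvd_sum fun K hK => dvd_mul_of_dvd_right ?_ _
    rw [Finset.mem_erase, Finset.mem_powerset] at hK
    have h5 := card_gates R hK.2
    have h6 : u ∣ (Finset.univ.filter fun g : Y => g ∈ PJ cs h T X (J : Set I) ∧ K ⊆ NS R J g).card *
        Nat.card (PJ cs h T X (K : Set I)) := by rw [h5]; exact hJ.mul_right _
    exact_mod_cast (hu.dvd_mul.1 h6).resolve_right (hmin K hK.2 hK.1)
  have h7 : (u : ℤ) ∣ ((Nat.card (RGD.Sup X (PosJ cs h (J : Set I))) : ℤ) - (-1) ^ J.card) *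
      Nat.card (RGD.B cs h T X) := by
    have e : ((Nat.card (RGD.Sup X (PosJ cs h (J : Set I))) : ℤ) - (-1) ^ J.card) * Nat.card (RGD.B cs h T X) =
        ∑ K ∈ J.powerset.erase J, (-1 : ℤ) ^ K.card *
      ((Finset.univ.filter fun g : Y => g ∈ PJ cs h T X (J : Set I) ∧ K ⊆ NS R J g).card : ℤ) := by
      push_cast at h1
      linear_combination -h1
    rw [e]; exact h4
  refine ((Nat.prime_iff_prime_int.1 hu).dvd_or_dvd h7).resolve_right fun h8 => hB (by exact_mod_cast h8)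

theorem exists_dvd [Finite W] [Finite Y] {u : ℕ} (hu : u.Prime) (hB : ¬ u ∣ Nat.card (RGD.B cs h T X))
    {J₀ : Finset I} (hJ₀ : u ∣ Nat.card (PJ cs h T X (J₀ : Set I))) :
    ∃ J : Finset I, J ⊆ J₀ ∧ J.Nonempty ∧ (∀ J₁ : Finset I, J₁ ⊆ J → J₁.Nonempty → J₁ ≠ J →
      ∃ a ∈ J₁, ∃ b ∈ J, b ∉ J₁ ∧ M a b ≠ 2) ∧
      (u : ℤ) ∣ (Nat.card (RGD.Sup X (PosJ cs h (J : Set I))) : ℤ) - (-1) ^ J.card := by
  classical
  induction hc : J₀.card using Nat.strong_induction_on generalizing J₀ with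
  | _ N ih =>
  by_cases hex : ∃ K ⊆ J₀, K ≠ J₀ ∧ u ∣ Nat.card (PJ cs h T X (K : Set I))
  · obtain ⟨K, hK, hne, hd⟩ := hex
    obtain ⟨J, h1, h2⟩ := ih _ (by rw [← hc]; exact Finset.card_lt_card (lt_of_le_of_ne hK hne)) hd rfl
    exact ⟨J, h1.trans hK, h2⟩
  push Not at hex
  refine ⟨J₀, Finset.Subset.refl _, ?_, ?_, dvd_of_min R hu hB hJ₀ hex⟩
  · by_contra hne
    rw [Finset.not_nonempty_iff_eq_empty] at hne
    rw [hne] at hJ₀
    apply hB
    have h1 : PJ cs h T X ((∅ : Finset I) : Set I) = RGD.B cs h T X := by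
      refine le_antisymm (fun g hg => ?_) B_le_PJ
      obtain ⟨w, hw, cg⟩ := (mem_PJ_iff_cell R).1 hg
      have h2 : w = 1 := by
        unfold WJ at hw
        rw [Finset.coe_empty, Set.image_empty, Subgroup.closure_empty, Subgroup.mem_bot] at hw
        exact hw
      rw [h2] at cg
      exact cg.mem_of_one
    rwa [h1] at hJ₀
  · intro J₁ hJ₁ hne hne'
    by_contra hcon
    push Not at hcon
    have hdis : Disjoint (J₁ : Set I) ((J₀ \ J₁ : Finset I) : Set I) := by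
      rw [Finset.disjoint_coe]
      exact Finset.disjoint_sdiff
    have hun : (J₁ : Set I) ∪ ((J₀ \ J₁ : Finset I) : Set I) = (J₀ : Set I) := by
      rw [← Finset.coe_union, Finset.union_sdiff_of_subset hJ₁]
    have h1 := card_PJ_mul R hdis (fun i hi j hj => by
      rw [Finset.mem_coe, Finset.mem_sdiff] at hj
      exact hcon i (Finset.mem_coe.1 hi) j hj.1 hj.2)
    rw [hun] at h1
    have h2 : u ∣ Nat.card (PJ cs h T X (J₁ : Set I)) * Nat.card (PJ cs h T X ((J₀ \ J₁ : Finset I) : Set I)) := by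
      rw [h1]; exact hJ₀.mul_right _
    rcases hu.dvd_mul.1 h2 with h3 | h3
    · exact hex J₁ hJ₁ hne' h3
    · refine hex _ Finset.sdiff_subset (fun h4 => ?_) h3
      obtain ⟨a, ha⟩ := hne
      have : a ∈ J₀ \ J₁ := by rw [h4]; exact hJ₁ ha
      exact (Finset.mem_sdiff.1 this).2 ha

/-! ### the criterion -/

/-- every proper subgroup of index not divisible by `p ^ 2` is conjugate into a proper parabolic subgroup -/
theorem exists_le_PJ [Finite W] [Finite Y] [Fact p.Prime] (hG : Nodes.RGDLib.G1 cs h X = ⊤)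
    (hC : CommGen cs h X) (hM : Conn M) [Nontrivial I] (P : Subgroup Y) (hP : P ≠ ⊤) (hidx : ¬ p ^ 2 ∣ P.index) :
    ∃ (g : Y) (K : Set I), K ≠ Set.univ ∧ cj g P ≤ PJ cs h T X K := by
  have hGG : GG cs h T X = ⊤ := by
    rw [eq_top_iff, ← hG]
    exact le_sup_right
  have hUi : ¬ p ∣ (RGD.Sup X (RGD.Pos cs h)).index := by
    have h1 := KFacts.RgdSyl.not_dvd_relIndex R
    rwa [hGG, Subgroup.relIndex_top_right] at h1
  by_cases hpi : p ∣ P.index
  · obtain ⟨g, h1, h2⟩ := exists_conj_index R.isPGroup_Upos hUi hpi hidx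
    obtain ⟨K, hK, hle⟩ := ThmA.le_PJ_of_index R hC hM (P := cj g P) (by rw [hGG]; exact le_top) ⟨h1, h2⟩
    exact ⟨g, K, hK, hle⟩
  · obtain ⟨g, hg⟩ := H248.Ovg.exists_conj_le (R.isPGroup_Upos) hpi
    have hU : RGD.Sup X (RGD.Pos cs h) ≤ cj g⁻¹ P := by
      rw [← cj_le_cj_iff g, cj_cj_inv]; exact hg
    by_cases hJ : H248.TitsRGD.JU T n (cj g⁻¹ P) = Set.univ
    · exfalso
      have h1 := H248.TitsRGD.Sup_le_of_univ R hU hJ
      have h2 : cj g⁻¹ P = ⊤ := by
        rw [eq_top_iff, ← hG]; exact h1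
      have h3 : (cj g⁻¹ P).index = 1 := by rw [h2, Subgroup.index_top]
      rw [show (cj g⁻¹ P).index = P.index from Subgroup.index_map_equiv P (MulAut.conj g⁻¹),
        Subgroup.index_eq_one] at h3
      exact hP h3
    · exact ⟨g⁻¹, _, hJ, H248.TitsRGD.le_PJ R hU (by rw [hGG]; exact le_top)⟩

theorem not_dvd_card [Finite W] [Finite Y] [Fact p.Prime] {u : ℕ} (hu : u.Prime) (hup : u ≠ p)
    (hT : ¬ u ∣ Nat.card T)
    (hJ : ∀ J : Finset I, J.Nonempty → J ≠ Finset.univ → (∀ J₁ : Finset I, J₁ ⊆ J → J₁.Nonempty → J₁ ≠ J →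
      ∃ a ∈ J₁, ∃ b ∈ J, b ∉ J₁ ∧ M a b ≠ 2) →
      ¬ (u : ℤ) ∣ (Nat.card (RGD.Sup X (PosJ cs h (J : Set I))) : ℤ) - (-1) ^ J.card)
    {P : Subgroup Y} {g : Y} {K : Set I} (hK : K ≠ Set.univ) (hle : cj g P ≤ PJ cs h T X K) :
    ¬ u ∣ Nat.card P := by
  classical
  intro hd
  have hB : ¬ u ∣ Nat.card (RGD.B cs h T X) := by
    rw [← card_B R]
    intro h1
    rcases hu.dvd_mul.1 h1 with h2 | h2
    · exact hT h2
    · obtain ⟨k, hk⟩ := (IsPGroup.iff_card).1 R.isPGroup_Upos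
      rw [hk] at h2
      exact hup ((Nat.prime_dvd_prime_iff_eq hu Fact.out).1 (hu.dvd_of_dvd_pow h2))
  have h1 : Nat.card (cj g P) = Nat.card P := Nat.card_congr
    (Subgroup.equivMapOfInjective P (MulAut.conj g).toMonoidHom (MulAut.conj g).injective).toEquiv.symm
  have h2 : u ∣ Nat.card (PJ cs h T X ((Set.toFinset K : Finset I) : Set I)) := by
    rw [Set.coe_toFinset]
    rw [← h1] at hd
    exact hd.trans (Subgroup.card_dvd_of_le hle)
  obtain ⟨J, hJK, hne, hconn, hdvd⟩ := exists_dvd R hu hB h2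
  refine hJ J hne (fun h3 => hK ?_) hconn hdvd
  rw [Set.eq_univ_iff_forall]
  intro i
  have : i ∈ J := by rw [h3]; exact Finset.mem_univ i
  exact Set.mem_toFinset.1 (hJK this)

/-- **The criterion.** -/
theorem der_of_rgd [Finite W] [Finite Y] [Fact p.Prime] (hG : Nodes.RGDLib.G1 cs h X = ⊤)
    (hC : CommGen cs h X) (hM : Conn M) [Nontrivial I] {u : ℕ} (hu : u.Prime) (hup : u ≠ p)
    (hT : ¬ u ∣ Nat.card T) (hY : u ∣ Nat.card Y)
    (hJ : ∀ J : Finset I, J.Nonempty → J ≠ Finset.univ → (∀ J₁ : Finset I, J₁ ⊆ J → J₁.Nonempty → J₁ ≠ J →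
      ∃ a ∈ J₁, ∃ b ∈ J, b ∉ J₁ ∧ M a b ≠ 2) →
      ¬ (u : ℤ) ∣ (Nat.card (RGD.Sup X (PosJ cs h (J : Set I))) : ℤ) - (-1) ^ J.card)
    (P : Subgroup Y) (hP : P ≠ ⊤) (hidx : ¬ p ^ 2 ∣ P.index) : Der Y P := by
  obtain ⟨g, K, hK, hle⟩ := exists_le_PJ R hG hC hM P hP hidx
  exact der_of_prime hu hY (not_dvd_card R hu hup hT hJ hK hle)

end Cfsg.Agent.H396.Crit

private theorem dce_502d016a30e1 : _root_.True := by
  try have : _root_.True := by simp only [_root_.Cfsg.Agent.H396.Crit.NS.congr_simp]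
  try have : _root_.True := by simp only [_root_.Cfsg.Agent.Nodes.StabComb.PosJ.congr_simp]
  try have : _root_.True := by simp only [_root_.Cfsg.Agent.Nodes.BNOf.RGD.B.congr_simp]
  exact _root_.True.intro
end

-- part: H396/ParX
section
set_option linter.all false
open scoped Cfsg.Agent.FastGrp

-- part: H396/ThmN
section
/-!
# Root group data: subgroups of index `p · (p'-number)`, the version with fewer commutator relations (helper396)

`HypN` : as `ThmA.Hyp`, and the non-simple positive root groups lie in `P`. `le_PJ_of_index`.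
-/

set_option autoImplicit false
set_option linter.unusedSectionVars false

namespace Cfsg.Agent.H396.ThmN

open CoxeterSystem Cfsg.Agent.ChevalleyStructure.CoxeterGeom Cfsg.Agent.Tits.Roots Cfsg.Agent.Tits.Core
  Cfsg.Agent.Tits.RootComb Cfsg.Agent.Tits.Exchange Cfsg.Agent.Nodes.Reps Cfsg.Agent.Nodes.BNOf
  Cfsg.Agent.Nodes.StabComb Cfsg.Agent.Nodes.Bruhat Cfsg.Agent.Nodes.OppDec Cfsg.Agent.Nodes.LeviDec
  Cfsg.Agent.Omega.EH3.Kf.Lev
open scoped commutatorElement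
open Cfsg.Agent.H396.ThmA (Hyp WM cj_U_of_mem_B comm_le_of_hyp WM_cj_le WM_cj WM_inv exists_rp_of_WM le_iff_of_rp)

variable {I W Y : Type*} [Fintype I] [DecidableEq I] [Group W] [Group Y] {M : CoxeterMatrix I}
  {cs : CoxeterSystem M W} {A : I → I → ℤ} {h : IsCartan M A} {p : ℕ} {T : Subgroup Y} {n : I → Y}
  {X : (I → ℤ) → Subgroup Y}

variable (R : RGD cs h p T n X)

include R in
/-- a positive root group in `P` is in the conjugates of `P` by elements of `B` -/
theorem le_cj_of_le [Finite W] [Finite Y] [Fact p.Prime] {P : Subgroup Y} (hP : Hyp cs h X p P) {b : Y}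
    (hb : b ∈ RGD.B cs h T X) {x : I → ℤ} (hx : IsRoot cs h x) (h0 : 0 ≤ x) (hi : X x ≤ P) : X x ≤ cj b P := by
  obtain ⟨t, ht, v, hv, e⟩ := R.mem_B.1 (inv_mem hb)
  intro u hu
  rw [mem_cj]
  have hb' : b = v⁻¹ * t⁻¹ := by rw [← inv_inv b, e, mul_inv_rev]
  have hU : X x ≤ RGD.Sup X (RGD.Pos cs h) := RGD.le_Sup ⟨hx, h0⟩
  have htU : ∀ y ∈ RGD.Sup X (RGD.Pos cs h), t * y * t⁻¹ ∈ RGD.Sup X (RGD.Pos cs h) := fun y hy =>
    (Subgroup.mem_normalizer_iff.1 (R.T_le_normalizer_U ht) y).1 hy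
  have e2 : b⁻¹ * u * b = ⁅t * v * t⁻¹, t * u * t⁻¹⁆ * (t * u * t⁻¹) := by
    rw [hb', commutatorElement_def]; group
  rw [e2]
  refine mul_mem (comm_le_of_hyp R hP (Subgroup.commutator_mem_commutator (htU v hv) (htU u (hU hu)))) (hi ?_)
  have h1 := R.tor x hx t ht
  rw [← h1]
  exact conj_mem_cj.2 hu

/-- `P ∩ U` has index `p` in `U`, `P` contains no conjugate of `U`, but the non-simple positive root groups. -/
structure HypN (cs : CoxeterSystem M W) (h : IsCartan M A) (X : (I → ℤ) → Subgroup Y) (p : ℕ)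
    (P : Subgroup Y) : Prop extends Hyp cs h X p P where
  nons : ∀ x, IsRoot cs h x → 0 ≤ x → (∀ i, x ≠ sr i) → X x ≤ P

include R

theorem HypN.conj [Finite W] [Finite Y] [Fact p.Prime] {P : Subgroup Y} (hP : HypN cs h X p P) {b : Y}
    (hb : b ∈ RGD.B cs h T X) : HypN cs h X p (cj b P) where
  toHyp := hP.toHyp.conj R hb
  nons x hx h0 hs := le_cj_of_le R hP.toHyp hb hx h0 (hP.nons x hx h0 hs)

/-- containment of positive root groups is invariant under conjugation by `B` -/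
theorem le_cj_iff [Finite W] [Finite Y] [Fact p.Prime] {P : Subgroup Y}
    (hP : Hyp cs h X p P) {b : Y} (hb : b ∈ RGD.B cs h T X) {x : I → ℤ} (hx : IsRoot cs h x) (h0 : 0 ≤ x) :
    X x ≤ cj b P ↔ X x ≤ P := by
  refine ⟨fun h1 => ?_, fun h1 => le_cj_of_le R hP hb hx h0 h1⟩
  have h2 := le_cj_of_le R (hP.conj R hb) (inv_mem hb) hx h0 h1
  rwa [cj_inv_cj] at h2

theorem le_iff_of_WM [Finite W] [Finite Y] [Fact p.Prime] {P : Subgroup Y}
    (hP : Hyp cs h X p P) {w : W} (hw : w ∈ WM R.nsys cs h X P) {x : I → ℤ} (hx : IsRoot cs h x) (h0 : 0 ≤ x)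
    (h1 : 0 ≤ rep cs h w⁻¹ x) : X x ≤ P ↔ X (rep cs h w⁻¹ x) ≤ P := by
  obtain ⟨b₀, hb₀, k, hk, b, hb, hkb⟩ := exists_rp_of_WM R hw
  rw [← le_cj_iff R hP hb₀ hx h0, le_iff_of_rp R hk hkb hx,
    le_cj_iff R (hP.conj R hb₀) hb (hx.act _) h1, le_cj_iff R hP hb₀ (hx.act _) h1]

/-- **key step**, general form -/
theorem stepG [Finite W] [Finite Y] [Fact p.Prime] {P : Subgroup Y}
    (hP : Hyp cs h X p P) {w : W} (hw : w ∈ WM R.nsys cs h X P) {i : I} (hi : rep cs h w (sr i) ≤ 0)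
    (hX : X (-rep cs h w (sr i)) ≤ P) (hS : X (sr i) ≤ P ∨ ∃ x ∈ RGD.PosNe cs h i, ¬ X x ≤ P) :
    w * cs.simple i ∈ WM R.nsys cs h X P ∧ cs.simple i ∈ WM R.nsys cs h X P := by
  obtain ⟨b₀, hb₀, k, hk, b, hb, hkb⟩ := exists_rp_of_WM R hw
  have hP' := hP.conj R hb₀
  have hP'' := hP'.conj R hb
  set P' := cj b₀ P with hP'def
  set P'' := cj b P' with hP''def
  have hroot : IsRoot cs h (-rep cs h w (sr i)) := ((isRoot_sr cs h i).act w).neg
  have hpos : 0 ≤ -rep cs h w (sr i) := neg_nonneg.2 hi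
  -- `X (-α_i) ≤ P''`
  have hneg : X (-sr i) ≤ P'' := by
    have h1 := (le_iff_of_rp R hk hkb hroot).1 ((le_cj_iff R hP hb₀ hroot hpos).2 hX)
    rwa [map_neg, rep_inv_apply] at h1
  have hWM : WM R.nsys cs h X P'' = WM R.nsys cs h X P := by rw [hP''def, WM_cj hb, hP'def, WM_cj hb₀]
  have hbk : b * k ∈ P'' := by
    rw [hP''def, mem_cj]
    have : b⁻¹ * (b * k) * b = k * b := by group
    rwa [this]
  have hiff : ∀ {x : I → ℤ}, IsRoot cs h x → 0 ≤ x → (X x ≤ P'' ↔ X x ≤ P) := fun hx h0 => by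
    rw [hP''def, le_cj_iff R hP' hb hx h0, hP'def, le_cj_iff R hP hb₀ hx h0]
  rw [← hWM]
  -- a nontrivial element of `X (-α_i)`
  obtain ⟨u, hu, hu1⟩ : ∃ u ∈ X (-sr i), u ≠ 1 := by
    by_contra hcon
    push Not at hcon
    exact X_ne_bot R (isRoot_sr cs h i).neg ((Subgroup.eq_bot_iff_forall _).2 hcon)
  obtain ⟨a, ha, t, ht, b', hb', e⟩ := R.rk1 i u hu hu1
  have hUXi : X (sr i) ≤ RGD.Sup X (RGD.Pos cs h) := RGD.le_Sup ⟨isRoot_sr cs h i, sr_nonneg i⟩
  have hrtn : Rp cs R.nsys (cs.simple i) (t * n i) := by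
    have := (rp_of_mem (cs := cs) (hN := R.nsys) ht).mul (rp_simple cs R.nsys i)
    rwa [one_mul] at this
  have hrw : Rp cs R.nsys (w * cs.simple i) (k * (t * n i)) := hk.mul hrtn
  by_cases hXi : X (sr i) ≤ P
  · have hXi'' : X (sr i) ≤ P'' := (hiff (isRoot_sr cs h i) (sr_nonneg i)).2 hXi
    have htn : t * n i ∈ P'' := by
      have h1 : t * n i = a⁻¹ * u * b'⁻¹ := by rw [e]; group
      rw [h1]
      exact mul_mem (mul_mem (inv_mem (hXi'' ha)) (hneg hu)) (inv_mem (hXi'' hb'))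
    refine ⟨⟨(b * k) * (t * n i), mul_mem hbk htn, ?_⟩, ⟨t * n i, htn, cell_of_rp hrtn⟩⟩
    rw [mul_assoc]
    exact (cell_of_rp hrw).mul_left hb
  · obtain ⟨y, hy, hyP⟩ := hS.resolve_left hXi
    have hy'' : ¬ X y ≤ P'' := fun h1 => hyP ((hiff hy.1 hy.2.1).1 h1)
    obtain ⟨v, hv, hvP⟩ := Set.not_subset.1 hy''
    have hvU : v ∈ RGD.Sup X (RGD.Pos cs h) := RGD.le_Sup (S := RGD.Pos cs h) ⟨hy.1, hy.2.1⟩ hv
    have hvV : v ∈ RGD.Sup X (RGD.PosNe cs h i) := RGD.le_Sup (S := RGD.PosNe cs h i) hy hv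
    obtain ⟨l₁, hl₁⟩ := exists_mul_zpow_mem R.isPGroup_Upos hP''.idx hvU hvP (hUXi ha)
    obtain ⟨l₂, hl₂⟩ := exists_zpow_mul_mem R.isPGroup_Upos hP''.idx hvU hvP (hUXi hb')
    have hz : (v ^ l₁)⁻¹ * (t * n i) * (v ^ l₂)⁻¹ ∈ P'' := by
      have h1 : (v ^ l₁)⁻¹ * (t * n i) * (v ^ l₂)⁻¹ = (a * v ^ l₁)⁻¹ * u * (v ^ l₂ * b')⁻¹ := by
        rw [e]; group
      rw [h1]
      exact mul_mem (mul_mem (inv_mem hl₁) (hneg hu)) (inv_mem hl₂)
    have hV₁ : (v ^ l₁)⁻¹ ∈ RGD.Sup X (RGD.PosNe cs h i) := inv_mem (zpow_mem hvV _)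
    have hVU : RGD.Sup X (RGD.PosNe cs h i) ≤ RGD.Sup X (RGD.Pos cs h) :=
      RGD.Sup_mono fun x hx => ⟨hx.1, hx.2.1⟩
    have hVB : RGD.Sup X (RGD.PosNe cs h i) ≤ RGD.B cs h T X := hVU.trans RGD.U_le_B
    have hV₂ : (v ^ l₂)⁻¹ ∈ RGD.B cs h T X := hVB (inv_mem (zpow_mem hvV _))
    -- `(t n_i)⁻¹ V_i (t n_i) = V_i`
    have hconj : (t * n i)⁻¹ * (v ^ l₁)⁻¹ * (t * n i) ∈ RGD.Sup X (RGD.PosNe cs h i) := by
      have hT : t⁻¹ * (v ^ l₁)⁻¹ * t ∈ RGD.Sup X (RGD.PosNe cs h i) := by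
        have h1 := (Subgroup.mem_normalizer_iff.1 (R.T_le_normalizer (S := RGD.PosNe cs h i)
          (fun x hx => hx.1) (inv_mem ht)) (v ^ l₁)⁻¹).1 hV₁
        rwa [inv_inv] at h1
      have h2 := R.cj_n_V i
      rw [← h2] at hT
      rw [mem_cj] at hT
      have h3 : (t * n i)⁻¹ * (v ^ l₁)⁻¹ * (t * n i) = (n i)⁻¹ * (t⁻¹ * (v ^ l₁)⁻¹ * t) * n i := by group
      rwa [h3]
    refine ⟨⟨(b * k) * ((v ^ l₁)⁻¹ * (t * n i) * (v ^ l₂)⁻¹), mul_mem hbk hz, ?_⟩,
      ⟨_, hz, ((cell_of_rp hrtn).mul_left (hVB hV₁)).mul_right hV₂⟩⟩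
    have h4 : (b * k) * ((v ^ l₁)⁻¹ * (t * n i) * (v ^ l₂)⁻¹) =
        b * (k * (t * n i)) * (((t * n i)⁻¹ * (v ^ l₁)⁻¹ * (t * n i)) * (v ^ l₂)⁻¹) := by group
    rw [h4]
    exact ((cell_of_rp hrw).mul_left hb).mul_right (mul_mem (hVB hconj) hV₂)

/-- **key step** -/
theorem step [Finite W] [Finite Y] [Fact p.Prime] {P : Subgroup Y}
    (hP : HypN cs h X p P) {w : W} (hw : w ∈ WM R.nsys cs h X P) {i : I} (hi : rep cs h w (sr i) ≤ 0)
    (hX : X (-rep cs h w (sr i)) ≤ P) :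
    w * cs.simple i ∈ WM R.nsys cs h X P ∧ cs.simple i ∈ WM R.nsys cs h X P := by
  refine stepG R hP.toHyp hw hi hX ?_
  by_contra hcon
  push Not at hcon
  obtain ⟨b₀, hb₀, k, hk, b, hb, hkb⟩ := exists_rp_of_WM R hw
  have hP' := hP.conj R hb₀
  have hP'' := hP'.conj R hb
  set P' := cj b₀ P with hP'def
  set P'' := cj b P' with hP''def
  have hroot : IsRoot cs h (-rep cs h w (sr i)) := ((isRoot_sr cs h i).act w).neg
  have hpos : 0 ≤ -rep cs h w (sr i) := neg_nonneg.2 hi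
  have hneg : X (-sr i) ≤ P'' := by
    have h1 := (le_iff_of_rp R hk hkb hroot).1 ((le_cj_iff R hP.toHyp hb₀ hroot hpos).2 hX)
    rwa [map_neg, rep_inv_apply] at h1
  have hiff : ∀ {x : I → ℤ}, IsRoot cs h x → 0 ≤ x → (X x ≤ P'' ↔ X x ≤ P) := fun hx h0 => by
    rw [hP''def, le_cj_iff R hP'.toHyp hb hx h0, hP'def, le_cj_iff R hP.toHyp hb₀ hx h0]
  refine hP''.nosyl (n i) ?_
  rw [R.Upos_eq i, cj_sup, R.cj_n_V i]
  refine sup_le ?_ ?_
  · rw [R.conj i (sr i) (isRoot_sr cs h i), rep_simple_sr]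
    exact hneg
  · exact RGD.Sup_le fun x hx => (hiff hx.1 hx.2.1).2 (hcon.2 x hx)

/-- `s_j α_σ` is a positive non-simple root for adjacent nodes -/
theorem claim1 [Finite W] [Finite Y] [Fact p.Prime] {P : Subgroup Y}
    (hP : HypN cs h X p P) {j s : I} (hj : cs.simple j ∈ WM R.nsys cs h X P) (hjs : j ≠ s) (hM : M j s ≠ 2) :
    X (sr s) ≤ P := by
  have hA : A j s < 0 := cartan_neg h hjs hM
  have hr : IsRoot cs h (rep cs h (cs.simple j) (sr s)) := (isRoot_sr cs h s).act _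
  have hne : (sr s : I → ℤ) ≠ sr j := by
    intro h1
    have := congrFun h1 s
    rw [sr_self, sr_ne hjs.symm] at this
    exact one_ne_zero this
  have h0 : 0 ≤ rep cs h (cs.simple j) (sr s) := (isRoot_sr cs h s).simple_nonneg (sr_nonneg s) j hne
  have hcj : 0 < rep cs h (cs.simple j) (sr s) j := by
    rw [rep_simple_apply_self, sr_ne hjs]
    have : pairing A j (sr s) = A j s := by
      unfold pairing
      rw [Finset.sum_eq_single s]
      · rw [sr_self]; ring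
      · intro q _ hq; rw [sr_ne hq]; ring
      · intro hq; exact absurd (Finset.mem_univ s) hq
    rw [this]; omega
  have hcs : rep cs h (cs.simple j) (sr s) s = 1 := by
    rw [rep_simple_apply cs h j _ s hjs.symm, sr_self]
  have hns : ∀ i, rep cs h (cs.simple j) (sr s) ≠ sr i := by
    intro i h1
    by_cases his : i = s
    · subst his
      rw [h1, sr_ne hjs] at hcj
      exact lt_irrefl _ hcj
    · rw [h1, sr_ne (Ne.symm his)] at hcs
      exact zero_ne_one hcs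
  have h1 : 0 ≤ rep cs h (cs.simple j)⁻¹ (rep cs h (cs.simple j) (sr s)) := by
    rw [rep_inv_apply]; exact sr_nonneg s
  have h2 := (le_iff_of_WM R hP.toHyp hj hr h0 h1).1 (hP.nons _ hr h0 hns)
  rwa [rep_inv_apply] at h2

/-- **claim 2** -/
theorem mem_WJ_of_WM [Finite W] [Finite Y] [Fact p.Prime] {P : Subgroup Y}
    (hP : HypN cs h X p P) : ∀ {w : W}, w ∈ WM R.nsys cs h X P →
    w ∈ WJ cs ({i | cs.simple i ∈ WM R.nsys cs h X P} ∪ {i | ¬ X (sr i) ≤ P}) := by
  intro w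
  induction hl : cs.length w using Nat.strong_induction_on generalizing w with
  | _ N ih =>
  intro hw
  by_cases hw1 : w = 1
  · rw [hw1]; exact one_mem _
  by_cases H : ∃ i, rep cs h w (sr i) ≤ 0 ∧ (X (-rep cs h w (sr i)) ≤ P ∨ X (sr i) ≤ P)
  · obtain ⟨i, hi, hX⟩ := H
    have hroot : IsRoot cs h (-rep cs h w (sr i)) := ((isRoot_sr cs h i).act w).neg
    have hpos : 0 ≤ -rep cs h w (sr i) := neg_nonneg.2 hi
    by_cases hX1 : X (-rep cs h w (sr i)) ≤ P
    · obtain ⟨h1, h2⟩ := step R hP hw hi hX1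
      have hlt : cs.length (w * cs.simple i) < cs.length w := (lt_iff cs h w i).2 hi
      have h3 := ih _ (by rw [← hl]; exact hlt) rfl h1
      have h4 : w = (w * cs.simple i) * cs.simple i := by rw [mul_assoc, simple_mul_simple_self, mul_one]
      rw [h4]
      exact mul_mem h3 (simple_mem_WJ cs (Or.inl h2))
    · have hXi : X (sr i) ≤ P := hX.resolve_left hX1
      have hg : ∃ g, -rep cs h w (sr i) = sr g := by
        by_contra hcon
        push Not at hcon
        exact hX1 (hP.nons _ hroot hpos hcon)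
      obtain ⟨g, hg⟩ := hg
      have hwg : rep cs h w⁻¹ (sr g) = -sr i := by rw [← hg, map_neg, rep_inv_apply]
      have h0 : rep cs h w⁻¹ (sr g) ≤ 0 := by rw [hwg]; exact neg_nonpos.2 (sr_nonneg i)
      obtain ⟨h1, h2⟩ := step R hP (WM_inv hw) h0 (by rw [hwg, neg_neg]; exact hXi)
      have h3 : cs.simple g * w ∈ WM R.nsys cs h X P := by
        have := WM_inv h1
        rwa [mul_inv_rev, inv_inv, inv_simple] at this
      have hlt : cs.length (cs.simple g * w) < cs.length w := by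
        have := (lt_iff cs h w⁻¹ g).2 h0
        rw [← cs.length_inv w, ← cs.length_inv (cs.simple g * w), mul_inv_rev, inv_simple]
        exact this
      have h4 := ih _ (by rw [← hl]; exact hlt) rfl h3
      have h5 : w = cs.simple g * (cs.simple g * w) := by rw [← mul_assoc, simple_mul_simple_self, one_mul]
      rw [h5]
      exact mul_mem (simple_mem_WJ cs (Or.inl h2)) h4
  · push Not at H
    have hD : DescSimple cs h w := by
      intro i hi
      have h1 := (H i hi).1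
      by_contra hcon
      push Not at hcon
      refine h1 (hP.nons _ ((isRoot_sr cs h i).act w).neg (neg_nonneg.2 hi) fun g hg => hcon g ?_)
      rw [← hg, neg_neg]
    refine WJ_mono cs ?_ (DescSimple.mem_WJ hD)
    intro i hi
    exact Or.inr (H i hi).2

/-- **claim 4** -/
theorem claim4 [Finite W] [Finite Y] [Fact p.Prime]
    (hconn : ∀ J : Set I, J.Nonempty → J ≠ Set.univ → ∃ a ∈ J, ∃ b, b ∉ J ∧ M a b ≠ 2) [Nontrivial I]
    {P : Subgroup Y} (hP : HypN cs h X p P) (hJ : ∀ i, cs.simple i ∉ WM R.nsys cs h X P)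
    (hS : ∀ i, ¬ X (sr i) ≤ P) {w : W} (hw : w ∈ WM R.nsys cs h X P) : w = 1 := by
  -- all descents of all elements are simple
  have hDS : ∀ {w : W}, w ∈ WM R.nsys cs h X P → DescSimple cs h w := by
    intro w hw i hi
    by_contra hcon
    push Not at hcon
    refine hJ i (step R hP hw hi ?_).2
    refine hP.nons _ ((isRoot_sr cs h i).act w).neg (neg_nonneg.2 hi) fun g hg => hcon g ?_
    rw [← hg, neg_neg]
  have hDU : ∀ {w : W}, w ∈ WM R.nsys cs h X P → w ≠ 1 → ∀ i, rep cs h w (sr i) ≤ 0 := by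
    intro w hw hw1
    by_contra hcon
    have hne : Desc cs h w ≠ Set.univ := fun h1 => hcon fun i => by
      have : i ∈ Desc cs h w := by rw [h1]; trivial
      exact this
    have hnonempty : (Desc cs h w).Nonempty := by
      by_contra hemp
      rw [Set.not_nonempty_iff_eq_empty] at hemp
      refine hw1 (eq_one_of_nonneg cs h w fun i => ?_)
      have hi : i ∉ Desc cs h w := by rw [hemp]; exact Set.notMem_empty i
      exact ((isRoot_sr cs h i).act w).pos_or_neg.resolve_right hi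
    obtain ⟨a, ha, t, ht, hM⟩ := hconn _ hnonempty hne
    have hat : a ≠ t := fun h1 => ht (h1 ▸ ha)
    have hpos : 0 ≤ rep cs h w (sr t) := ((isRoot_sr cs h t).act w).pos_or_neg.resolve_right ht
    have hroot : IsRoot cs h (rep cs h w (sr t)) := (isRoot_sr cs h t).act w
    have h1 : 0 ≤ rep cs h w⁻¹ (rep cs h w (sr t)) := by rw [rep_inv_apply]; exact sr_nonneg t
    by_cases hs : ∀ q, rep cs h w (sr t) ≠ sr q
    · have h2 := (le_iff_of_WM R hP.toHyp hw hroot hpos h1).1 (hP.nons _ hroot hpos hs)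
      rw [rep_inv_apply] at h2
      exact hS t h2
    · push Not at hs
      obtain ⟨q, hq⟩ := hs
      have hwD := (hDS hw).mem_WJ
      have h3 : rep cs h w (sr t) t = 1 := by
        rw [rep_apply_of_mem cs h hwD (sr t) ht, sr_self]
      have hqt : q = t := by
        by_contra hqt
        rw [hq, sr_ne (Ne.symm hqt)] at h3
        exact zero_ne_one h3
      subst hqt
      -- the root `s_a α_t`
      have hA : A a q < 0 := cartan_neg h hat hM
      have hx : rep cs h (cs.simple a) (sr q) = sr q - A a q • sr a := by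
        rw [rep_simple_eq]
        congr 2
        unfold pairing
        rw [Finset.sum_eq_single q]
        · rw [sr_self]; ring
        · intro r _ hr; rw [sr_ne hr]; ring
        · intro hr; exact absurd (Finset.mem_univ q) hr
      have hxN : rep cs h (cs.simple a) (sr q) ∈ NotJ cs h (Desc cs h w) := by
        refine ⟨(isRoot_sr cs h q).act _, ?_, q, ht, ?_⟩
        · refine (isRoot_sr cs h q).simple_nonneg (sr_nonneg q) a fun h4 => ?_
          have := congrFun h4 q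
          rw [sr_self, sr_ne hat.symm] at this
          exact one_ne_zero this
        · rw [rep_simple_apply cs h a _ q hat.symm, sr_self]; exact one_pos
      have h5 := (hDS hw).nonneg hxN
      obtain ⟨g, hg⟩ := hDS hw a ha
      have h6 : rep cs h w (rep cs h (cs.simple a) (sr q)) = sr q + A a q • sr g := by
        rw [hx, map_sub, map_smul, hq, hg, smul_neg, sub_neg_eq_add]
      rw [h6] at h5
      have h7 : (0 : ℤ) ≤ sr q g + A a q * sr g g := h5 g
      rw [sr_self, mul_one] at h7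
      by_cases hgq : g = q
      · subst hgq
        rw [sr_self] at h7
        have h8 : A a g = -1 := by omega
        have h9 := ((isRoot_sr cs h g).act (cs.simple a)).act w
        rw [h6, h8] at h9
        exact h9.ne_zero (by simp)
      · rw [sr_ne hgq] at h7
        omega
  by_contra hw1
  have hwi := WM_inv hw
  have hwi1 : w⁻¹ ≠ 1 := inv_ne_one.2 hw1
  obtain ⟨b₀, hb₀, k, hk, b, hb, hkb⟩ := exists_rp_of_WM R hw
  have hP' := hP.conj R hb₀
  set P' := cj b₀ P with hP'def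
  have hWM : WM R.nsys cs h X P' = WM R.nsys cs h X P := by rw [hP'def, WM_cj hb₀]
  obtain ⟨i, j, hij⟩ := exists_pair_ne I
  have hnot : ∀ i, ∃ x ∈ X (sr i), x ∉ P' := by
    intro i
    have h1 : ¬ X (sr i) ≤ P' := fun h1 => hS i ((le_cj_iff R hP.toHyp hb₀ (isRoot_sr cs h i) (sr_nonneg i)).1 h1)
    exact Set.not_subset.1 h1
  obtain ⟨x, hx, hxP⟩ := hnot i
  obtain ⟨y, hy, hyP⟩ := hnot j
  have hXU : ∀ i, X (sr i) ≤ RGD.Sup X (RGD.Pos cs h) := fun i => RGD.le_Sup ⟨isRoot_sr cs h i, sr_nonneg i⟩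
  obtain ⟨l, hl⟩ := exists_mul_zpow_mem R.isPGroup_Upos hP'.idx (hXU j hy) hyP (hXU i hx)
  have hx1 : x ≠ 1 := fun h1 => hxP (h1 ▸ one_mem _)
  have hyl : y ^ l ∈ X (sr j) := zpow_mem hy l
  obtain ⟨i', hi'⟩ := hDS hwi i (hDU hwi hwi1 i)
  obtain ⟨j', hj'⟩ := hDS hwi j (hDU hwi hwi1 j)
  have hij' : i' ≠ j' := by
    rintro rfl
    have h1 := rep_injective_apply cs h w⁻¹ (hi'.trans hj'.symm)
    have h2 := congrFun h1 i
    rw [sr_self, sr_ne hij] at h2
    exact one_ne_zero h2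
  have hxm : k⁻¹ * x * k ∈ X (-sr i') := by
    have := R.conj_mem' hk (isRoot_sr cs h i) hx
    rwa [hi'] at this
  have hym : k⁻¹ * y ^ l * k ∈ X (-sr j') := by
    have := R.conj_mem' hk (isRoot_sr cs h j) hyl
    rwa [hj'] at this
  have hxm1 : k⁻¹ * x * k ≠ 1 := by
    intro h1
    apply hx1
    have : x = k * (k⁻¹ * x * k) * k⁻¹ := by group
    rw [this, h1]; group
  have hcell : ∀ {q : I} {z : Y}, z ∈ X (-sr q) → z ≠ 1 → Cell R.nsys cs h X (cs.simple q) z := by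
    intro q z hz hz1
    obtain ⟨a, ha, t, ht, b', hb', e⟩ := R.rk1 q z hz hz1
    have hrtn : Rp cs R.nsys (cs.simple q) (t * n q) := by
      have := (rp_of_mem (cs := cs) (hN := R.nsys) ht).mul (rp_simple cs R.nsys q)
      rwa [one_mul] at this
    exact ⟨a, RGD.X_le_B (isRoot_sr cs h q) (sr_nonneg q) ha, t * n q, hrtn, b',
      RGD.X_le_B (isRoot_sr cs h q) (sr_nonneg q) hb', by rw [e]; group⟩
  have hz : (k * b)⁻¹ * (x * y ^ l) * (k * b) ∈ P' := mul_mem (mul_mem (inv_mem hkb) hl) hkb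
  have e : (k * b)⁻¹ * (x * y ^ l) * (k * b) = b⁻¹ * ((k⁻¹ * x * k) * (k⁻¹ * y ^ l * k)) * b := by group
  rw [e] at hz
  have hcx := hcell hxm hxm1
  by_cases hym1 : k⁻¹ * y ^ l * k = 1
  · rw [hym1, mul_one] at hz
    refine hJ i' ?_
    rw [← hWM]
    exact ⟨_, hz, (hcx.mul_left (inv_mem hb)).mul_right hb⟩
  · have hcy := hcell hym hym1
    have hne1 : cs.simple i' * cs.simple j' ≠ 1 := by
      intro h1
      have h2 : cs.simple i' = cs.simple j' := by rw [← cs.inv_simple j']; exact eq_inv_of_mul_eq_one_left h1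
      exact RGD.simple_ne (h := h) hij' h2
    have hlen : cs.length (cs.simple i' * cs.simple j') = cs.length (cs.simple i') + cs.length (cs.simple j') := by
      have h1 : cs.length (cs.simple i') < cs.length (cs.simple i' * cs.simple j') := by
        rw [lt_iff' cs h]
        refine (isRoot_sr cs h j').simple_nonneg (sr_nonneg j') i' fun h4 => ?_
        have := congrFun h4 j'
        rw [sr_self, sr_ne hij'.symm] at this
        exact one_ne_zero this
      have h2 := cs.length_mul_le (cs.simple i') (cs.simple j')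
      rw [cs.length_simple, cs.length_simple] at h2 ⊢
      rw [cs.length_simple] at h1
      omega
    have hcxy := Cell.mul_of_length R hlen hcx hcy
    have hmem : cs.simple i' * cs.simple j' ∈ WM R.nsys cs h X P := by
      rw [← hWM]
      exact ⟨_, hz, (hcxy.mul_left (inv_mem hb)).mul_right hb⟩
    have hall := hDU hmem hne1
    obtain ⟨a, ha, c, hc, hM⟩ := hconn {i'} ⟨i', rfl⟩ (fun h1 => hij' (by
      have : j' ∈ ({i'} : Set I) := by rw [h1]; trivial
      exact this.symm))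
    rw [Set.mem_singleton_iff] at ha hc
    subst ha
    by_cases hcj : c = j'
    · subst hcj
      have hA : A c a < 0 := cartan_neg h hij'.symm (by rwa [M.symmetric])
      have h1 : rep cs h (cs.simple a * cs.simple c) (sr a) c ≤ (0 : ℤ) := hall a c
      rw [rep_mul_apply, rep_simple_apply cs h a _ c hij'.symm, rep_simple_apply_self, sr_ne hc] at h1
      have : pairing A c (sr a) = A c a := by
        unfold pairing
        rw [Finset.sum_eq_single a]
        · rw [sr_self]; ring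
        · intro q _ hq; rw [sr_ne hq]; ring
        · intro hq; exact absurd (Finset.mem_univ a) hq
      rw [this] at h1
      omega
    · have h1 : rep cs h (cs.simple a * cs.simple j') (sr c) c ≤ (0 : ℤ) := hall c c
      rw [rep_mul_apply, rep_simple_apply cs h a _ c hc, rep_simple_apply cs h j' _ c hcj, sr_self] at h1
      omega

/-- **Theorem A** -/
theorem le_PJ_of_index [Finite W] [Finite Y] [Fact p.Prime]
    (hconn : ∀ J : Set I, J.Nonempty → J ≠ Set.univ → ∃ a ∈ J, ∃ b, b ∉ J ∧ M a b ≠ 2) [Nontrivial I]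
    {P : Subgroup Y} (hG : P ≤ GG cs h T X) (hP : HypN cs h X p P) :
    ∃ K : Set I, K ≠ Set.univ ∧ P ≤ PJ cs h T X K := by
  have key : ∀ K : Set I, (∀ w ∈ WM R.nsys cs h X P, w ∈ WJ cs K) → P ≤ PJ cs h T X K := by
    intro K hK g hg
    obtain ⟨w, hw⟩ := (mem_GG R).1 (hG hg)
    rw [mem_PJ_iff_cell R]
    exact ⟨w, hK w ⟨g, hg, hw⟩, hw⟩
  set J : Set I := {i | cs.simple i ∈ WM R.nsys cs h X P} with hJdef
  set S : Set I := {i | ¬ X (sr i) ≤ P} with hSdef
  by_cases hJS : J ∪ S = Set.univ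
  swap
  · exact ⟨J ∪ S, hJS, key _ fun w hw => mem_WJ_of_WM R hP hw⟩
  have hSne : S.Nonempty := by
    by_contra hemp
    rw [Set.not_nonempty_iff_eq_empty] at hemp
    refine hP.nosyl 1 ?_
    rw [cj_one]
    refine RGD.Sup_le fun x hx => ?_
    by_cases hs : ∀ j, x ≠ sr j
    · exact hP.nons _ hx.1 hx.2 hs
    · push Not at hs
      obtain ⟨j, rfl⟩ := hs
      by_contra hcon
      have : j ∈ S := hcon
      rw [hemp] at this
      exact this
  have hadj : ∀ j ∈ J, ∀ s, j ≠ s → M j s ≠ 2 → s ∉ S := by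
    intro j hj s hjs hM hs
    exact hs (claim1 R hP hj hjs hM)
  have hJe : J = ∅ := by
    by_contra hJne
    have hJne' : J.Nonempty := Set.nonempty_iff_ne_empty.2 hJne
    by_cases hJu : J = Set.univ
    · obtain ⟨s, hs⟩ := hSne
      obtain ⟨a, ha, c, hc, hM⟩ := hconn {s} ⟨s, rfl⟩ (fun h1 => by
        obtain ⟨q, hq⟩ := exists_ne s
        have : q ∈ ({s} : Set I) := by rw [h1]; trivial
        exact hq this)
      rw [Set.mem_singleton_iff] at ha hc
      subst ha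
      exact hadj c (by rw [hJu]; trivial) a hc (by rwa [M.symmetric]) hs
    · obtain ⟨a, ha, c, hc, hM⟩ := hconn J hJne' hJu
      have hcS : c ∈ S := by
        have : c ∈ J ∪ S := by rw [hJS]; trivial
        exact this.resolve_left hc
      exact hadj a ha c (fun h1 => hc (h1 ▸ ha)) hM hcS
  have hSu : ∀ i, ¬ X (sr i) ≤ P := by
    intro i
    have : i ∈ J ∪ S := by rw [hJS]; trivial
    rw [hJe, Set.empty_union] at this
    exact this
  have hJ' : ∀ i, cs.simple i ∉ WM R.nsys cs h X P := by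
    intro i hi
    have : i ∈ J := hi
    rw [hJe] at this
    exact this
  refine ⟨∅, ?_, key _ fun w hw => ?_⟩
  · obtain ⟨i⟩ : Nonempty I := inferInstance
    exact fun h1 => Set.notMem_empty i (by rw [h1]; trivial)
  · rw [claim4 R hconn hP hJ' hSu hw]
    exact one_mem _

end Cfsg.Agent.H396.ThmN
end

-- part: H396/ThmB
section
/-!
# Root group data: subgroups of index `p · (p'-number)`, an exceptional pair of nodes (helper396)

`|U : P ∩ U| = p`, `P` contains no conjugate of `U`; the non-simple positive root groups which are not supported in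
`{a, b}` are in `P`, but `X_d`, `X_{d'}` are not, `d = α_a + α_b`, `d'` non-simple, `d' ≠ d`, and some further node
is joined to `a` or `b`. Then `P ≤ P_K` for a proper subset `K`.
-/

set_option autoImplicit false
set_option linter.unusedSectionVars false

namespace Cfsg.Agent.H396.ThmB

open CoxeterSystem Cfsg.Agent.ChevalleyStructure.CoxeterGeom Cfsg.Agent.Tits.Roots Cfsg.Agent.Tits.Core
  Cfsg.Agent.Tits.RootComb Cfsg.Agent.Tits.Exchange Cfsg.Agent.Nodes.Reps Cfsg.Agent.Nodes.BNOf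
  Cfsg.Agent.Nodes.StabComb Cfsg.Agent.Nodes.Bruhat Cfsg.Agent.Nodes.OppDec Cfsg.Agent.Nodes.LeviDec
  Cfsg.Agent.Omega.EH3.Kf.Lev
open Cfsg.Agent.H396.ThmA (Hyp WM cj_U_of_mem_B comm_le_of_hyp WM_cj_le WM_cj WM_inv exists_rp_of_WM le_iff_of_rp)
open Cfsg.Agent.H396.ThmN (le_cj_of_le le_cj_iff le_iff_of_WM stepG)

variable {I W Y : Type*} [Fintype I] [DecidableEq I] [Group W] [Group Y] {M : CoxeterMatrix I}
  {cs : CoxeterSystem M W} {A : I → I → ℤ} {h : IsCartan M A} {p : ℕ} {T : Subgroup Y} {n : I → Y}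
  {X : (I → ℤ) → Subgroup Y}

variable (R : RGD cs h p T n X)
include R

/-- shortening on the right by a node of `J` -/
theorem descend [Finite W] [Finite Y] [Fact p.Prime] {P : Subgroup Y} (hP : Hyp cs h X p P) {w : W}
    (hw : w ∈ WM R.nsys cs h X P) {i : I} (hJ : cs.simple i ∈ WM R.nsys cs h X P)
    (hS : X (sr i) ≤ P ∨ ∃ x ∈ RGD.PosNe cs h i, ¬ X x ≤ P) : w * cs.simple i ∈ WM R.nsys cs h X P := by
  obtain ⟨m, hm, c₁, hc₁, k, hk, b₂, hb₂, rfl⟩ := hw
  obtain ⟨n', hn', c₂, hc₂, l, hl, c₃, hc₃, rfl⟩ := hJ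
  obtain ⟨v₂, hv₂, x₂, hx₂, t₂, ht₂, rfl⟩ := R.mem_B' i hb₂
  obtain ⟨v₁, hv₁, x₁, hx₁, t₁, ht₁, rfl⟩ := R.mem_B' i hc₂
  have hVU : RGD.Sup X (RGD.PosNe cs h i) ≤ RGD.Sup X (RGD.Pos cs h) :=
    RGD.Sup_mono fun x hx => ⟨hx.1, hx.2.1⟩
  have hXU : X (sr i) ≤ RGD.Sup X (RGD.Pos cs h) := RGD.le_Sup ⟨isRoot_sr cs h i, sr_nonneg i⟩
  -- the element of `X_i`
  have hxs : t₂⁻¹ * x₂⁻¹ * t₂ * x₁⁻¹ ∈ X (sr i) := by
    refine mul_mem ?_ (inv_mem hx₁)
    have h1 := R.tor (sr i) (isRoot_sr cs h i) t₂⁻¹ (inv_mem ht₂)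
    rw [← h1, mem_cj]
    have : t₂⁻¹⁻¹ * (t₂⁻¹ * x₂⁻¹ * t₂) * t₂⁻¹ = x₂⁻¹ := by group
    rw [this]; exact inv_mem hx₂
  obtain ⟨v', hv', hu⟩ : ∃ v' ∈ RGD.Sup X (RGD.PosNe cs h i), (t₂⁻¹ * x₂⁻¹ * t₂ * x₁⁻¹) * v' ∈ P := by
    rcases hS with hS | ⟨y, hy, hyP⟩
    · exact ⟨1, one_mem _, by rw [mul_one]; exact hS hxs⟩
    · obtain ⟨v, hv, hvP⟩ := Set.not_subset.1 hyP
      have hvV : v ∈ RGD.Sup X (RGD.PosNe cs h i) := RGD.le_Sup (S := RGD.PosNe cs h i) hy hv
      obtain ⟨j, hj⟩ := exists_mul_zpow_mem R.isPGroup_Upos hP.idx (hVU hvV) hvP (hXU hxs)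
      exact ⟨v ^ j, zpow_mem hvV j, hj⟩
  have hnX : ∀ {z : Y}, z ∈ X (sr i) → ∀ {v : Y}, v ∈ RGD.Sup X (RGD.PosNe cs h i) →
      z * v * z⁻¹ ∈ RGD.Sup X (RGD.PosNe cs h i) := fun hz v hv =>
    (Subgroup.mem_normalizer_iff.1 (R.X_le_normalizer_V i hz) v).1 hv
  have hnT : ∀ {z : Y}, z ∈ T → ∀ {v : Y}, v ∈ RGD.Sup X (RGD.PosNe cs h i) →
      z * v * z⁻¹ ∈ RGD.Sup X (RGD.PosNe cs h i) := fun hz v hv =>
    (Subgroup.mem_normalizer_iff.1 (R.T_le_normalizer (S := RGD.PosNe cs h i) (fun x hx => hx.1) hz) v).1 hv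
  set q := v₂ * (t₂ * (x₁⁻¹ * (v' * v₁) * x₁) * t₂⁻¹) with hq
  have hqV : q ∈ RGD.Sup X (RGD.PosNe cs h i) := by
    refine mul_mem hv₂ (hnT ht₂ ?_)
    have := hnX (inv_mem hx₁) (mul_mem hv' hv₁)
    rwa [inv_inv] at this
  have hl' : Rp cs R.nsys (cs.simple i) ((t₂ * t₁) * l) := by
    have := (rp_of_mem (cs := cs) (hN := R.nsys) (mul_mem ht₂ ht₁)).mul hl
    rwa [one_mul] at this
  have hconj : ((t₂ * t₁) * l)⁻¹ * q * ((t₂ * t₁) * l) ∈ RGD.Sup X (RGD.PosNe cs h i) := by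
    have h1 : (n i)⁻¹ * ((t₂ * t₁) * l) ∈ T := (rp_simple cs R.nsys i).unique hl'
    have h2 : (n i)⁻¹ * q * n i ∈ RGD.Sup X (RGD.PosNe cs h i) := by
      have h3 := R.cj_n_V i
      rw [← mem_cj, h3]; exact hqV
    have h3 := hnT (inv_mem h1) h2
    have h4 : ((n i)⁻¹ * ((t₂ * t₁) * l))⁻¹ * ((n i)⁻¹ * q * n i) * ((n i)⁻¹ * ((t₂ * t₁) * l))⁻¹⁻¹ =
        ((t₂ * t₁) * l)⁻¹ * q * ((t₂ * t₁) * l) := by group
    rwa [h4] at h3
  refine ⟨_, mul_mem (mul_mem hm hu) hn', c₁, hc₁, k * ((t₂ * t₁) * l), hk.mul hl',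
    (((t₂ * t₁) * l)⁻¹ * q * ((t₂ * t₁) * l)) * c₃, mul_mem (RGD.U_le_B (hVU hconj)) hc₃, ?_⟩
  rw [hq]
  group

/-- cells of the elements of negative simple root groups -/
theorem cell_neg {q : I} {z : Y} (hz : z ∈ X (-sr q)) (hz1 : z ≠ 1) : Cell R.nsys cs h X (cs.simple q) z := by
  obtain ⟨a, ha, t, ht, b', hb', e⟩ := R.rk1 q z hz hz1
  have hrtn : Rp cs R.nsys (cs.simple q) (t * n q) := by
    have := (rp_of_mem (cs := cs) (hN := R.nsys) ht).mul (rp_simple cs R.nsys q)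
    rwa [one_mul] at this
  exact ⟨a, RGD.X_le_B (isRoot_sr cs h q) (sr_nonneg q) ha, t * n q, hrtn, b',
    RGD.X_le_B (isRoot_sr cs h q) (sr_nonneg q) hb', by rw [e]; group⟩

/-- two bad roots -/
theorem pair [Finite W] [Finite Y] [Fact p.Prime] {P : Subgroup Y} (hP : Hyp cs h X p P) {w : W}
    (hw : w ∈ WM R.nsys cs h X P) {x y : I → ℤ} (hx : IsRoot cs h x) (hx0 : 0 ≤ x) (hxP : ¬ X x ≤ P)
    (hy : IsRoot cs h y) (hy0 : 0 ≤ y) (hyP : ¬ X y ≤ P) :
    ∃ (b g g' : Y) (P' : Subgroup Y), b ∈ RGD.B cs h T X ∧ WM R.nsys cs h X P' = WM R.nsys cs h X P ∧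
      g ∈ X (rep cs h w⁻¹ x) ∧ g ≠ 1 ∧ g' ∈ X (rep cs h w⁻¹ y) ∧ g' ≠ 1 ∧ b⁻¹ * (g * g') * b ∈ P' := by
  obtain ⟨b₀, hb₀, k, hk, b, hb, hkb⟩ := exists_rp_of_WM R hw
  have hP' := hP.conj R hb₀
  have hx' : ¬ X x ≤ cj b₀ P := fun h1 => hxP ((le_cj_iff R hP hb₀ hx hx0).1 h1)
  have hy' : ¬ X y ≤ cj b₀ P := fun h1 => hyP ((le_cj_iff R hP hb₀ hy hy0).1 h1)
  obtain ⟨u, hu, huP⟩ := Set.not_subset.1 hx'
  obtain ⟨v, hv, hvP⟩ := Set.not_subset.1 hy'
  obtain ⟨l, hl⟩ := exists_mul_zpow_mem R.isPGroup_Upos hP'.idx (RGD.le_Sup (S := RGD.Pos cs h) ⟨hy, hy0⟩ hv) hvP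
    (RGD.le_Sup (S := RGD.Pos cs h) ⟨hx, hx0⟩ hu)
  have hu1 : u ≠ 1 := fun h1 => huP (h1 ▸ one_mem _)
  have hv1 : v ^ l ≠ 1 := fun h1 => huP (by rw [h1, mul_one] at hl; exact hl)
  refine ⟨b, k⁻¹ * u * k, k⁻¹ * v ^ l * k, cj b₀ P, hb, WM_cj hb₀, R.conj_mem' hk hx hu, ?_,
    R.conj_mem' hk hy (zpow_mem hv l), ?_, ?_⟩
  · intro h1
    apply hu1
    have : u = k * (k⁻¹ * u * k) * k⁻¹ := by group
    rw [this, h1]; group
  · intro h1
    apply hv1
    have : v ^ l = k * (k⁻¹ * v ^ l * k) * k⁻¹ := by group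
    rw [this, h1]; group
  · have h1 : (k * b)⁻¹ * (u * v ^ l) * (k * b) ∈ cj b₀ P := mul_mem (mul_mem (inv_mem hkb) hl) hkb
    have e : (k * b)⁻¹ * (u * v ^ l) * (k * b) = b⁻¹ * ((k⁻¹ * u * k) * (k⁻¹ * v ^ l * k)) * b := by group
    rwa [e] at h1

theorem pair_pos [Finite W] [Finite Y] [Fact p.Prime] {P : Subgroup Y} (hP : Hyp cs h X p P) {w : W}
    (hw : w ∈ WM R.nsys cs h X P) {x y : I → ℤ} (hx : IsRoot cs h x) (hx0 : 0 ≤ x) (hxP : ¬ X x ≤ P)
    (hy : IsRoot cs h y) (hy0 : 0 ≤ y) (hyP : ¬ X y ≤ P) {i : I} (hi : rep cs h w⁻¹ x = -sr i)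
    (h1 : 0 ≤ rep cs h w⁻¹ y) : cs.simple i ∈ WM R.nsys cs h X P := by
  obtain ⟨b, g, g', P', hb, hWM, hg, hg1, hg', -, hmem⟩ := pair R hP hw hx hx0 hxP hy hy0 hyP
  rw [hi] at hg
  rw [← hWM]
  refine ⟨_, hmem, ?_⟩
  have h2 := (cell_neg R hg hg1).mul_right (RGD.X_le_B (hy.act _) h1 hg')
  exact (h2.mul_left (inv_mem hb)).mul_right hb

theorem pair_neg [Finite W] [Finite Y] [Fact p.Prime] {P : Subgroup Y} (hP : Hyp cs h X p P) {w : W}
    (hw : w ∈ WM R.nsys cs h X P) {x y : I → ℤ} (hx : IsRoot cs h x) (hx0 : 0 ≤ x) (hxP : ¬ X x ≤ P)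
    (hy : IsRoot cs h y) (hy0 : 0 ≤ y) (hyP : ¬ X y ≤ P) {i j : I} (hij : i ≠ j) (hi : rep cs h w⁻¹ x = -sr i)
    (hj : rep cs h w⁻¹ y = -sr j) : cs.simple i * cs.simple j ∈ WM R.nsys cs h X P := by
  obtain ⟨b, g, g', P', hb, hWM, hg, hg1, hg', hg1', hmem⟩ := pair R hP hw hx hx0 hxP hy hy0 hyP
  rw [hi] at hg
  rw [hj] at hg'
  rw [← hWM]
  refine ⟨_, hmem, ?_⟩
  have hlen : cs.length (cs.simple i * cs.simple j) = cs.length (cs.simple i) + cs.length (cs.simple j) := by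
    have h1 : cs.length (cs.simple i) < cs.length (cs.simple i * cs.simple j) := by
      rw [lt_iff' cs h]
      refine (isRoot_sr cs h j).simple_nonneg (sr_nonneg j) i fun h4 => ?_
      have := congrFun h4 j
      rw [sr_self, sr_ne hij.symm] at this
      exact one_ne_zero this
    have h2 := cs.length_mul_le (cs.simple i) (cs.simple j)
    rw [cs.length_simple, cs.length_simple] at h2 ⊢
    rw [cs.length_simple] at h1
    omega
  have h2 := Cell.mul_of_length R hlen (cell_neg R hg hg1) (cell_neg R hg' hg1')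
  exact (h2.mul_left (inv_mem hb)).mul_right hb

omit R in
/-- the hypotheses -/
structure HypB (cs : CoxeterSystem M W) (h : IsCartan M A) (X : (I → ℤ) → Subgroup Y) (p : ℕ) (P : Subgroup Y)
    (a b : I) (d d' : I → ℤ) : Prop extends Hyp cs h X p P where
  nons : ∀ x, IsRoot cs h x → 0 ≤ x → (∀ i, x ≠ sr i) → ∀ k, k ≠ a → k ≠ b → 0 < x k → X x ≤ P
  hd : IsRoot cs h d
  hab : d = sr a + sr b
  hds : ∀ i, d ≠ sr i
  hdP : ¬ X d ≤ P
  hd' : IsRoot cs h d'
  hd0' : 0 ≤ d'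
  hds' : ∀ i, d' ≠ sr i
  hdP' : ¬ X d' ≤ P
  hne : d ≠ d'

section Main

variable [Finite W] [Finite Y] [Fact p.Prime] {P : Subgroup Y} {a b : I} {d d' : I → ℤ}
  (hP : HypB cs h X p P a b d d')
include hP

omit R [Finite W] [Finite Y] [Fact p.Prime] in
theorem d_nonneg : 0 ≤ d := by rw [hP.hab]; exact add_nonneg (sr_nonneg a) (sr_nonneg b)

omit R [Finite W] [Finite Y] [Fact p.Prime] in
theorem side (i : I) : X (sr i) ≤ P ∨ ∃ x ∈ RGD.PosNe cs h i, ¬ X x ≤ P :=
  Or.inr ⟨d, ⟨hP.hd, d_nonneg hP, hP.hds i⟩, hP.hdP⟩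

/-- an element with a descent outside `J`: the descents go to negatives of bad roots -/
theorem bad_of_desc {w : W} (hw : w ∈ WM R.nsys cs h X P) {i : I} (hi : rep cs h w (sr i) ≤ 0)
    (hJ : cs.simple i ∉ WM R.nsys cs h X P) : ¬ X (-rep cs h w (sr i)) ≤ P := fun h1 =>
  hJ (stepG R hP.toHyp hw hi h1 (side hP i)).2

/-- all bad roots are made negative by `w⁻¹` -/
theorem neg_of_bad {w : W} (hw : w ∈ WM R.nsys cs h X P) {i : I} (hi : rep cs h w (sr i) ≤ 0)
    (hJ : cs.simple i ∉ WM R.nsys cs h X P) {y : I → ℤ} (hy : IsRoot cs h y) (hy0 : 0 ≤ y) (hyP : ¬ X y ≤ P) :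
    rep cs h w⁻¹ y ≤ 0 := by
  have h1 := bad_of_desc R hP hw hi hJ
  have hroot : IsRoot cs h (-rep cs h w (sr i)) := ((isRoot_sr cs h i).act w).neg
  have hpos : 0 ≤ -rep cs h w (sr i) := neg_nonneg.2 hi
  have hinv : rep cs h w⁻¹ (-rep cs h w (sr i)) = -sr i := by rw [map_neg, rep_inv_apply]
  rcases (hy.act w⁻¹).pos_or_neg with h2 | h2
  · exact absurd (pair_pos R hP.toHyp hw hroot hpos h1 hy hy0 hyP hinv h2) hJ
  · exact h2

/-- only one descent outside `J` -/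
theorem desc_unique {w : W} (hw : w ∈ WM R.nsys cs h X P) {i j : I} (hi : rep cs h w (sr i) ≤ 0)
    (hJi : cs.simple i ∉ WM R.nsys cs h X P) (hj : rep cs h w (sr j) ≤ 0)
    (hJj : cs.simple j ∉ WM R.nsys cs h X P) : i = j := by
  by_contra hij
  have h1 := bad_of_desc R hP hw hi hJi
  have h2 := bad_of_desc R hP hw hj hJj
  have e1 : rep cs h w⁻¹ (-rep cs h w (sr i)) = -sr i := by rw [map_neg, rep_inv_apply]
  have e2 : rep cs h w⁻¹ (-rep cs h w (sr j)) = -sr j := by rw [map_neg, rep_inv_apply]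
  have h3 := pair_neg R hP.toHyp hw ((isRoot_sr cs h i).act w).neg (neg_nonneg.2 hi) h1
    ((isRoot_sr cs h j).act w).neg (neg_nonneg.2 hj) h2 hij e1 e2
  -- `j` is a descent of `s_i s_j`
  have h4 : rep cs h (cs.simple i * cs.simple j) (sr j) ≤ 0 := by
    rw [rep_mul_apply, rep_simple_sr, map_neg]
    refine neg_nonpos.2 ((isRoot_sr cs h j).simple_nonneg (sr_nonneg j) i fun h4 => ?_)
    have := congrFun h4 j
    rw [sr_self, sr_ne (Ne.symm hij)] at this
    exact one_ne_zero this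
  have key : ∀ {y : I → ℤ}, IsRoot cs h y → 0 ≤ y → (∀ i, y ≠ sr i) → ¬ X y ≤ P →
      rep cs h (cs.simple i) y = sr j := by
    intro y hy hy0 hys hyP
    have h5 := neg_of_bad R hP h3 h4 hJj hy hy0 hyP
    rw [mul_inv_rev, inv_simple, inv_simple, rep_mul_apply] at h5
    have h6 : 0 ≤ rep cs h (cs.simple i) y := hy.simple_nonneg hy0 i (hys i)
    by_contra h7
    have h8 := (hy.act (cs.simple i)).simple_nonneg h6 j h7
    exact ((hy.act (cs.simple i)).act (cs.simple j)).ne_zero (le_antisymm h5 h8)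
  have k1 := key hP.hd (d_nonneg hP) hP.hds hP.hdP
  have k2 := key hP.hd' hP.hd0' hP.hds' hP.hdP'
  exact hP.hne (rep_injective_apply cs h (cs.simple i) (k1.trans k2.symm))

/-- the reduced elements are in `W_{a,b}` -/
theorem mem_of_reduced {w : W} (hw : w ∈ WM R.nsys cs h X P) (hab : a ≠ b)
    (hr : ∀ i, rep cs h w (sr i) ≤ 0 → cs.simple i ∉ WM R.nsys cs h X P)
    (hl : ∀ i, rep cs h w⁻¹ (sr i) ≤ 0 → cs.simple i ∉ WM R.nsys cs h X P) : w ∈ WJ cs ({a, b} : Set I) := by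
  by_cases hw1 : w = 1
  · rw [hw1]; exact one_mem _
  have hex : ∀ v : W, v ≠ 1 → ∃ i, rep cs h v (sr i) ≤ 0 := by
    intro v hv
    by_contra hcon
    push Not at hcon
    exact hv (eq_one_of_nonneg cs h v fun i => ((isRoot_sr cs h i).act v).pos_or_neg.resolve_right (hcon i))
  obtain ⟨i, hi⟩ := hex w hw1
  obtain ⟨i', hi'⟩ := hex w⁻¹ (inv_ne_one.2 hw1)
  have huniq : ∀ j, j ≠ i → 0 ≤ rep cs h w (sr j) := by
    intro j hj
    refine ((isRoot_sr cs h j).act w).pos_or_neg.resolve_right fun h1 => hj ?_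
    exact (desc_unique R hP hw hi (hr i hi) h1 (hr j h1)).symm
  have hwd : rep cs h w d ≤ 0 := by
    have := neg_of_bad R hP (WM_inv hw) hi' (hl i' hi') hP.hd (d_nonneg hP) hP.hdP
    rwa [inv_inv] at this
  have hdsum : rep cs h w d = rep cs h w (sr a) + rep cs h w (sr b) := by rw [hP.hab, map_add]
  have hiab : i = a ∨ i = b := by
    by_contra hcon
    push Not at hcon
    have h1 := huniq a (Ne.symm hcon.1)
    have h2 := huniq b (Ne.symm hcon.2)
    have h3 : 0 ≤ rep cs h w d := by rw [hdsum]; exact add_nonneg h1 h2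
    exact (hP.hd.act w).ne_zero (le_antisymm hwd h3)
  -- the other node
  obtain ⟨o, ho, hio, hsum⟩ : ∃ o, o ≠ i ∧ (({a, b} : Set I) = {i, o}) ∧
      rep cs h w d = rep cs h w (sr i) + rep cs h w (sr o) := by
    rcases hiab with rfl | rfl
    · exact ⟨b, hab.symm, rfl, hdsum⟩
    · exact ⟨a, hab, Set.pair_comm _ _, by rw [hdsum, add_comm]⟩
  rw [hio]
  have hkab : ∀ k, k ≠ i → k ≠ o → k ≠ a ∧ k ≠ b := by
    intro k h1 h2
    have h3 : k ∉ ({a, b} : Set I) := by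
      rw [hio]
      simp only [Set.mem_insert_iff, Set.mem_singleton_iff, not_or]
      exact ⟨h1, h2⟩
    simp only [Set.mem_insert_iff, Set.mem_singleton_iff, not_or] at h3
    exact h3
  -- `-w α_i` is a bad root, supported in `{i, o}`
  have hbad := bad_of_desc R hP hw hi (hr i hi)
  have hroot : IsRoot cs h (-rep cs h w (sr i)) := ((isRoot_sr cs h i).act w).neg
  have hpos : 0 ≤ -rep cs h w (sr i) := neg_nonneg.2 hi
  have hsupp : ∀ k, k ≠ i → k ≠ o → rep cs h w (sr i) k = 0 := by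
    intro k h1 h2
    by_cases hs : ∀ q, -rep cs h w (sr i) ≠ sr q
    · by_contra h3
      have h4 : 0 < (-rep cs h w (sr i)) k := lt_of_le_of_ne (hpos k) fun h5 => h3 (by
        rw [Pi.neg_apply] at h5
        exact neg_eq_zero.1 h5.symm)
      exact hbad (hP.nons _ hroot hpos hs k (hkab k h1 h2).1 (hkab k h1 h2).2 h4)
    · push Not at hs
      obtain ⟨q, hq⟩ := hs
      -- bad simple roots are made negative by `w`
      rw [hq] at hbad
      have h4 : rep cs h w (sr q) ≤ 0 := by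
        have := neg_of_bad R hP (WM_inv hw) hi' (hl i' hi') (isRoot_sr cs h q) (sr_nonneg q) hbad
        rwa [inv_inv] at this
      have h5 : q = i := by
        by_contra h6
        exact ((isRoot_sr cs h q).act w).ne_zero (le_antisymm h4 (huniq q h6))
      subst h5
      have h6 : rep cs h w (sr q) = -sr q := neg_eq_iff_eq_neg.1 hq
      rw [h6, Pi.neg_apply, sr_ne h1, neg_zero]
  have hsuppo : ∀ k, k ≠ i → k ≠ o → rep cs h w (sr o) k = 0 := by
    intro k h1 h2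
    have h3 : rep cs h w (sr i) k + rep cs h w (sr o) k ≤ 0 := by
      have := hwd k
      rw [hsum] at this
      exact this
    have h4 := huniq o ho k
    rw [hsupp k h1 h2, zero_add] at h3
    exact le_antisymm h3 h4
  -- `w` preserves the vectors supported in `{i, o}`
  have hstab : ∀ x : I → ℤ, (∀ k, k ≠ i → k ≠ o → x k = 0) → ∀ k, k ≠ i → k ≠ o → rep cs h w x k = 0 := by
    intro x hx k h1 h2
    rw [Cfsg.Agent.Nodes.rep_eq_sum cs h w x, Finset.sum_apply]
    refine Finset.sum_eq_zero fun q _ => ?_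
    rw [Pi.smul_apply, smul_eq_mul]
    by_cases hq : q = i
    · rw [hq, hsupp k h1 h2, mul_zero]
    · by_cases hq' : q = o
      · rw [hq', hsuppo k h1 h2, mul_zero]
      · rw [hx q hq hq', zero_mul]
  have hstabn : ∀ m : ℕ, ∀ x : I → ℤ, (∀ k, k ≠ i → k ≠ o → x k = 0) → ∀ k, k ≠ i → k ≠ o →
      rep cs h (w ^ m) x k = 0 := by
    intro m
    induction m with
    | zero =>
      intro x hx k h1 h2
      rw [pow_zero, map_one]
      exact hx k h1 h2
    | succ m ih =>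
      intro x hx k h1 h2
      rw [pow_succ', rep_mul_apply]
      exact hstab _ (ih x hx) k h1 h2
  have hstabi : ∀ x : I → ℤ, (∀ k, k ≠ i → k ≠ o → x k = 0) → ∀ k, k ≠ i → k ≠ o → rep cs h w⁻¹ x k = 0 := by
    have h1 : w⁻¹ = w ^ (orderOf w - 1) := by
      rw [inv_eq_iff_mul_eq_one, ← pow_succ', Nat.sub_add_cancel (orderOf_pos w), pow_orderOf_eq_one]
    rw [h1]
    exact hstabn _
  -- the minimal representative
  obtain ⟨w₁, hmin, v, hv, rfl⟩ := exists_isMinR cs ({i, o} : Set I) w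
  rw [isMinR_iff] at hmin
  have hw₁ : w₁ = 1 := by
    refine eq_one_of_nonneg cs h w₁ fun q => ?_
    change 0 ≤ rep cs h w₁ (sr q)
    by_cases hq : q ∈ ({i, o} : Set I)
    · exact (lt_iff' cs h w₁ q).1 (hmin q hq)
    have hqi : q ≠ i := fun h1 => hq (by rw [h1]; exact Or.inl rfl)
    have hqo : q ≠ o := fun h1 => hq (by rw [h1]; exact Or.inr rfl)
    refine ((isRoot_sr cs h q).act w₁).pos_or_neg.resolve_right fun h1 => ?_
    -- `w₁ α_q = w (v⁻¹ α_q)`, and `v⁻¹ α_q = α_q + y`, `y` supported in `{i, o}`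
    have h2 : rep cs h w₁ (sr q) = rep cs h (w₁ * v) (rep cs h v⁻¹ (sr q)) := by
      rw [← rep_mul_apply, mul_inv_cancel_right]
    set y := rep cs h v⁻¹ (sr q) - sr q with hy
    have h3 : ∀ k, k ≠ i → k ≠ o → y k = 0 := by
      intro k h4 h5
      rw [hy, Pi.sub_apply, rep_apply_of_mem cs h (inv_mem hv) (sr q) (k := k) (by
        simp only [Set.mem_insert_iff, Set.mem_singleton_iff, not_or]; exact ⟨h4, h5⟩), sub_self]
    have h4 : rep cs h w₁ (sr q) = rep cs h (w₁ * v) (sr q) + rep cs h (w₁ * v) y := by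
      rw [h2, ← map_add, hy]
      congr 1
      abel
    -- the coordinates outside `{i, o}` of `w α_q` vanish
    have h5 : ∀ k, k ≠ i → k ≠ o → rep cs h (w₁ * v) (sr q) k = 0 := by
      intro k h6 h7
      have h8 := h1 k
      rw [h4, Pi.add_apply, hstab y h3 k h6 h7, add_zero] at h8
      exact le_antisymm h8 (huniq q hqi k)
    have h6 := hstabi _ h5 q hqi hqo
    rw [rep_inv_apply, sr_self] at h6
    exact one_ne_zero h6
  rw [hw₁, one_mul]
  exact hv

theorem mem_WJ_of_WM (hab : a ≠ b) : ∀ {w : W}, w ∈ WM R.nsys cs h X P →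
    w ∈ WJ cs ({i | cs.simple i ∈ WM R.nsys cs h X P} ∪ {a, b}) := by
  intro w
  induction hl : cs.length w using Nat.strong_induction_on generalizing w with
  | _ N ih =>
  intro hw
  by_cases H : ∃ i, rep cs h w (sr i) ≤ 0 ∧ cs.simple i ∈ WM R.nsys cs h X P
  · obtain ⟨i, hi, hJ⟩ := H
    have h1 := descend R hP.toHyp hw hJ (side hP i)
    have hlt : cs.length (w * cs.simple i) < cs.length w := (lt_iff cs h w i).2 hi
    have h3 := ih _ (by rw [← hl]; exact hlt) rfl h1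
    have h4 : w = (w * cs.simple i) * cs.simple i := by rw [mul_assoc, simple_mul_simple_self, mul_one]
    rw [h4]
    exact mul_mem h3 (simple_mem_WJ cs (Or.inl hJ))
  by_cases H' : ∃ i, rep cs h w⁻¹ (sr i) ≤ 0 ∧ cs.simple i ∈ WM R.nsys cs h X P
  · obtain ⟨i, hi, hJ⟩ := H'
    have h1 := WM_inv (descend R hP.toHyp (WM_inv hw) hJ (side hP i))
    rw [mul_inv_rev, inv_inv, inv_simple] at h1
    have hlt : cs.length (cs.simple i * w) < cs.length w := by
      have := (lt_iff cs h w⁻¹ i).2 hi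
      rw [← cs.length_inv w, ← cs.length_inv (cs.simple i * w), mul_inv_rev, inv_simple]
      exact this
    have h3 := ih _ (by rw [← hl]; exact hlt) rfl h1
    have h4 : w = cs.simple i * (cs.simple i * w) := by rw [← mul_assoc, simple_mul_simple_self, one_mul]
    rw [h4]
    exact mul_mem (simple_mem_WJ cs (Or.inl hJ)) h3
  push Not at H H'
  exact WJ_mono cs Set.subset_union_right (mem_of_reduced R hP hw hab H H')

/-- **Theorem B** -/
theorem le_PJ (hG : P ≤ GG cs h T X) (hab : a ≠ b) {c : I} (hca : c ≠ a) (hcb : c ≠ b)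
    (hc : M c a ≠ 2 ∨ M c b ≠ 2) : ∃ K : Set I, K ≠ Set.univ ∧ P ≤ PJ cs h T X K := by
  refine ⟨{i | cs.simple i ∈ WM R.nsys cs h X P} ∪ {a, b}, ?_, ?_⟩
  · intro h1
    have h2 : c ∈ ({i | cs.simple i ∈ WM R.nsys cs h X P} ∪ {a, b} : Set I) := by rw [h1]; trivial
    have hJ : cs.simple c ∈ WM R.nsys cs h X P := by
      rcases h2 with h2 | h2
      · exact h2
      · rcases h2 with h2 | h2
        · exact absurd h2 hca
        · exact absurd h2 hcb
    have hdc : d c = 0 := by rw [hP.hab, Pi.add_apply, sr_ne hca, sr_ne hcb, add_zero]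
    have hpair : pairing A c d < 0 := by
      rcases hc with h3 | h3
      · refine pairing_neg h (d_nonneg hP) hdc (q := a) ?_ h3
        rw [hP.hab, Pi.add_apply, sr_self]
        have h4 : (0 : ℤ) ≤ (sr b : I → ℤ) a := sr_nonneg b a
        omega
      · refine pairing_neg h (d_nonneg hP) hdc (q := b) ?_ h3
        rw [hP.hab, Pi.add_apply, sr_self]
        have h4 : (0 : ℤ) ≤ (sr a : I → ℤ) b := sr_nonneg a b
        omega
    have h3 : rep cs h (cs.simple c) d = d - pairing A c d • sr c := rep_simple_eq cs h c d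
    have hrt : IsRoot cs h (rep cs h (cs.simple c) d) := hP.hd.act _
    have h0 : 0 ≤ rep cs h (cs.simple c) d := hP.hd.simple_nonneg (d_nonneg hP) c (hP.hds c)
    have hc0 : 0 < rep cs h (cs.simple c) d c := by
      rw [h3, Pi.sub_apply, Pi.smul_apply, sr_self, hdc, smul_eq_mul]
      omega
    have hns : ∀ i, rep cs h (cs.simple c) d ≠ sr i := by
      intro i h4
      have h5 : rep cs h (cs.simple c) d a = d a := rep_simple_apply cs h c d a (Ne.symm hca)
      have h6 : i = c := by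
        by_contra h7
        rw [h4, sr_ne (Ne.symm h7)] at hc0
        exact lt_irrefl _ hc0
      subst h6
      rw [h4, sr_ne (Ne.symm hca), hP.hab, Pi.add_apply, sr_self] at h5
      have h7 : (0 : ℤ) ≤ (sr b : I → ℤ) a := sr_nonneg b a
      omega
    have h5 : 0 ≤ rep cs h (cs.simple c)⁻¹ (rep cs h (cs.simple c) d) := by
      rw [rep_inv_apply]; exact d_nonneg hP
    have h6 := (le_iff_of_WM R hP.toHyp hJ hrt h0 h5).1 (hP.nons _ hrt h0 hns c hca hcb hc0)
    rw [rep_inv_apply] at h6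
    exact hP.hdP h6
  · intro g hg
    obtain ⟨w, hw⟩ := (mem_GG R).1 (hG hg)
    rw [mem_PJ_iff_cell R]
    exact ⟨w, mem_WJ_of_WM R hP hab ⟨g, hg, hw⟩, hw⟩

end Main

end Cfsg.Agent.H396.ThmB
end

-- part: H396/ParX
section
/-!
# `Par` with an exceptional pair of nodes (helper396)

`CGX cs h X a b d d'` : the non-simple positive root groups lie in `⁅U, U⁆` except those of `d = α_a + α_b` and of
`d'` (supported in `{a, b}`), and a subgroup over `⁅U, U⁆` containing one of `X_d`, `X_{d'}` contains the other.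
-/

set_option autoImplicit false
set_option linter.unusedSectionVars false

namespace Cfsg.Agent.H396.ParX

open CoxeterSystem Cfsg.Agent.ChevalleyStructure.CoxeterGeom Cfsg.Agent.Tits.Roots Cfsg.Agent.Tits.Core
  Cfsg.Agent.Tits.RootComb Cfsg.Agent.Tits.Exchange Cfsg.Agent.Nodes.Reps Cfsg.Agent.Nodes.BNOf
  Cfsg.Agent.Nodes.StabComb Cfsg.Agent.Nodes.Bruhat Cfsg.Agent.Nodes.OppDec Cfsg.Agent.Nodes.LeviDec
  Cfsg.Agent.Omega.EH3.Kf.Lev
open Cfsg.Agent.H396.ThmA (Hyp comm_le_of_hyp)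

variable {I W Y : Type*} [Fintype I] [DecidableEq I] [Group W] [Group Y] {M : CoxeterMatrix I}
  {cs : CoxeterSystem M W} {A : I → I → ℤ} {h : IsCartan M A} {p : ℕ} {T : Subgroup Y} {n : I → Y}
  {X : (I → ℤ) → Subgroup Y}

/-- commutators, with an exceptional pair of nodes -/
structure CGX (cs : CoxeterSystem M W) (h : IsCartan M A) (X : (I → ℤ) → Subgroup Y) (a b : I)
    (d d' : I → ℤ) : Prop where
  nons : ∀ x, IsRoot cs h x → 0 ≤ x → (∀ i, x ≠ sr i) → x ≠ d → x ≠ d' →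
    X x ≤ ⁅RGD.Sup X (RGD.Pos cs h), RGD.Sup X (RGD.Pos cs h)⁆
  hd : IsRoot cs h d
  hab : d = sr a + sr b
  hds : ∀ i, d ≠ sr i
  hd' : IsRoot cs h d'
  hd0' : 0 ≤ d'
  hds' : ∀ i, d' ≠ sr i
  hne : d ≠ d'
  hsup : ∀ k, k ≠ a → k ≠ b → d' k = 0
  hmul : ∀ P : Subgroup Y, ⁅RGD.Sup X (RGD.Pos cs h), RGD.Sup X (RGD.Pos cs h)⁆ ≤ P → (X d ≤ P ↔ X d' ≤ P)
  anb : a ≠ b
  hc : ∃ c, c ≠ a ∧ c ≠ b ∧ (M c a ≠ 2 ∨ M c b ≠ 2)

variable (R : RGD cs h p T n X)
include R

theorem le_PJ_of_index [Finite W] [Finite Y] [Fact p.Prime] {a b : I} {d d' : I → ℤ} (hC : CGX cs h X a b d d')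
    (hM : Conn M) [Nontrivial I] {P : Subgroup Y} (hG : P ≤ GG cs h T X) (hP : Hyp cs h X p P) :
    ∃ K : Set I, K ≠ Set.univ ∧ P ≤ PJ cs h T X K := by
  have hcomm := comm_le_of_hyp R hP
  by_cases hd : X d ≤ P
  · refine ThmN.le_PJ_of_index R hM hG ⟨hP, fun x hx h0 hs => ?_⟩
    by_cases h1 : x = d
    · rw [h1]; exact hd
    by_cases h2 : x = d'
    · rw [h2]; exact (hC.hmul P hcomm).1 hd
    · exact (hC.nons x hx h0 hs h1 h2).trans hcomm
  · obtain ⟨c, hca, hcb, hc⟩ := hC.hc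
    refine ThmB.le_PJ R (a := a) (b := b) (d := d) (d' := d') ⟨hP, fun x hx h0 hs k hka hkb hk => ?_, hC.hd, hC.hab,
      hC.hds, hd, hC.hd', hC.hd0', hC.hds', fun h1 => hd ((hC.hmul P hcomm).2 h1), hC.hne⟩ hG hC.anb hca hcb hc
    refine (hC.nons x hx h0 hs (fun h1 => ?_) (fun h1 => ?_)).trans hcomm
    · rw [h1, hC.hab, Pi.add_apply, sr_ne hka, sr_ne hkb, add_zero] at hk
      exact lt_irrefl _ hk
    · rw [h1, hC.hsup k hka hkb] at hk
      exact lt_irrefl _ hk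

/-- every proper subgroup of index not divisible by `p ^ 2` is conjugate into a proper parabolic subgroup -/
theorem exists_le_PJ [Finite W] [Finite Y] [Fact p.Prime] (hG : Nodes.RGDLib.G1 cs h X = ⊤)
    {a b : I} {d d' : I → ℤ} (hC : CGX cs h X a b d d') (hM : Conn M) [Nontrivial I] (P : Subgroup Y) (hP : P ≠ ⊤)
    (hidx : ¬ p ^ 2 ∣ P.index) : ∃ (g : Y) (K : Set I), K ≠ Set.univ ∧ cj g P ≤ PJ cs h T X K := by
  have hGG : GG cs h T X = ⊤ := by
    rw [eq_top_iff, ← hG]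
    exact le_sup_right
  have hUi : ¬ p ∣ (RGD.Sup X (RGD.Pos cs h)).index := by
    have h1 := KFacts.RgdSyl.not_dvd_relIndex R
    rwa [hGG, Subgroup.relIndex_top_right] at h1
  by_cases hpi : p ∣ P.index
  · obtain ⟨g, h1, h2⟩ := exists_conj_index R.isPGroup_Upos hUi hpi hidx
    obtain ⟨K, hK, hle⟩ := le_PJ_of_index R hC hM (P := cj g P) (by rw [hGG]; exact le_top) ⟨h1, h2⟩
    exact ⟨g, K, hK, hle⟩
  · obtain ⟨g, hg⟩ := H248.Ovg.exists_conj_le (R.isPGroup_Upos) hpi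
    have hU : RGD.Sup X (RGD.Pos cs h) ≤ cj g⁻¹ P := by
      rw [← cj_le_cj_iff g, cj_cj_inv]; exact hg
    by_cases hJ : H248.TitsRGD.JU T n (cj g⁻¹ P) = Set.univ
    · exfalso
      have h1 := H248.TitsRGD.Sup_le_of_univ R hU hJ
      have h2 : cj g⁻¹ P = ⊤ := by
        rw [eq_top_iff, ← hG]; exact h1
      have h3 : (cj g⁻¹ P).index = 1 := by rw [h2, Subgroup.index_top]
      rw [show (cj g⁻¹ P).index = P.index from Subgroup.index_map_equiv P (MulAut.conj g⁻¹),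
        Subgroup.index_eq_one] at h3
      exact hP h3
    · exact ⟨g⁻¹, _, hJ, H248.TitsRGD.le_PJ R hU (by rw [hGG]; exact le_top)⟩

/-- `Par` from the conjugation into parabolic subgroups -/
theorem par_of_exists [Finite W] [Finite Y] [Fact p.Prime] (hG : Nodes.RGDLib.G1 cs h X = ⊤)
    (H : ∀ P : Subgroup Y, P ≠ ⊤ → ¬ p ^ 2 ∣ P.index → ∃ (g : Y) (K : Set I), K ≠ Set.univ ∧
      cj g P ≤ PJ cs h T X K) : Par p Y := by
  have hGG : GG cs h T X = ⊤ := by
    rw [eq_top_iff, ← hG]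
    exact le_sup_right
  have hUi : ¬ p ∣ (RGD.Sup X (RGD.Pos cs h)).index := by
    have h1 := KFacts.RgdSyl.not_dvd_relIndex R
    rwa [hGG, Subgroup.relIndex_top_right] at h1
  have hcjidx : ∀ (x : Y) (A : Subgroup Y), (cj x A).index = A.index := fun x A =>
    Subgroup.index_map_equiv A (MulAut.conj x)
  intro P hP hidx
  obtain ⟨g, K, hK, hle⟩ := H P hP hidx
  refine ⟨cj g⁻¹ (PJ cs h T X K), ?_, ?_, ?_, cj g⁻¹ (VJ cs h X K), ?_, ?_, cj_mono _ VJ_le_PJ, ?_⟩
  · rw [← cj_le_cj_iff g, cj_cj_inv]; exact hle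
  · intro h1
    have h2 : (cj g⁻¹ (PJ cs h T X K)).index = 1 := by rw [h1, Subgroup.index_top]
    rw [hcjidx, Subgroup.index_eq_one] at h2
    exact PJ_ne_top R hK h2
  · rw [hcjidx]
    intro h1
    refine hUi (h1.trans (Subgroup.index_dvd_of_le ?_))
    exact RGD.U_le_B.trans B_le_PJ
  · intro h1
    exact VJ_ne_bot R hK ((Subgroup.map_eq_bot_iff_of_injective _ (MulAut.conj g⁻¹).injective).1 h1)
  · have h1 : IsPGroup p (VJ cs h X K) := R.isPGroup_of_pos (S := NotJ cs h K) fun _ hx => ⟨hx.1, hx.2.1⟩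
    exact h1.map _
  · exact mem_normalizer_map (MulAut.conj g⁻¹) (PJ_le_normalizer_VJ R K)

theorem par [Finite W] [Finite Y] [Fact p.Prime] (hG : Nodes.RGDLib.G1 cs h X = ⊤)
    {a b : I} {d d' : I → ℤ} (hC : CGX cs h X a b d d') (hM : Conn M) [Nontrivial I] : Par p Y :=
  par_of_exists R hG (exists_le_PJ R hG hC hM)

end Cfsg.Agent.H396.ParX
end

private theorem dce_8ea9e8edf21f : _root_.True := by
  try have : _root_.True := by simp only [_root_.Cfsg.Agent.Nodes.BNOf.RGD.PosNe.congr_simp]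
  try have : _root_.True := by simp only [_root_.Cfsg.Agent.H396.ThmA.WM.congr_simp]
  exact _root_.True.intro
end
end
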