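import Mathlib
import Cfsg.Agent.Lib.HallHigman
import Cfsg.Agent.S0144
import Cfsg.Agent.FastGrp
import Cfsg.Agent.Prune
set_option linter.all false
prune_inst 0x7f00000000000000000000000000000000000000000000000000000000000000000000000000000000000000000000000000000000000000000000000000000000000000000000000000000000000000003fffffffffffffffffffffffffffbeffbdffffffff
open scoped Cfsg.Agent.FastGrp

/-!
# `{2, 3}`-groups of order dividing `2 ^ 6 3 ^ 6` (helper396)

* `card_dvd` : a `3`-group acting faithfully on a `2`-group of order at most `64` has order at most `81`;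
* `exists_three` : a group of order dividing `2 ^ 6 3 ^ 6` and divisible by `3 ^ 5` has a nontrivial normal `3`-subgroup.
-/

set_option autoImplicit false

namespace Cfsg.Agent.H396.ThreeOnTwo

open MulAction

universe u v

theorem dvd_card_of_index {A X : Type*} [Group A] [MulAction A X] [Finite X] [Finite A] {m : ℕ}
    (h : ∀ x : X, m ∣ (stabilizer A x).index) : m ∣ Nat.card X := by
  classical
  have := Fintype.ofFinite (orbitRel.Quotient A X)
  rw [Nat.card_congr (selfEquivSigmaOrbits A X), Nat.card_sigma]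
  refine Finset.dvd_sum fun ω _ => ?_
  have h1 := h (Quotient.out ω)
  rw [index_stabilizer] at h1
  exact h1

variable {V : Type v} [Group V] [Finite V]

/-- the number of fixed points -/
noncomputable def fix (B : Type u) (V : Type v) [SMul B V] : ℕ := Nat.card {v : V // ∀ b : B, b • v = v}

omit [Finite V] in
theorem fix_eq {B : Type u} [Group B] [MulDistribMulAction B V] :
    ∃ F : Subgroup V, Nat.card F = fix B V ∧ ∀ v, v ∈ F ↔ ∀ b : B, b • v = v := by
  let F : Subgroup V :=
    { carrier := {v | ∀ b : B, b • v = v}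
      one_mem' := fun b => smul_one b
      mul_mem' := fun {x y} hx hy b => (smul_mul' b x y).trans (congrArg₂ _ (hx b) (hy b))
      inv_mem' := fun {x} hx b => (smul_inv' b x).trans (congrArg _ (hx b)) }
  exact ⟨F, rfl, fun v => Iff.rfl⟩

omit [Group V] in
theorem fix_mod {B : Type u} [Group B] [Finite B] [MulAction B V] (hB : IsPGroup 3 B) :
    Nat.card V ≡ fix B V [MOD 3] := by
  have : Fact (Nat.Prime 3) := ⟨Nat.prime_three⟩
  exact hB.card_modEq_card_fixedPoints V

omit [Group V] in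
theorem exists_orbit {B : Type u} [Group B] [Finite B] [MulAction B V] (hB : IsPGroup 3 B) {a : ℕ}
    (h : ¬ 3 ^ (a + 1) ∣ Nat.card V - fix B V) :
    ∃ v : V, (¬ ∀ b : B, b • v = v) ∧ (stabilizer B v).index ∣ 3 ^ a := by
  classical
  have : Fact (Nat.Prime 3) := ⟨Nat.prime_three⟩
  by_contra hcon
  push Not at hcon
  apply h
  let X : SubMulAction B V :=
    { carrier := {v | ¬ ∀ b : B, b • v = v}
      smul_mem' := by
        intro c v hv hall
        apply hv
        intro b
        have h1 := hall (c * b * c⁻¹)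
        rw [smul_smul] at h1
        have h2 : c * b * c⁻¹ * c = c * b := by group
        rw [h2, mul_smul] at h1
        exact (MulAction.injective c) h1 }
  have h1 : Nat.card X = Nat.card V - fix B V := by
    have h2 : Nat.card {v : V // ¬ ∀ b : B, b • v = v} + fix B V = Nat.card V := by
      unfold fix
      have := Nat.card_congr (Equiv.sumCompl (fun v : V => ∀ b : B, b • v = v))
      rw [Nat.card_sum] at this
      rw [← this, add_comm]
    have h3 : Nat.card X = Nat.card {v : V // ¬ ∀ b : B, b • v = v} := rfl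
    omega
  rw [← h1]
  refine dvd_card_of_index (A := B) fun x => ?_
  rw [SubMulAction.stabilizer_of_subMul]
  obtain ⟨n, hn⟩ := hB.index (stabilizer B (x : V))
  rw [hn]
  refine pow_dvd_pow 3 ?_
  by_contra hlt
  refine hcon (x : V) ?_ ?_
  · have h4 : ¬ ∀ b : B, b • (x : V) = x := x.2
    push Not at h4
    exact h4
  · rw [hn]
    exact pow_dvd_pow 3 (by omega)

theorem parity {k j : ℕ} (hk : k ≤ 6) (hjk : j ≤ k) (h : 2 ^ k ≡ 2 ^ j [MOD 3]) : (k - j) % 2 = 0 := by
  unfold Nat.ModEq at h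
  interval_cases k <;> interval_cases j <;> first | rfl | (exfalso; revert h; decide)

/-- the bound -/
def bd (d : ℕ) : ℕ := if d = 6 then 4 else if 4 ≤ d then 2 else if 2 ≤ d then 1 else 0

theorem card_dvd_aux (d : ℕ) : ∀ (B : Type u) [Group B] [Finite B] [MulDistribMulAction B V] (_ : IsPGroup 3 B)
    (_ : ∀ b : B, (∀ v : V, b • v = v) → b = 1) (k j : ℕ) (_ : k ≤ 6) (_ : Nat.card V = 2 ^ k)
    (_ : fix B V = 2 ^ j) (_ : k = j + d), Nat.card B ∣ 3 ^ bd d := by
  have : Fact (Nat.Prime 3) := ⟨Nat.prime_three⟩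
  induction d using Nat.strong_induction_on with
  | _ d ih =>
  intro B _ _ _ hB hf k j hk hV hj hd
  -- parity
  have hpar : d % 2 = 0 := by
    have h1 := fix_mod (V := V) hB
    rw [hV, hj] at h1
    have h2 := parity hk (by omega) h1
    rwa [show k - j = d by omega] at h2
  by_cases hd0 : d = 0
  · subst hd0
    have h1 : ∀ b : B, b = 1 := by
      intro b
      refine hf b ?_
      obtain ⟨F, hF, hm⟩ := fix_eq (V := V) (B := B)
      have h2 : F = ⊤ := by
        rw [← Subgroup.card_eq_iff_eq_top, hF, hj, hV, hd, add_zero]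
      intro v
      exact (hm v).1 (by rw [h2]; exact Subgroup.mem_top v) b
    have : Subsingleton B := ⟨fun a b => by rw [h1 a, h1 b]⟩
    rw [Nat.card_unique]
    exact one_dvd _
  -- an orbit
  have key : ∀ a : ℕ, ¬ 3 ^ (a + 1) ∣ 2 ^ k - 2 ^ j → ∃ d' < d, d' % 2 = 0 ∧ Nat.card B ∣ 3 ^ (a + bd d') := by
    intro a ha
    obtain ⟨v, hv, hidx⟩ := exists_orbit (V := V) hB (a := a) (by rw [hV, hj]; exact ha)
    obtain ⟨F, hF, hm⟩ := fix_eq (V := V) (B := B)
    obtain ⟨F', hF', hm'⟩ := fix_eq (V := V) (B := ↥(stabilizer B v))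
    have hle : F ≤ F' := fun x hx => (hm' x).2 fun b => (hm x).1 hx (b : B)
    have hlt : F < F' := by
      refine lt_of_le_of_ne hle fun h => hv ((hm v).1 ?_)
      rw [h, hm']
      exact fun b => b.2
    have hB' : IsPGroup 3 ↥(stabilizer B v) := hB.to_subgroup _
    have hc' : Nat.card F' ∣ 2 ^ k := by rw [← hV]; exact Subgroup.card_subgroup_dvd_card F'
    obtain ⟨j', hj'k, hj'⟩ := (Nat.dvd_prime_pow Nat.prime_two).1 hc'
    have hjj : j < j' := by
      have h1 : Nat.card F < Nat.card F' := by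
        refine lt_of_le_of_ne (Subgroup.card_le_of_le hle) fun h => hlt.ne ?_
        exact Subgroup.eq_of_le_of_card_ge hle h.ge
      rw [hF, hj, hj'] at h1
      exact (Nat.pow_lt_pow_iff_right (by norm_num)).1 h1
    have hfix' : fix ↥(stabilizer B v) V = 2 ^ j' := by rw [← hF', hj']
    have h1 := ih (k - j') (by omega) ↥(stabilizer B v) hB' (fun b hb => Subtype.ext (hf (b : B) hb)) k j' hk hV hfix'
      (by omega)
    refine ⟨k - j', by omega, ?_, ?_⟩
    · have h1 := fix_mod (V := V) hB'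
      rw [hV, hfix'] at h1
      exact parity hk hj'k h1
    · rw [← Subgroup.card_mul_index (stabilizer B v), pow_add, mul_comm]
      exact mul_dvd_mul hidx h1
  have hkj : 2 ^ k - 2 ^ j = 2 ^ j * (2 ^ d - 1) := by
    rw [hd, pow_add, Nat.mul_sub, mul_one]
  have hcop : ∀ n, Nat.Coprime (3 ^ n) (2 ^ j) := fun n => Nat.Coprime.pow _ _ (by norm_num)
  have hd6 : d = 2 ∨ d = 4 ∨ d = 6 := by omega
  rcases hd6 with rfl | rfl | rfl
  · obtain ⟨d', hd', hp', h⟩ := key 1 (by
      rw [hkj]; intro h; have := (hcop _).dvd_of_dvd_mul_left h; revert this; norm_num)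
    have : d' = 0 := by omega
    subst this
    exact h
  · obtain ⟨d', hd', hp', h⟩ := key 1 (by
      rw [hkj]; intro h; have := (hcop _).dvd_of_dvd_mul_left h; revert this; norm_num)
    refine h.trans (pow_dvd_pow 3 ?_)
    interval_cases d' <;> decide
  · obtain ⟨d', hd', hp', h⟩ := key 2 (by
      rw [hkj]; intro h; have := (hcop _).dvd_of_dvd_mul_left h; revert this; norm_num)
    refine h.trans (pow_dvd_pow 3 ?_)
    interval_cases d' <;> decide

theorem card_dvd {B : Type u} [Group B] [Finite B] [MulDistribMulAction B V] (hB : IsPGroup 3 B)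
    (hf : ∀ b : B, (∀ v : V, b • v = v) → b = 1) {k : ℕ} (hk : k ≤ 6) (hV : Nat.card V = 2 ^ k) :
    Nat.card B ∣ 3 ^ 4 := by
  obtain ⟨F, hF, -⟩ := fix_eq (V := V) (B := B)
  have h1 : Nat.card F ∣ 2 ^ k := by rw [← hV]; exact Subgroup.card_subgroup_dvd_card F
  obtain ⟨j, hjk, hj⟩ := (Nat.dvd_prime_pow Nat.prime_two).1 h1
  rw [hF] at hj
  refine (card_dvd_aux (k - j) B hB hf k j hk hV hj (by omega)).trans (pow_dvd_pow 3 ?_)
  have : k - j ≤ 6 := by omega
  generalize k - j = d at this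
  interval_cases d <;> decide

/-- a group of order dividing `2 ^ 6 3 ^ 6` and divisible by `3 ^ 5` has a nontrivial normal `3`-subgroup -/
theorem exists_three {G : Type u} [Group G] [Finite G] (h : Nat.card G ∣ 2 ^ 6 * 3 ^ 6) (h5 : 3 ^ 5 ∣ Nat.card G) :
    ∃ V : Subgroup G, V.Normal ∧ V ≠ ⊥ ∧ IsPGroup 3 V := by
  have i2 : Fact (Nat.Prime 2) := ⟨Nat.prime_two⟩
  have i3 : Fact (Nat.Prime 3) := ⟨Nat.prime_three⟩
  by_contra hcon
  push Not at hcon
  obtain ⟨a, b, ha, hb, hab⟩ : ∃ a b, a ≤ 6 ∧ b ≤ 6 ∧ Nat.card G = 2 ^ a * 3 ^ b := by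
    obtain ⟨x, y, hx, hy, hxy⟩ := Nat.dvd_mul.1 h
    obtain ⟨a, ha, rfl⟩ := (Nat.dvd_prime_pow Nat.prime_two).1 hx
    obtain ⟨b, hb, rfl⟩ := (Nat.dvd_prime_pow Nat.prime_three).1 hy
    exact ⟨a, b, ha, hb, hxy.symm⟩
  have hs : Group.IsSolvable G := S0144.result 2 3 a b Nat.prime_two Nat.prime_three hab
  have hO : pPrimeCore 2 G = ⊥ := by
    by_contra hne
    refine hcon _ (Lib.HallHigman.pPrimeCore_normal 2) hne ?_
    have h1 := Lib.HallHigman.pPrimeCore_coprime (G := G) 2
    have h2 : Nat.card (pPrimeCore 2 G) ∣ 2 ^ a * 3 ^ b := by rw [← hab]; exact Subgroup.card_subgroup_dvd_card _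
    have h3 : Nat.card (pPrimeCore 2 G) ∣ 3 ^ b := (Nat.Coprime.pow_right a h1).dvd_of_dvd_mul_left h2
    obtain ⟨c, -, hc⟩ := (Nat.dvd_prime_pow Nat.prime_three).1 h3
    exact IsPGroup.of_card hc
  have hC := Lib.HallHigman.centralizer_pCore_le_of_solvable 2 hO
  set W : Subgroup G := pCore 2 G with hWdef
  have hWn : W.Normal := Lib.HallHigman.pCore_normal 2
  have hWp : IsPGroup 2 W := Lib.HallHigman.pCore_isPGroup 2
  obtain ⟨k, hk⟩ := IsPGroup.iff_card.1 hWp
  have hk6 : k ≤ 6 := by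
    have h1 : 2 ^ k ∣ 2 ^ 6 * 3 ^ 6 := by rw [← hk]; exact (Subgroup.card_subgroup_dvd_card W).trans h
    have h2 : 2 ^ k ∣ 2 ^ 6 := (Nat.Coprime.pow k 6 (by norm_num)).dvd_of_dvd_mul_right h1
    exact (Nat.pow_dvd_pow_iff_le_right (by norm_num)).1 h2
  obtain ⟨Q⟩ : Nonempty (Sylow 3 G) := inferInstance
  have hQ5 : 3 ^ 5 ∣ Nat.card Q := Q.pow_dvd_card_of_pow_dvd_card h5
  let act : MulDistribMulAction ↥(Q : Subgroup G) ↥W :=
    MulDistribMulAction.compHom W ((MulAut.conjNormal (H := W)).comp (Q : Subgroup G).subtype)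
  have hsm : ∀ (q : ↥(Q : Subgroup G)) (w : ↥W), ((q • w : ↥W) : G) = (q : G) * w * (q : G)⁻¹ := fun q w => rfl
  have h1 := card_dvd (V := ↥W) (B := ↥(Q : Subgroup G)) Q.isPGroup' (fun q hq => ?_) hk6 hk
  · have h2 := hQ5.trans h1
    revert h2
    norm_num
  · have h2 : (q : G) ∈ Subgroup.centralizer (W : Set G) := by
      rw [Subgroup.mem_centralizer_iff]
      intro w hw
      have h3 := congrArg Subtype.val (hq ⟨w, hw⟩)
      rw [hsm] at h3
      exact (mul_inv_eq_iff_eq_mul.1 h3).symm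
    have h3 : (q : G) ∈ W := hC h2
    have hdis : Disjoint W (Q : Subgroup G) := IsPGroup.disjoint_of_ne 2 3 (by norm_num) W Q hWp Q.isPGroup'
    have h4 : (q : G) ∈ (⊥ : Subgroup G) := hdis.le_bot ⟨h3, q.2⟩
    exact Subtype.ext (Subgroup.mem_bot.1 h4)

end Cfsg.Agent.H396.ThreeOnTwo
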