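import Mathlib
import Cfsg.Agent.H304.PpdClass
import Cfsg.Agent.H396.CommTab4
import Cfsg.Agent.H915.GNDefs_m3
import Cfsg.Agent.H138.SqChev2
import Cfsg.Agent.H396.ParF4
import Cfsg.Agent.H686.SqGen
import Cfsg.Agent.H396.Der
import Cfsg.Agent.H341.ThreeList_m3
import Cfsg.Agent.H119.SLVec
import Cfsg.Agent.LieClassical.SympTransvection
import Cfsg.Agent.LieClassical.HermGen
import Cfsg.Agent.S0285
import Cfsg.Agent.H946.ExcNum_m3
import Cfsg.Agent.LieClassical.OrthFinite
import Cfsg.Agent.LieClassical.OrthForms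
import Cfsg.Agent.LieClassical.QuadCount
import Cfsg.Agent.S0289
import Cfsg.Agent.S0293
import Cfsg.Agent.Prune
set_option linter.all false
prune_inst 0x7f00000000000000000000000000000000000000000000000000000000000000000000000000000000000000000000000000000000000000000000000000000000000000000000000000000000000000003fffffffffffffffffffffffffffbeffbdffffffff
open scoped Cfsg.Agent.FastGrp

-- part: H396/ClFam
section
/-!
# `SQ` for the classical groups (helper396)
-/

set_option autoImplicit false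
set_option linter.unusedSectionVars false

namespace Cfsg.Agent.H396.ClFam

open Cfsg Cfsg.Agent.H396 Cfsg.Agent.H396.Cl Cfsg.Agent.H436 Cfsg.Agent.OrdDiv Module Matrix

theorem not_sq_dvd {p n : ℕ} (hp : p.Prime) (h : Squarefree n) : ¬ p ^ 2 ∣ n := by
  intro h1
  rw [pow_two] at h1
  exact hp.one_lt.ne' (Nat.isUnit_iff.1 (h p h1))

/-- from the criterion to `SQ` -/
theorem sq_of {p : ℕ} (hp : p.Prime) {G : Type*} [Group G]
    (h : ∀ M : Subgroup G, M ≠ ⊤ → ¬ p ^ 2 ∣ M.index → Der G M) : SQ G :=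
  fun M hM hs => Or.inl (h M hM (not_sq_dvd hp hs))

theorem Prim.ne_of_dvd {q e u p : ℕ} (hu : Prim q e u) (hp : p ∣ q) : u ≠ p := by
  rintro rfl
  exact hu.not_dvd hp

theorem char_dvd {F : Type*} [Field F] [Fintype F] {p : ℕ} [CharP F p] : p ∣ Fintype.card F := by
  have := Fact.mk (CharP.char_is_prime F p)
  obtain ⟨n, -, hn⟩ := FiniteField.card F p
  rw [hn]
  exact dvd_pow_self p n.2.ne'

theorem exists_char (F : Type*) [Field F] [Fintype F] : ∃ (p : ℕ) (_ : CharP F p), p.Prime := by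
  obtain ⟨p, hp⟩ := CharP.exists F
  exact ⟨p, hp, CharP.char_is_prime F p⟩

/-! ### linear groups -/

theorem sq_psl {F : Type} [Field F] [Fintype F] {n : ℕ} (hn : 3 ≤ n) (h6 : ¬ (Fintype.card F = 2 ∧ n = 6)) :
    SQ (Matrix.ProjectiveSpecialLinearGroup (Fin n) F) := by
  obtain ⟨p, _, hp⟩ := exists_char F
  have := Fact.mk hp
  obtain ⟨k, rfl⟩ : ∃ k, n = k + 1 := ⟨n - 1, by omega⟩
  have hPar : Par p (Matrix.ProjectiveSpecialLinearGroup (Fin (k + 1)) F) := (CommTab.hasCG_PSL k (by omega)).par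
  have hq : 2 ≤ Fintype.card F := Fintype.one_lt_card
  obtain ⟨u, hu⟩ := exists_prim hq hn h6
  refine sq_of hp fun M hM hidx => ?_
  have hc : den (.psl (k + 1) (Fintype.card F)) * Nat.card (Matrix.ProjectiveSpecialLinearGroup (Fin (k + 1)) F) =
      num (.psl (k + 1) (Fintype.card F)) := by
    have h := S0243.result (F := F) rfl (k + 1) (by omega)
    rw [Fin.prod_univ_eq_prod_range (fun i => Fintype.card F ^ (k + 1) - Fintype.card F ^ i) (k + 1), ← prod_list] at h
    change Nat.gcd (k + 1) (Fintype.card F - 1) * (Fintype.card F - 1) * _ = glN (k + 1) (Fintype.card F)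
    rw [mul_assoc]
    exact h
  refine der_lin (slToMat (k + 1) F) ?_ hPar hu.prime (Prim.ne_of_dvd hu char_dvd) ?_ ?_ M hM hidx
  · intro a b h
    apply Subtype.ext
    exact h
  · intro i h1 h2 h3
    rw [Fintype.card_fin] at h2
    rw [Nat.card_eq_fintype_card] at h3
    refine hu.not_dvd_sub (fun h4 => ?_) h3
    have := Nat.le_of_dvd (by omega) h4
    omega
  · exact psl_prim le_rfl hn hc hu

/-! ### symplectic groups -/

/-- the alternating form -/
def spForm (m : ℕ) (F : Type*) [Field F] (u v : Fin m ⊕ Fin m → F) : F := u ⬝ᵥ (Matrix.J (Fin m) F *ᵥ v)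

theorem frm_sp {m : ℕ} {F : Type*} [Field F] : Frm (spForm m F) (RingEquiv.refl F) where
  add u v w := by unfold spForm; rw [add_dotProduct]
  smul a u w := by unfold spForm; rw [smul_dotProduct, smul_eq_mul]
  add' u v w := by unfold spForm; rw [mulVec_add, dotProduct_add]
  smul' a u w := by unfold spForm; rw [mulVec_smul, dotProduct_smul, smul_eq_mul]; rfl
  refl u v h := by
    unfold spForm at h ⊢
    rw [dotProduct_comm, ← vecMul_transpose, ← dotProduct_mulVec, Matrix.J_transpose, neg_mulVec, dotProduct_neg,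
      h, neg_zero]
  nondeg v h := by
    unfold spForm at h
    have h1 : Matrix.J (Fin m) F *ᵥ v = 0 := by
      funext i
      have := h (Pi.single i 1)
      rwa [single_one_dotProduct] at this
    have h2 : Matrix.J (Fin m) F *ᵥ (Matrix.J (Fin m) F *ᵥ v) = 0 := by rw [h1, mulVec_zero]
    rw [mulVec_mulVec, Matrix.J_squared, neg_mulVec, one_mulVec, neg_eq_zero] at h2
    exact h2

theorem sq_psp {F : Type} [Field F] [Fintype F] {m p : ℕ} [CharP F p] (hm : 2 ≤ m)
    (h6 : ¬ (Fintype.card F = 2 ∧ m = 3)) (hPar : Par p (PSp m F)) : SQ (PSp m F) := by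
  have hp := CharP.char_is_prime F p
  have := Fact.mk hp
  have hq : 2 ≤ Fintype.card F := Fintype.one_lt_card
  obtain ⟨u, hu⟩ := exists_prim (e := 2 * m) hq (by omega) (by omega)
  refine sq_of hp fun M hM hidx => ?_
  have hc : den (.psp m (Fintype.card F)) * Nat.card (PSp m F) = num (.psp m (Fintype.card F)) := by
    have h1 := S0245.result (F := F) rfl m
    have h2 := S0246.result (F := F) rfl m (by omega)
    have h3 := Subgroup.card_eq_card_quotient_mul_card_subgroup
      (Subgroup.center (Matrix.symplecticGroup (Fin m) F))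
    rw [← prod_list (fun i => Fintype.card F ^ (2 * (i + 1)) - 1)] at h1
    rw [h1, h2] at h3
    change Nat.gcd 2 (Fintype.card F - 1) * Nat.card (PSp m F) = Fintype.card F ^ (m ^ 2) * prB (Fintype.card F) m
    rw [mul_comm]
    exact h3.symm
  refine der_frm (f := spForm m F) (σ := RingEquiv.refl F) (Matrix.symplecticGroup (Fin m) F).subtype ?_ ?_ frm_sp ?_ hPar hu.prime
    (Prim.ne_of_dvd hu char_dvd) ?_ ?_ M hM hidx
  · rw [Fintype.card_sum, Fintype.card_fin]; omega
  · exact Subtype.val_injective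
  · intro g u v
    unfold spForm
    have h1 := (SymplecticGroup.mem_iff').1 g.2
    show (g : Matrix _ _ F) *ᵥ u ⬝ᵥ (Matrix.J (Fin m) F *ᵥ ((g : Matrix _ _ F) *ᵥ v)) = _
    rw [← vecMul_transpose, ← dotProduct_mulVec, mulVec_mulVec, mulVec_mulVec, h1]
  · intro i h1 h2 h3
    rw [Fintype.card_sum, Fintype.card_fin] at h2
    rw [Nat.card_eq_fintype_card] at h3
    refine hu.not_dvd_sub (fun h4 => ?_) h3
    have := Nat.le_of_dvd (by omega) h4
    omega
  · exact psp_prim m (by omega) le_rfl dvd_rfl (by omega) hc hu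

/-! ### unitary groups -/

open Cfsg.Agent.LieClassical.HermBasic in
theorem frm_herm {F : Type*} [Field F] [Fintype F] {q n : ℕ} (hF : Fintype.card F = q ^ 2) :
    Frm (hermForm n F q) (conj hF) where
  add u v w := herm_add_left u v w
  smul a u w := herm_smul_left a u w
  add' u v w := herm_add_right hF u v w
  smul' a u w := herm_smul_right a u w
  refl u v h := herm_eq_zero_swap hF h
  nondeg v h := by
    by_contra hne
    obtain ⟨w, hw⟩ := exists_herm_ne_zero hF hne
    exact hw (herm_eq_zero_swap hF (h w))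

open Cfsg.Agent.LieClassical.HermBasic in
theorem sq_psu {F : Type} [Field F] [Fintype F] {n q : ℕ} (hF : Fintype.card F = q ^ 2) (hn : 4 ≤ n)
    (h4 : ¬ (q = 2 ∧ n = 4)) : SQ (PSU n F q) := by
  obtain ⟨p, _, hp⟩ := exists_char F
  have := Fact.mk hp
  have hPar : Par p (PSU n F q) := (CommTab.hasCG_PSU hF hn).par
  have hq : 2 ≤ q := two_le hF
  have hpq : p ∣ q := hp.dvd_of_dvd_pow (by rw [← hF]; exact char_dvd)
  have hc : den (.psu n q) * Nat.card (PSU n F q) = num (.psu n q) := by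
    have h := S0280.result hF n (by omega)
    rw [← prod_list] at h
    change Nat.gcd n (q + 1) * (q + 1) * _ = q ^ (n * (n - 1) / 2) * prU q n
    have h2 : prU q n = ((List.range n).map fun i => if Even i then q ^ (i + 1) + 1 else q ^ (i + 1) - 1).prod := by
      unfold prU
      congr 1
      apply List.map_congr_left
      intro i _
      by_cases h : Even i
      · rw [if_pos h, if_pos]
        rw [Nat.beq_eq]
        exact Nat.even_iff.1 h
      · rw [if_neg h, if_neg]
        rw [Nat.beq_eq, ← Nat.even_iff]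
        exact h
    rw [h2, mul_assoc]
    exact h
  -- the exponent
  obtain ⟨k, hk, hkn, hk6, hodd⟩ : ∃ k, 3 ≤ k ∧ k ≤ n ∧ (n ≤ k + 1 ∧ ¬ (q = 2 ∧ k = 3)) ∧ (k - 1) % 2 = 0 := by
    rcases Nat.even_or_odd n with h1 | h1
    · obtain ⟨c, hc⟩ := h1
      exact ⟨n - 1, by omega, by omega, ⟨by omega, by omega⟩, by omega⟩
    · obtain ⟨c, hc⟩ := h1
      exact ⟨n, by omega, by omega, ⟨by omega, by omega⟩, by omega⟩
  obtain ⟨u, hu⟩ := exists_prim (q := q) (e := 2 * k) hq (by omega) (by omega)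
  refine sq_of hp fun M hM hidx => ?_
  refine der_frm (f := hermForm n F q) (σ := conj hF) ((slToMat n F).comp (SU n F q).subtype) ?_ ?_ (frm_herm hF) ?_
    hPar hu.prime (Prim.ne_of_dvd hu hpq) ?_ ?_ M hM hidx
  · rw [Fintype.card_fin]; omega
  · intro a b h
    apply Subtype.ext
    apply Subtype.ext
    exact h
  · intro g u v
    exact g.2 u v
  · intro i h1 h2 h3
    rw [Fintype.card_fin] at h2
    rw [Nat.card_eq_fintype_card, hF, ← pow_mul] at h3
    refine hu.not_dvd_sub (fun h4 => ?_) h3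
    have := Nat.le_of_dvd (by omega) h4
    omega
  · refine psu_prim_aux (i := k - 1) (by omega) (by omega) hc hu ?_
    unfold fU
    rw [if_pos (by rw [Nat.beq_eq]; exact hodd), show k - 1 + 1 = k by omega]
    refine hu.dvd_add dvd_rfl fun h4 => ?_
    have := Nat.le_of_dvd (by omega) h4
    omega

/-! ### orthogonal groups -/

section Orth

open QuadraticMap Cfsg.Agent.LieClassical Cfsg.Agent.LieClassical.OrthCore Cfsg.Agent.LieClassical.OrthForms

variable {ι : Type} [Fintype ι] [DecidableEq ι] {F : Type*} [Field F]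

theorem frm_polar {Q : QuadraticForm F (ι → F)} (hQ : Nondeg Q) : Frm (fun u v => polar Q u v) (RingEquiv.refl F) where
  add u v w := polar_add_left Q u v w
  smul a u w := by rw [polar_smul_left, smul_eq_mul]
  add' u v w := polar_add_right Q u v w
  smul' a u w := by rw [polar_smul_right, smul_eq_mul]; rfl
  refl u v h := by
    show polar Q v u = 0
    rw [polar_comm]
    exact h
  nondeg v h := hQ v fun y => by rw [polar_comm]; exact h y

/-- the natural representation of `Ω(Q)` -/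
def tauO (F : Type*) [Field F] (Q : (ι → F) → F) : Omega F Q →* Matrix ι ι F :=
  (Units.coeHom (Matrix ι ι F)).comp ((isometryGroup F Q).subtype.comp (Omega F Q).subtype)

theorem tauO_injective (Q : (ι → F) → F) : Function.Injective (tauO F Q) := by
  intro a b h
  apply Subtype.ext
  apply Subtype.ext
  apply Units.ext
  exact h

theorem tauO_iso (Q : (ι → F) → F) (g : Omega F Q) (v : ι → F) : Q (tauO F Q g *ᵥ v) = Q v := g.1.2 v v

theorem polar_tauO {Q : QuadraticForm F (ι → F)} {Q' : (ι → F) → F} (hQ : ⇑Q = Q') (g : Omega F Q') (u v : ι → F) :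
    polar Q (tauO F Q' g *ᵥ u) (tauO F Q' g *ᵥ v) = polar Q u v := by
  subst hQ
  unfold polar
  rw [← mulVec_add]
  have h1 := tauO_iso (F := F) (Q : (ι → F) → F) g (u + v)
  have h2 := tauO_iso (F := F) (Q : (ι → F) → F) g u
  have h3 := tauO_iso (F := F) (Q : (ι → F) → F) g v
  rw [h1, h2, h3]

end Orth

section Orth2

open QuadraticMap Cfsg.Agent.LieClassical Cfsg.Agent.LieClassical.OrthCore Cfsg.Agent.LieClassical.OrthForms

theorem sq_po_odd {F : Type} [Field F] [Fintype F] {m : ℕ} (hm : 3 ≤ m) (ho : Odd (Fintype.card F)) :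
    SQ (POmega F (quadFormOdd m F)) := by
  obtain ⟨p, _, hp⟩ := exists_char F
  have := Fact.mk hp
  have h2 : (2 : F) ≠ 0 := by
    intro h0
    have h4 : CharP F 2 := CharTwo.of_one_ne_zero_of_two_eq_zero one_ne_zero h0
    have h5 : Even (Fintype.card F) := by
      rw [Nat.even_iff]
      exact FiniteField.even_card_of_char_two (ringChar.eq F 2)
    exact (Nat.not_even_iff_odd.2 ho) h5
  have hPar : Par p (POmega F (quadFormOdd m F)) := (CommTab.hasCG_PO_odd h2 (by omega)).par
  have hq : 2 ≤ Fintype.card F := Fintype.one_lt_card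
  obtain ⟨u, hu⟩ := exists_prim (e := 2 * m) hq (by omega) (by
    rintro ⟨h1, -⟩
    rw [h1] at ho
    exact absurd ho (by decide))
  have hc : den (.oodd m (Fintype.card F)) * Nat.card (POmega F (quadFormOdd m F)) = num (.oodd m (Fintype.card F)) := by
    have h := S0292.result (F := F) rfl ho m hm
    rw [← prod_list (fun i => Fintype.card F ^ (2 * (i + 1)) - 1)] at h
    exact h
  refine sq_of hp fun M hM hidx => ?_
  refine der_frm (f := fun u v => polar (oddForm m F) u v) (σ := RingEquiv.refl F) (tauO F (quadFormOdd m F)) ?_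
    (tauO_injective _) (frm_polar (nondeg_oddForm m F h2)) ?_ hPar hu.prime (Prim.ne_of_dvd hu char_dvd) ?_ ?_ M hM hidx
  · rw [Fintype.card_sum, Fintype.card_sum, Fintype.card_fin]; omega
  · intro g u v
    exact polar_tauO (coe_oddForm m F) g u v
  · intro i h1 h2 h3
    rw [Fintype.card_sum, Fintype.card_sum, Fintype.card_fin, Fintype.card_unit] at h2
    rw [Nat.card_eq_fintype_card] at h3
    refine hu.not_dvd_sub (fun h4 => ?_) h3
    have := Nat.le_of_dvd (by omega) h4
    omega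
  · exact oodd_prim m (by omega) le_rfl dvd_rfl (by omega) hc hu

theorem sq_po_minus {F : Type} [Field F] [Fintype F] {m : ℕ} {a b : F} (hm : 4 ≤ m)
    (hab : ∀ z₁ z₂ : F, z₁ ^ 2 + a * z₁ * z₂ + b * z₂ ^ 2 = 0 → z₁ = 0 ∧ z₂ = 0) :
    SQ (POmega F (quadFormMinus (m - 1) F a b)) := by
  obtain ⟨p, _, hp⟩ := exists_char F
  have := Fact.mk hp
  have hPar : Par p (POmega F (quadFormMinus (m - 1) F a b)) :=
    (CommTab.hasCG_PO_minus a b hab (by omega)).par
  have hq : 2 ≤ Fintype.card F := Fintype.one_lt_card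
  obtain ⟨u, hu⟩ := exists_prim (e := 2 * m) hq (by omega) (by omega)
  have hc : den (.ominus m (Fintype.card F)) * Nat.card (POmega F (quadFormMinus (m - 1) F a b)) =
      num (.ominus m (Fintype.card F)) := by
    have h := S0294.result (F := F) rfl m hm a b hab
    rw [← prod_list (fun i => Fintype.card F ^ (2 * (i + 1)) - 1)] at h
    change Nat.gcd 4 (Fintype.card F ^ m + 1) * _ =
      Fintype.card F ^ (m * (m - 1)) * ((Fintype.card F ^ m + 1) * prB (Fintype.card F) (m - 1))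
    rw [← mul_assoc (Fintype.card F ^ (m * (m - 1)))]
    exact h
  refine sq_of hp fun M hM hidx => ?_
  refine der_frm (f := fun u v => polar (minusForm (m - 1) F a b) u v) (σ := RingEquiv.refl F)
    (tauO F (quadFormMinus (m - 1) F a b)) ?_
    (tauO_injective _) (frm_polar (nondeg_minusForm (m - 1) F a b hab)) ?_ hPar hu.prime (Prim.ne_of_dvd hu char_dvd)
    ?_ ?_ M hM hidx
  · rw [Fintype.card_sum, Fintype.card_sum, Fintype.card_fin]; omega
  · intro g u v
    exact polar_tauO (coe_minusForm (m - 1) F a b) g u v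
  · intro i h1 h2 h3
    rw [Fintype.card_sum, Fintype.card_sum, Fintype.card_fin, Fintype.card_fin] at h2
    rw [Nat.card_eq_fintype_card] at h3
    refine hu.not_dvd_sub (fun h4 => ?_) h3
    have := Nat.le_of_dvd (by omega) h4
    omega
  · exact ominus_prim' hm hc hu

end Orth2

end Cfsg.Agent.H396.ClFam
end

-- part: H396/SqF4
section
/-!
# `SQ` for `F₄(q)`, every field (helper396)

`sq_of_exists` is `H138.SqBase.sq_of_rgd` of helper138 with another hypothesis.
-/

set_option autoImplicit false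
set_option linter.unusedSectionVars false

namespace Cfsg.Agent.H396.SqF4

open Cfsg
open CoxeterSystem Cfsg.Agent.ChevalleyStructure.CoxeterGeom Cfsg.Agent.Tits.Roots Cfsg.Agent.Tits.Core
  Cfsg.Agent.Tits.RootComb Cfsg.Agent.Nodes.Comb Cfsg.Agent.Nodes.Reps Cfsg.Agent.Nodes.BNOf
  Cfsg.Agent.Nodes.StabComb Cfsg.Agent.Nodes.Bruhat Cfsg.Agent.Nodes.LeviDec Cfsg.Agent.Nodes.NormalForm
  Cfsg.Agent.ParSys Cfsg.Agent.ParSys.RootCount Cfsg.Agent.Tits.Exchange
  Cfsg.Agent.Omega.EH3Close.CountU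
open Cfsg.Agent.Nodes Cfsg.Agent.Nodes.RGDLib Cfsg.Agent.Nodes.RGDChev
open Cfsg.Agent.ChevalleyStructure Cfsg.Agent.ChevalleyStructure.Elts
  Cfsg.Agent.ChevalleyStructure.CoxeterGeomTypes
open Cfsg.Agent.Omega.EH3.Kf.Lev (CommGen)
open Cfsg.Agent.H138.SqBase Cfsg.Agent.H138.SqChev Cfsg.Agent.H138.SqChev2
open Cfsg.Lie

section Main

variable {k : ℕ} {W Y : Type*} [Group W] [Group Y] {M : CoxeterMatrix (Fin k)}
  {cs : CoxeterSystem M W} {A : Fin k → Fin k → ℤ} {h : IsCartan M A} {p : ℕ} {T : Subgroup Y} {n : Fin k → Y}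
  {X : (Fin k → ℤ) → Subgroup Y}

/-- **`SQ` from a root group datum**, with the conjugation into parabolic subgroups as a hypothesis. -/
theorem sq_of_exists [Finite W] [Finite Y] [Fact p.Prime] (R : RGD cs h p T n X)
    (H : ∀ P : Subgroup Y, P ≠ ⊤ → ¬ p ^ 2 ∣ P.index → ∃ (g : Y) (K : Set (Fin k)), K ≠ Set.univ ∧
      cj g P ≤ PJ cs h T X K)
    {L : List (Fin k → ℤ)} (hR : PosRoots A L.toFinset) (hN : L.Nodup) {len : (Fin k → ℤ) → ℕ}
    (hlen : ∀ i, ∀ v ∈ L, v ≠ Pi.single i 1 → len (refl A i v) = len v)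
    {q d u : ℕ} (hq2 : 2 ≤ q) (hpq : p ∣ q) (hq : ∀ i, Nat.card (X (sr i)) = q ^ len (Pi.single i 1))
    (hu : H436.Prim q d u) (hd : 2 ≤ d) (hT : ¬ u ∣ Nat.card T) (hY : u ∣ Nat.card Y)
    {Tb : List (ℕ × ℕ)} (hTb : (L.map fun v => (supp v, len v)) = Tb) {bad : List ℕ}
    (hchk : chk k d Tb bad = true)
    (hbad : ∀ J : Finset (Fin k), mJ J ∈ bad →
      ∃ J₁ : Finset (Fin k), J₁ ⊆ J ∧ J₁.Nonempty ∧ J₁ ≠ J ∧ ∀ a ∈ J₁, ∀ b ∈ J, b ∉ J₁ → M a b = 2) : SQ Y := by
  have hup : u ≠ p := by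
    rintro rfl
    exact hu.not_dvd hpq
  intro P hP hsq
  left
  obtain ⟨g, K, hK, hle⟩ := H P hP (fun h1 => (Fact.out : p.Prime).one_lt.ne'
    (Nat.isUnit_iff.1 (hsq p (by rwa [← sq]))))
  refine H396.der_of_prime hu.prime hY (H396.Crit.not_dvd_card R hu.prime hup hT ?_ hK hle)
  · intro J hJ hJ' hconn
    have hcard : Nat.card (RGD.Sup X (PosJ cs h (J : Set (Fin k)))) = q ^ H138.SqBase.NN Tb (mJ J) := by
      classical
      rw [card_UJ R hR (wt := fun v => q ^ len v) (fun i v hv hne => by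
        rw [hlen i v (List.mem_toFinset.1 hv) hne]) hq (J : Set (Fin k))]
      have e1 : (L.toFinset.filter fun v => ∀ i, i ∉ (J : Set (Fin k)) → v i = 0) =
          (L.filter fun v => supp v &&& mJ J == supp v).toFinset := by
        ext v
        rw [Finset.mem_filter, List.mem_toFinset, List.mem_toFinset, List.mem_filter, beq_iff_eq, supp_land]
      rw [e1, List.prod_toFinset _ (hN.filter _)]
      unfold H138.SqBase.NN
      rw [← hTb]
      have e2 : ∀ L' : List (Fin k → ℤ), (L'.map fun v => q ^ len v).prod = q ^ (L'.map len).sum := by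
        intro L'
        induction L' with
        | nil => simp
        | cons a L' ih => rw [List.map_cons, List.prod_cons, ih, List.map_cons, List.sum_cons, pow_add]
      rw [e2, List.filter_map, List.map_map]
      rfl
    rw [hcard, ← pc_mJ J]
    refine not_dvd_of_okB hq2 hu hd ?_
    have h1 := (List.all_eq_true.1 hchk) (mJ J) (List.mem_range.2 (msk_lt _))
    rw [Bool.or_eq_true, Bool.or_eq_true, Bool.or_eq_true] at h1
    rcases h1 with ((h1 | h1) | h1) | h1
    · exfalso
      rw [beq_iff_eq] at h1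
      have h2 : mJ (∅ : Finset (Fin k)) = 0 := by
        apply Nat.eq_of_testBit_eq
        intro j
        rw [Nat.zero_testBit]
        by_cases hj : j < k
        · have h1 := testBit_msk (fun i : Fin k => decide (i ∈ (∅ : Finset (Fin k)))) ⟨j, hj⟩
          simpa [mJ] using h1
        · exact Nat.testBit_lt_two_pow (lt_of_lt_of_le (msk_lt _) (Nat.pow_le_pow_right two_pos (not_lt.1 hj)))
      have h3 := mJ_inj (h1.trans h2.symm)
      rw [h3] at hJ
      exact Finset.not_nonempty_empty hJ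
    · exfalso
      rw [beq_iff_eq] at h1
      apply hJ'
      ext i
      simp only [Finset.mem_univ, iff_true]
      have h2 : (2 ^ k - 1).testBit i = true := by
        rw [Nat.testBit_two_pow_sub_one]
        exact decide_eq_true i.2
      rw [← h1] at h2
      simp only [mJ, testBit_msk] at h2
      simpa using h2
    · exfalso
      obtain ⟨J₁, h2, h3, h4, h5⟩ := hbad J (List.contains_iff_mem.1 h1)
      obtain ⟨a, ha, b, hb, hb1, hab⟩ := hconn J₁ h2 h3 h4
      exact hab (h5 a ha b hb hb1)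
    · exact h1

end Main

theorem sq_F4 {F : Type} [Field F] [Fintype F] : SQ ↥(chevF4.group F) := by
  obtain ⟨p, hpc⟩ := CharP.exists F
  have : Fact p.Prime := ⟨CharP.char_is_prime F p⟩
  have hp := Omega.ML.Ex.Lie2.DatF4.isType_F4
  have hW : Finite CoxeterMatrix.F₄.Group := finite_W hp CoxeterMatrix.F₄.toCoxeterSystem
  obtain ⟨u, hu⟩ := H436.exists_prim (q := Fintype.card F) (e := 12) (Fintype.one_lt_card (α := F)) (by norm_num)
    (by omega)
  have hR := posRoots_F
  rw [← (show cartanOf chevF4 4 = BF by decide +kernel)] at hR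
  have R := rgd (K := F) hp CoxeterMatrix.F₄.toCoxeterSystem p
  refine sq_of_exists R (ParX.exists_le_PJ R (G1_eq_top hp _) (ParF4.cgx F) (Nodes.Chart.Ty.irr .F4 trivial)) hR
    (L := LF) (by decide +kernel) (len := fun _ => 1) (fun _ _ _ _ => rfl) (Fintype.one_lt_card (α := F)) ?_
    (fun i => ?_) hu (d := 12) (by norm_num) ?_ ?_ rfl (bad := []) (by decide +kernel)
    (fun J hJ => absurd hJ (by simp))
  · obtain ⟨k, hk⟩ := FiniteField.card F p
    rw [hk.2]
    exact dvd_pow_self p k.ne_zero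
  · rw [pow_one]
    exact card_X hp F i
  · refine not_dvd_of_pow (e := 1) hu (by intro h1; have := Nat.le_of_dvd one_pos h1; omega) ?_
    intro t ht
    rw [pow_one]
    apply Subtype.ext
    rw [SubgroupClass.coe_pow]
    exact diag_pow hp F (Subgroup.mem_subgroupOf.1 ht)
  · have h1 := Cfsg.Agent.S1062.result (F := F) rfl
    rw [h1]
    exact Dvd.dvd.mul_left (hu.dvd dvd_rfl) _

end Cfsg.Agent.H396.SqF4
end

-- part: H686/SqSmall
section
/-!
# Square-free index in `PSL6(2)`, `PSU4(2)`, `PSp6(2)` (helper686)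
-/

set_option autoImplicit false
set_option linter.unusedSectionVars false

namespace Cfsg.Agent.H686.SqSmall

open MulAction Matrix Cfsg.Agent.H396 Cfsg.Agent.H686.SqGen

/-- action of a matrix group on column vectors -/
@[reducible] def matAct {ι F G : Type*} [Fintype ι] [DecidableEq ι] [Field F] [Group G] (ρ : G →* Matrix ι ι F) :
    DistribMulAction G (ι → F) where
  smul g v := ρ g *ᵥ v
  one_smul v := by show ρ 1 *ᵥ v = v; rw [map_one, one_mulVec]
  mul_smul a b v := by show ρ (a * b) *ᵥ v = ρ a *ᵥ ρ b *ᵥ v; rw [map_mul, mulVec_mulVec]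
  smul_zero a := mulVec_zero _
  smul_add a v w := mulVec_add _ _ _

section arith

theorem exists_card {F V : Type*} [Field F] [Finite F] [AddCommGroup V] [Module F V] [Finite V] {q : ℕ}
    (hF : Nat.card F = q) (W : Submodule F V) : ∃ k : ℕ, Nat.card W = q ^ k := by
  have : Module.Finite F V := Module.Finite.of_finite
  exact ⟨_, by rw [Module.natCard_eq_pow_finrank (K := F), hF]⟩

end arith

/-- the subgroup of `G` fixed by an element as a submodule -/
def cfix (F : Type*) {V G : Type*} [Field F] [AddCommGroup V] [Module F V] [Group G] [DistribMulAction G V]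
    [SMulCommClass G F V] (x : G) : Submodule F V where
  carrier := {v | x • v = v}
  add_mem' {a b} ha hb := by
    change x • (a + b) = a + b
    rw [smul_add, show x • a = a from ha, show x • b = b from hb]
  zero_mem' := smul_zero x
  smul_mem' c v hv := by
    change x • c • v = c • v
    rw [smul_comm, show x • v = v from hv]

theorem card_cfix_modEq {F V G : Type*} [Field F] [AddCommGroup V] [Module F V] [Finite V] [Group G]
    [DistribMulAction G V] [SMulCommClass G F V] {r : ℕ} [Fact r.Prime] {x : G} (hx : orderOf x = r)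
    (W : Submodule F V) (hW : ∀ w ∈ W, x • w ∈ W) :
    Nat.card W ≡ Nat.card (W ⊓ cfix F x : Submodule F V) [MOD r] :=
  card_modEq_of_order hx (W : Set V) hW

theorem cfix_ne_top {F V G : Type*} [Field F] [AddCommGroup V] [Module F V] [Group G] [DistribMulAction G V]
    [SMulCommClass G F V] [FaithfulSMul G V] {x : G} (hx : x ≠ 1) : cfix F x ≠ (⊤ : Submodule F V) := by
  intro h
  refine hx (eq_of_smul_eq_smul (α := V) fun v => ?_)
  have hv : v ∈ cfix F x := by rw [h]; trivial
  rw [one_smul]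
  exact hv

theorem card_lt_of_ne_top {F V : Type*} [Field F] [AddCommGroup V] [Module F V] [Finite V] {W : Submodule F V}
    (hW : W ≠ ⊤) : Nat.card W < Nat.card V := by
  refine lt_of_le_of_ne (Nat.card_le_card_of_injective _ W.subtype_injective) fun h => hW ?_
  have h3 : Function.Bijective W.subtype :=
    (Nat.bijective_iff_injective_and_card _).2 ⟨W.subtype_injective, h⟩
  rw [eq_top_iff]
  intro v _
  obtain ⟨w, rfl⟩ := h3.2 v
  exact w.2

theorem one_lt_card_of_ne_bot {F V : Type*} [Field F] [AddCommGroup V] [Module F V] [Finite V] {W : Submodule F V}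
    (hW : W ≠ ⊥) : 1 < Nat.card W := by
  rw [Finite.one_lt_card_iff_nontrivial]
  exact (Submodule.nontrivial_iff_ne_bot).2 hW

theorem card_dvd_comap {G T : Type*} [Group G] [Finite G] [Group T] (f : G →* T) (hf : Function.Surjective f)
    (M : Subgroup T) : Nat.card M ∣ Nat.card (M.comap f) := by
  let g : M.comap f →* M := (f.comp (M.comap f).subtype).codRestrict M fun x => x.2
  have hgsurj : Function.Surjective g := by
    rintro ⟨v, hv⟩
    obtain ⟨x, hx⟩ := hf v
    exact ⟨⟨x, show f x ∈ M by rw [hx]; exact hv⟩, Subtype.ext hx⟩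
  exact Subgroup.card_dvd_of_surjective g hgsurj

theorem not_sq_dvd {n : ℕ} (h : Squarefree n) {r : ℕ} (hr : r.Prime) : ¬ r ^ 2 ∣ n := fun h2 =>
  hr.one_lt.ne' (Nat.isUnit_iff.1 (h r (by rwa [← pow_two])))

/-- nonzero vectors of a submodule -/
theorem card_diff_zero {F V : Type*} [Field F] [AddCommGroup V] [Module F V] [Finite V] (W : Submodule F V) :
    Nat.card ↥((W : Set V) \ {0}) = Nat.card W - 1 := by
  rw [Nat.card_coe_set_eq, Set.ncard_sdiff_singleton_of_mem W.zero_mem]
  rfl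

theorem card_compl {F V : Type*} [Field F] [AddCommGroup V] [Module F V] [Finite V] (W : Submodule F V) :
    Nat.card ↥((W : Set V)ᶜ) = Nat.card V - Nat.card W := by
  rw [Nat.card_coe_set_eq, Set.ncard_compl]
  rfl

section psl

variable {F : Type} [Field F] [Fintype F]

theorem sq_psl62 (hF : Fintype.card F = 2) : SQ (Matrix.ProjectiveSpecialLinearGroup (Fin 6) F) := by
  classical
  have hF' : Nat.card F = 2 := by rw [Nat.card_eq_fintype_card, hF]
  have : Fact (Nat.Prime 2) := ⟨Nat.prime_two⟩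
  have : Fact (Nat.Prime 31) := ⟨by norm_num⟩
  have hch : CharP F 2 := charP_of_card_eq_prime hF
  refine sq_of_sqMax fun M hM hsq => Or.inl ?_
  by_cases h31 : 31 ∣ Nat.card M
  swap
  · refine der_of_prime (v := 31) (by norm_num) ?_ h31
    have h1 := S0243.result (F := F) hF 6 (by norm_num)
    rw [show ∏ i : Fin 6, (2 ^ 6 - 2 ^ (i : ℕ)) = 20158709760 by decide] at h1
    rw [show Nat.gcd 6 (2 - 1) = 1 by decide, show 2 - 1 = 1 from rfl, one_mul, one_mul] at h1
    rw [h1]
    norm_num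
  exfalso
  obtain ⟨-, V, hV, hVp, -, hMV⟩ :=
    (CommTab.hasCG_PSL (F := F) 5 (by norm_num) (p := 2)).par.of_isCoatom hM (not_sq_dvd hsq Nat.prime_two)
  set! G := SpecialLinearGroup (Fin 6) F with hG
  obtain ⟨Q, hQ, hQp, hMQ⟩ := exists_pgroup (QuotientGroup.mk' (Subgroup.center G))
    (QuotientGroup.mk'_surjective _) (by rw [QuotientGroup.ker_mk']) hV hVp hMV
  set M' := M.comap (QuotientGroup.mk' (Subgroup.center G)) with hM'
  have hidx : M'.index = M.index := Subgroup.index_comap_of_surjective M (QuotientGroup.mk'_surjective _)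
  let act : DistribMulAction G (Fin 6 → F) := matAct (slToMat 6 F)
  have hcomm : SMulCommClass G F (Fin 6 → F) := ⟨fun g c v => mulVec_smul _ _ _⟩
  have hfaith : FaithfulSMul G (Fin 6 → F) := ⟨fun {a b} h => Subtype.ext (Matrix.mulVec_injective (funext h))⟩
  have hcV : Nat.card (Fin 6 → F) = 64 := by
    rw [Nat.card_eq_fintype_card, Fintype.card_fun, hF, Fintype.card_fin]; norm_num
  set! W : Submodule F (Fin 6 → F) := fix F Q with hW
  have hWinv : ∀ m ∈ M', ∀ v ∈ W, m • v ∈ W := fun m hm v hv => fix_smul_mem (hMQ hm) hv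
  have hW0 : W ≠ ⊥ := by
    obtain ⟨w, -, hw0, hw⟩ := exists_fixed (F := F) (V := Fin 6 → F) hQp (W := ⊤) top_ne_bot (fun _ _ _ _ => trivial)
    exact (Submodule.ne_bot_iff _).2 ⟨w, hw, hw0⟩
  have hW1 : Nat.card W < 64 := hcV ▸ card_lt_of_ne_top (fix_ne_top hQ)
  obtain ⟨k, hk⟩ := exists_card hF' W
  have hW2 : 1 < Nat.card W := one_lt_card_of_ne_bot hW0
  have horb : ∀ v : Fin 6 → F, v ≠ 0 → Nat.card (orbit G v) = 63 := by
    intro v hv
    have h1 : orbit G v = {0}ᶜ := by
      ext w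
      refine ⟨fun ⟨g, hg⟩ => ?_, fun hw => ?_⟩
      · intro hw
        rw [Set.mem_singleton_iff] at hw
        rw [hw] at hg
        exact hv ((smul_eq_zero_iff_eq g).1 hg)
      · obtain ⟨g, hg⟩ := H119.SLVec.exists_map_one (n := 6) (by norm_num) hv hw
        exact ⟨g, hg⟩
    rw [h1, Nat.card_coe_set_eq, Set.ncard_compl, Set.ncard_singleton, hcV]
  have hsq3 : ¬ 3 ^ 2 ∣ M'.index := by rw [hidx]; exact not_sq_dvd hsq Nat.prime_three
  have h3 : 3 ^ 1 ∣ Nat.card ↥((W : Set (Fin 6 → F)) \ {0}) := by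
    refine orbit_dvd (G := G) Nat.prime_three hsq3 _ ?_ ?_
    · rintro m hm v ⟨hv1, hv2⟩
      exact ⟨hWinv m hm v hv1, fun h => hv2 ((smul_eq_zero_iff_eq m).1 h)⟩
    · rintro v ⟨-, hv2⟩
      rw [horb v hv2]
      norm_num
  have h3' : 3 ^ 1 ∣ Nat.card ↥((W : Set (Fin 6 → F))ᶜ) := by
    refine orbit_dvd (G := G) Nat.prime_three hsq3 _ ?_ ?_
    · intro m hm v hv hv2
      have := hWinv m⁻¹ (inv_mem hm) _ hv2
      rw [inv_smul_smul] at this
      exact hv this
    · intro v hv
      rw [horb v (fun h => hv (by rw [h]; exact W.zero_mem))]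
      norm_num
  rw [card_diff_zero, hk] at h3
  rw [card_compl, hcV, hk] at h3'
  -- an element of order 31
  obtain ⟨x, hx⟩ := exists_prime_orderOf_dvd_card' (G := M') 31 (h31.trans (card_dvd_comap _ (QuotientGroup.mk'_surjective _) M))
  have hx' : orderOf (x : G) = 31 := by rw [Subgroup.orderOf_coe]; exact hx
  have hx1 : (x : G) ≠ 1 := by
    intro h
    rw [h, orderOf_one] at hx'
    norm_num at hx'
  have hc1 := card_cfix_modEq hx' W (hWinv x x.2)
  have hc2 := card_cfix_modEq (F := F) hx' (⊤ : Submodule F (Fin 6 → F)) (fun _ _ => trivial)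
  rw [top_inf_eq] at hc2
  obtain ⟨c, hc⟩ := exists_card hF' (cfix F (x : G) : Submodule F (Fin 6 → F))
  obtain ⟨j, hj⟩ := exists_card hF' (W ⊓ cfix F (x : G) : Submodule F (Fin 6 → F))
  have hcle : Nat.card (cfix F (x : G) : Submodule F (Fin 6 → F)) < 64 := hcV ▸ card_lt_of_ne_top (cfix_ne_top hx1)
  have hjle : Nat.card (W ⊓ cfix F (x : G) : Submodule F (Fin 6 → F)) ≤
      Nat.card (cfix F (x : G) : Submodule F (Fin 6 → F)) :=
    Nat.card_le_card_of_injective (Submodule.inclusion inf_le_right) (Submodule.inclusion_injective _)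
  have hctop : Nat.card (⊤ : Submodule F (Fin 6 → F)) = 64 := by
    rw [← hcV]; exact Nat.card_congr (Equiv.Set.univ _)
  rw [hctop, hc] at hc2
  rw [hk, hj] at hc1
  rw [hc] at hcle
  rw [hj, hc] at hjle
  rw [hk] at hW1 hW2
  have hc6 : c < 6 := (Nat.pow_lt_pow_iff_right (by norm_num : 1 < 2)).1 (by simpa using hcle)
  have hk6 : k < 6 := (Nat.pow_lt_pow_iff_right (by norm_num : 1 < 2)).1 (by simpa using hW1)
  have hjc : j ≤ c := (Nat.pow_le_pow_iff_right (by norm_num : 1 < 2)).1 hjle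
  have hk0 : 1 ≤ k := Nat.one_le_iff_ne_zero.2 (by rintro rfl; norm_num at hW2)
  have hc1' : c = 1 := by
    interval_cases c <;> first | rfl | (exfalso; revert hc2; decide)
  subst hc1'
  have hk5 : k = 1 ∨ k = 5 := by
    interval_cases j <;> interval_cases k <;> first | exact Or.inl rfl | exact Or.inr rfl | (exfalso; revert hc1; decide)
  rcases hk5 with rfl | rfl
  · norm_num at h3
  · norm_num at h3'

end psl

/-- averaging: a fixed vector is not orthogonal to all fixed vectors -/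
theorem exists_fix_ne {F V G : Type*} [Field F] [AddCommGroup V] [Module F V] [Group G] [DistribMulAction G V]
    [SMulCommClass G F V] {B : V → V → F} (hB : Frm F G B) {x : G} {n : ℕ} (hx : x ^ n = 1) (hn : (n : F) ≠ 0) {r : V}
    (hr : x • r = r) (hr0 : r ≠ 0) : ∃ s : V, x • s = s ∧ B s r ≠ 0 := by
  obtain ⟨v, hv⟩ : ∃ v, B v r ≠ 0 := by
    by_contra hcon
    push Not at hcon
    exact hr0 (hB.nondeg r fun v => hB.refl _ _ (hcon v))
  have hpow : ∀ i : ℕ, x ^ i • r = r := by
    intro i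
    induction i with
    | zero => rw [pow_zero, one_smul]
    | succ i ih => rw [pow_succ', mul_smul, ih, hr]
  refine ⟨∑ i ∈ Finset.range n, x ^ i • v, ?_, ?_⟩
  · rw [Finset.smul_sum]
    have h1 : ∀ i ∈ Finset.range n, x • x ^ i • v = x ^ (i + 1) • v := fun i _ => by rw [pow_succ', mul_smul]
    rw [Finset.sum_congr rfl h1]
    have h2 := Finset.sum_range_succ' (fun i => x ^ i • v) n
    have h3 := Finset.sum_range_succ (fun i => x ^ i • v) n
    rw [h3, hx, pow_zero] at h2
    exact (add_right_cancel h2).symm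
  · have h1 : B (∑ i ∈ Finset.range n, x ^ i • v) r = ∑ i ∈ Finset.range n, B (x ^ i • v) r :=
      map_sum (lin hB r) _ _
    have h2 : ∀ i ∈ Finset.range n, B (x ^ i • v) r = B v r := fun i _ => by
      have := hB.inv (x ^ i) v r
      rwa [hpow i] at this
    rw [h1, Finset.sum_congr rfl h2, Finset.sum_const, Finset.card_range, nsmul_eq_mul]
    exact mul_ne_zero hn hv

section core

variable {F V G : Type*} [Field F] [Finite F] [AddCommGroup V] [Module F V] [Finite V] [Group G] [Finite G]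
  [DistribMulAction G V] [SMulCommClass G F V] [FaithfulSMul G V] {B : V → V → F} {M' Q : Subgroup G}

theorem core_psp (hB : Frm F G B) (hF' : Nat.card F = 2) [CharP F 2] (hcV : Nat.card V = 64)
    (horb : ∀ v : V, v ≠ 0 → Nat.card (orbit G v) = 63) (hQ : Q ≠ ⊥) (hQp : IsPGroup 2 Q)
    (hMQ : M' ≤ Subgroup.normalizer (Q : Set G)) (hsq3 : ¬ 3 ^ 2 ∣ M'.index) (h5 : 5 ∣ Nat.card M') : False := by
  have : Fact (Nat.Prime 2) := ⟨Nat.prime_two⟩
  have : Fact (Nat.Prime 5) := ⟨by norm_num⟩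
  obtain ⟨R, hR0, hRinv, hRiso, hRle⟩ := exists_isotropic hB hQ hQp hMQ
  obtain ⟨k, hk⟩ := exists_card hF' R
  have hR1 : 1 < Nat.card R := one_lt_card_of_ne_bot hR0
  have h3 : 3 ^ 1 ∣ Nat.card ↥((R : Set V) \ {0}) := by
    refine orbit_dvd (G := G) Nat.prime_three hsq3 _ ?_ ?_
    · rintro m hm v ⟨hv1, hv2⟩
      exact ⟨hRinv m hm v hv1, fun h => hv2 ((smul_eq_zero_iff_eq m).1 h)⟩
    · rintro v ⟨-, hv2⟩
      rw [horb v hv2]
      norm_num
  rw [card_diff_zero, hk] at h3
  rw [hk, hcV, ← pow_mul, show 64 = 2 ^ 6 by norm_num] at hRle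
  have hk3 : k * 2 ≤ 6 := (Nat.pow_le_pow_iff_right (by norm_num : 1 < 2)).1 hRle
  have hk0 : 1 ≤ k := Nat.one_le_iff_ne_zero.2 (by rintro rfl; rw [hk] at hR1; norm_num at hR1)
  have hk2 : k = 2 := by
    have : k ≤ 3 := by omega
    interval_cases k <;> first | rfl | (exfalso; revert h3; decide)
  subst hk2
  -- an element of order 5
  obtain ⟨x, hx⟩ := exists_prime_orderOf_dvd_card' (G := M') 5 h5
  have hx' : orderOf (x : G) = 5 := by rw [Subgroup.orderOf_coe]; exact hx
  have hx1 : (x : G) ≠ 1 := by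
    intro h
    rw [h, orderOf_one] at hx'
    norm_num at hx'
  have hc1 := card_cfix_modEq hx' R (hRinv x x.2)
  have hc2 := card_cfix_modEq (F := F) hx' (⊤ : Submodule F V) (fun _ _ => trivial)
  rw [top_inf_eq] at hc2
  obtain ⟨c, hc⟩ := exists_card hF' (cfix F (x : G) : Submodule F V)
  obtain ⟨j, hj⟩ := exists_card hF' (R ⊓ cfix F (x : G) : Submodule F V)
  have hcle : Nat.card (cfix F (x : G) : Submodule F V) < 64 := hcV ▸ card_lt_of_ne_top (cfix_ne_top hx1)
  have hjle : Nat.card (R ⊓ cfix F (x : G) : Submodule F V) ≤ Nat.card (cfix F (x : G) : Submodule F V) :=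
    Nat.card_le_card_of_injective (Submodule.inclusion inf_le_right) (Submodule.inclusion_injective _)
  have hctop : Nat.card (⊤ : Submodule F V) = 64 := by
    rw [← hcV]; exact Nat.card_congr (Equiv.Set.univ _)
  rw [hctop, hc] at hc2
  rw [hk, hj] at hc1
  rw [hc] at hcle
  have hc6 : c < 6 := (Nat.pow_lt_pow_iff_right (by norm_num : 1 < 2)).1 (by simpa using hcle)
  have hc3 : c = 2 := by
    interval_cases c <;> first | rfl | (exfalso; revert hc2; decide)
  subst hc3
  rw [hj, hc] at hjle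
  have hj2 : j ≤ 2 := (Nat.pow_le_pow_iff_right (by norm_num : 1 < 2)).1 hjle
  have hj3 : j = 2 := by
    interval_cases j <;> first | rfl | (exfalso; revert hc1; decide)
  subst hj3
  -- `C_V(x) ≤ R`
  have hle : cfix F (x : G) ≤ R := by
    intro v hv
    have h1 : Function.Bijective (Submodule.inclusion (inf_le_right : R ⊓ cfix F (x : G) ≤ cfix F (x : G))) :=
      (Nat.bijective_iff_injective_and_card _).2 ⟨Submodule.inclusion_injective _, by rw [hj, hc]⟩
    obtain ⟨w, hw⟩ := h1.2 ⟨v, hv⟩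
    have : (w : V) = v := congrArg Subtype.val hw
    rw [← this]
    exact w.2.1
  have hcb : cfix F (x : G) ≠ (⊥ : Submodule F V) := by
    intro h
    rw [h] at hc
    simp at hc
  obtain ⟨r, hr, hr0⟩ := (Submodule.ne_bot_iff _).1 hcb
  have h5F : ((5 : ℕ) : F) ≠ 0 := by
    intro h
    rw [CharP.cast_eq_zero_iff F 2] at h
    norm_num at h
  obtain ⟨s, hs, hsr⟩ := exists_fix_ne hB (x := (x : G)) (n := 5) (by rw [← hx']; exact pow_orderOf_eq_one _) h5F hr hr0
  exact hsr (hRiso s (hle hs) r (hle hr))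

theorem core_psu (hB : Frm F G B) (hF' : Nat.card F = 4) [CharP F 2] (hcV : Nat.card V = 256)
    (horb : ∀ v : V, v ≠ 0 → B v v = 0 → Nat.card (orbit G v) = 135) (hQ : Q ≠ ⊥) (hQp : IsPGroup 2 Q)
    (hMQ : M' ≤ Subgroup.normalizer (Q : Set G)) (hsq3 : ¬ 3 ^ 2 ∣ M'.index) : False := by
  have : Fact (Nat.Prime 2) := ⟨Nat.prime_two⟩
  obtain ⟨R, hR0, hRinv, hRiso, hRle⟩ := exists_isotropic hB hQ hQp hMQ
  obtain ⟨k, hk⟩ := exists_card hF' R
  have hR1 : 1 < Nat.card R := one_lt_card_of_ne_bot hR0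
  have h3 : 3 ^ 2 ∣ Nat.card ↥((R : Set V) \ {0}) := by
    refine orbit_dvd (G := G) Nat.prime_three hsq3 _ ?_ ?_
    · rintro m hm v ⟨hv1, hv2⟩
      exact ⟨hRinv m hm v hv1, fun h => hv2 ((smul_eq_zero_iff_eq m).1 h)⟩
    · rintro v ⟨hv1, hv2⟩
      rw [horb v hv2 (hRiso v hv1 v hv1)]
      norm_num
  rw [card_diff_zero, hk] at h3
  rw [hk, hcV, ← pow_mul, show 256 = 4 ^ 4 by norm_num] at hRle
  have hk3 : k * 2 ≤ 4 := (Nat.pow_le_pow_iff_right (by norm_num : 1 < 4)).1 hRle
  have hk0 : 1 ≤ k := Nat.one_le_iff_ne_zero.2 (by rintro rfl; rw [hk] at hR1; norm_num at hR1)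
  have : k ≤ 2 := by omega
  interval_cases k <;> revert h3 <;> decide

end core

section psp

open Cfsg.Agent.LieClassical Cfsg.Agent.LieClassical.SympTransvection

variable {F : Type} [Field F] [Fintype F]

theorem om_act {m : ℕ} (A : Matrix.symplecticGroup (Fin m) F) (u v : Fin m ⊕ Fin m → F) :
    om (A.1 *ᵥ u) (A.1 *ᵥ v) = om u v := by
  have h1 : (A.1)ᵀ * J (Fin m) F * A.1 = J (Fin m) F := SymplecticGroup.mem_iff'.1 A.2
  rw [om_def, om_def, mulVec_mulVec, ← Matrix.vecMul_transpose, ← Matrix.dotProduct_mulVec, mulVec_mulVec,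
    ← Matrix.mul_assoc, h1]

theorem sq_psp62 (hF : Fintype.card F = 2) (hPar : Par 2 (Cfsg.PSp 3 F)) : SQ (Cfsg.PSp 3 F) := by
  classical
  have hF' : Nat.card F = 2 := by rw [Nat.card_eq_fintype_card, hF]
  have : Fact (Nat.Prime 2) := ⟨Nat.prime_two⟩
  have hch : CharP F 2 := charP_of_card_eq_prime hF
  refine sq_of_sqMax fun M hM hsq => Or.inl ?_
  by_cases h5 : 5 ∣ Nat.card M
  swap
  · refine der_of_prime (v := 5) (by norm_num) ?_ h5
    have h1 := Cfsg.Agent.H343.ord_psp (F := F) (m := 3) hF (by norm_num)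
    rw [show Cfsg.Agent.OrdDiv.fPSp.den 3 2 = 1 by decide,
      show Cfsg.Agent.OrdDiv.fPSp.num 3 2 = 1451520 by decide +kernel, one_mul] at h1
    rw [h1]
    norm_num
  exfalso
  obtain ⟨-, V, hV, hVp, -, hMV⟩ := hPar.of_isCoatom hM (not_sq_dvd hsq Nat.prime_two)
  obtain ⟨Q, hQ, hQp, hMQ⟩ := exists_pgroup
    (QuotientGroup.mk' (Subgroup.center (Matrix.symplecticGroup (Fin 3) F)))
    (QuotientGroup.mk'_surjective _) (by rw [QuotientGroup.ker_mk']) hV hVp hMV
  let act : DistribMulAction (Matrix.symplecticGroup (Fin 3) F) (Fin 3 ⊕ Fin 3 → F) :=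
    matAct (Matrix.symplecticGroup (Fin 3) F).subtype
  have hcomm : @SMulCommClass (Matrix.symplecticGroup (Fin 3) F) F (Fin 3 ⊕ Fin 3 → F) act.toSMul _ :=
    @SMulCommClass.mk _ _ _ act.toSMul _ fun g c v => mulVec_smul _ _ _
  have hfaith : @FaithfulSMul (Matrix.symplecticGroup (Fin 3) F) (Fin 3 ⊕ Fin 3 → F) act.toSMul :=
    @FaithfulSMul.mk _ _ act.toSMul fun {a b} h => Subtype.ext (Matrix.mulVec_injective (funext h))
  have hcV : Nat.card (Fin 3 ⊕ Fin 3 → F) = 64 := by
    rw [Nat.card_eq_fintype_card, Fintype.card_fun, hF, Fintype.card_sum, Fintype.card_fin]; norm_num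
  have hB : @Frm F (Fin 3 ⊕ Fin 3 → F) (Matrix.symplecticGroup (Fin 3) F) _ _ _ _ act om :=
    @Frm.mk F (Fin 3 ⊕ Fin 3 → F) (Matrix.symplecticGroup (Fin 3) F) _ _ _ _ act om om_add_left om_smul_left
      (fun u v h => by rw [om_swap, h, neg_zero]) om_sub_right (fun g u v => om_act g u v) (fun u h => by
        by_contra hu
        obtain ⟨v, hv⟩ := exists_om_ne_zero hu
        exact hv (h v))
  have horb : ∀ v : Fin 3 ⊕ Fin 3 → F, v ≠ 0 →
      Nat.card (@orbit (Matrix.symplecticGroup (Fin 3) F) _ act.toSMul v) = 63 := by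
    intro v hv
    have h1 : @orbit (Matrix.symplecticGroup (Fin 3) F) _ act.toSMul v = {0}ᶜ := by
      ext w
      refine ⟨fun ⟨g, hg⟩ => ?_, fun hw => ?_⟩
      · intro hw
        rw [Set.mem_singleton_iff] at hw
        rw [hw] at hg
        have hg' : g.1 *ᵥ v = g.1 *ᵥ 0 := by rw [mulVec_zero]; exact hg
        refine hv ?_
        have h2 : (g⁻¹ * g).1 *ᵥ v = (g⁻¹ * g).1 *ᵥ 0 := by
          show (g⁻¹.1 * g.1) *ᵥ v = (g⁻¹.1 * g.1) *ᵥ 0
          rw [← mulVec_mulVec, hg', mulVec_mulVec]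
        rw [inv_mul_cancel] at h2
        simpa only [_root_.OneMemClass.coe_one, _root_.Matrix.one_mulVec, _root_.Matrix.mulVec_zero] using h2
      · obtain ⟨a, u, b, y, hg⟩ := exists_tv_tv_mulVec_eq hv hw
        exact ⟨(tvS b y * tvS a u : Matrix.symplecticGroup (Fin 3) F), hg⟩
    rw [h1, Nat.card_coe_set_eq, Set.ncard_compl, Set.ncard_singleton, hcV]
  refine @core_psp F (Fin 3 ⊕ Fin 3 → F) (Matrix.symplecticGroup (Fin 3) F) _ _ _ _ _ _ _ act hcomm hfaith om
    (M.comap (QuotientGroup.mk' (Subgroup.center (Matrix.symplecticGroup (Fin 3) F)))) Q hB hF' _ hcV horb hQ hQp hMQ ?_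
    (h5.trans (card_dvd_comap _ (QuotientGroup.mk'_surjective _) M))
  rw [Subgroup.index_comap_of_surjective M (QuotientGroup.mk'_surjective _)]
  exact not_sq_dvd hsq Nat.prime_three

end psp

section psu

open Cfsg.Agent.LieClassical Cfsg.Agent.LieClassical.HermBasic Cfsg.Agent.LieClassical.HermGen

variable {F : Type} [Field F] [Fintype F]

theorem sq_psu42 (hF : Fintype.card F = 2 ^ 2) : SQ (Cfsg.PSU 4 F 2) := by
  classical
  have hF' : Nat.card F = 4 := by rw [Nat.card_eq_fintype_card, hF]; norm_num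
  have : Fact (Nat.Prime 2) := ⟨Nat.prime_two⟩
  have hch : CharP F 2 := charP_of_card_eq_prime_pow hF
  refine sq_of_sqMax fun M hM hsq => Or.inl ?_
  exfalso
  obtain ⟨-, V, hV, hVp, -, hMV⟩ :=
    (CommTab.hasCG_PSU (N := 4) hF le_rfl (p := 2)).par.of_isCoatom hM (not_sq_dvd hsq Nat.prime_two)
  obtain ⟨Q, hQ, hQp, hMQ⟩ := exists_pgroup (QuotientGroup.mk' (Subgroup.center (Cfsg.SU 4 F 2)))
    (QuotientGroup.mk'_surjective _) (by rw [QuotientGroup.ker_mk']) hV hVp hMV
  let act : DistribMulAction (Cfsg.SU 4 F 2) (Fin 4 → F) := matAct ((slToMat 4 F).comp (Cfsg.SU 4 F 2).subtype)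
  have hcomm : @SMulCommClass (Cfsg.SU 4 F 2) F (Fin 4 → F) act.toSMul _ :=
    @SMulCommClass.mk _ _ _ act.toSMul _ fun g c v => mulVec_smul _ _ _
  have hfaith : @FaithfulSMul (Cfsg.SU 4 F 2) (Fin 4 → F) act.toSMul :=
    @FaithfulSMul.mk _ _ act.toSMul fun {a b} h =>
      Subtype.ext (Subtype.ext (Matrix.mulVec_injective (funext h)))
  have hcV : Nat.card (Fin 4 → F) = 256 := by
    rw [Nat.card_eq_fintype_card, Fintype.card_fun, hF, Fintype.card_fin]; norm_num
  have hB : @Frm F (Fin 4 → F) (Cfsg.SU 4 F 2) _ _ _ _ act (Cfsg.hermForm 4 F 2) :=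
    @Frm.mk F (Fin 4 → F) (Cfsg.SU 4 F 2) _ _ _ _ act (Cfsg.hermForm 4 F 2) herm_add_left herm_smul_left
      (fun u v h => herm_eq_zero_swap hF h) (herm_sub_right hF) (fun g u v => g.2 u v) (fun u h => herm_nondeg hF h)
  have horb : ∀ v : Fin 4 → F, v ≠ 0 → Cfsg.hermForm 4 F 2 v v = 0 →
      Nat.card (@orbit (Cfsg.SU 4 F 2) _ act.toSMul v) = 135 := by
    intro v hv hiso
    have h1 : @orbit (Cfsg.SU 4 F 2) _ act.toSMul v = {w | Cfsg.hermForm 4 F 2 w w = 0} \ {0} := by
      ext w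
      refine ⟨fun ⟨g, hg⟩ => ?_, fun ⟨hw1, hw2⟩ => ?_⟩
      · have hg' : g • v = w := hg
        refine ⟨?_, fun hw => ?_⟩
        · show Cfsg.hermForm 4 F 2 w w = 0
          rw [← hg', hB.inv, hiso]
        · rw [Set.mem_singleton_iff] at hw
          rw [hw] at hg'
          exact hv ((smul_eq_zero_iff_eq g).1 hg')
      · obtain ⟨g, -, hg⟩ := exists_map_iso hF (k := 4) (n := 4) (by norm_num) le_rfl
          (mem_coordSub_top v) (mem_coordSub_top w) hv hw2 hiso hw1
        exact ⟨g, hg⟩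
    have h2 := S0285.result hF 4
    rw [if_pos (by decide)] at h2
    have h3 : ({w | Cfsg.hermForm 4 F 2 w w = 0} : Set (Fin 4 → F)).ncard = 136 := by
      rw [← Nat.card_coe_set_eq]
      exact h2
    rw [h1, Nat.card_coe_set_eq, Set.ncard_sdiff_singleton_of_mem, h3]
    show Cfsg.hermForm 4 F 2 0 0 = 0
    exact herm_zero_left 0
  refine @core_psu F (Fin 4 → F) (Cfsg.SU 4 F 2) _ _ _ _ _ _ _ act hcomm hfaith (Cfsg.hermForm 4 F 2)
    (M.comap (QuotientGroup.mk' (Subgroup.center (Cfsg.SU 4 F 2)))) Q hB hF' _ hcV horb hQ hQp hMQ ?_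
  rw [Subgroup.index_comap_of_surjective M (QuotientGroup.mk'_surjective _)]
  exact not_sq_dvd hsq Nat.prime_three

end psu

end Cfsg.Agent.H686.SqSmall
end

-- part: H686/SqPlus
section
/-!
# Square-free index in `PΩ⁺_{2m}(q)` (helper686)
-/

set_option autoImplicit false
set_option linter.unusedSectionVars false

namespace Cfsg.Agent.H686.SqPlus

open MulAction QuadraticMap Cfsg.Agent.H396 Cfsg.Agent.H686.SqGen Cfsg.Agent.H686.SqSmall Cfsg.Agent.H436
  Cfsg.Agent.LieClassical.OrthCore Cfsg.Agent.LieClassical.OrthTrans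

theorem mod_pow {q e u a b : ℕ} (h : Prim q e u) (hab : a ≤ b) (hmod : q ^ b ≡ q ^ a [MOD u]) : e ∣ b - a := by
  rcases Nat.eq_zero_or_pos q with rfl | hq
  · exact absurd (dvd_zero u) h.not_dvd
  rw [← h.dvd_iff]
  have h1 : u ∣ q ^ b - q ^ a := (Nat.modEq_iff_dvd' (Nat.pow_le_pow_right hq hab)).1 hmod.symm
  have h2 : q ^ b - q ^ a = q ^ a * (q ^ (b - a) - 1) := by
    rw [Nat.mul_sub, mul_one, ← pow_add, Nat.add_sub_cancel' hab]
  rw [h2] at h1
  exact (h.prime.dvd_mul.1 h1).resolve_left (h.not_dvd_pow a)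

section plane

variable {F V : Type*} [Field F] [Finite F] [AddCommGroup V] [Module F V] [Finite V] {Q : QuadraticForm F V}

/-- singular vectors of a plane with a nonzero singular vector -/
theorem card_plane {C : Submodule F V} (hC : Nat.card C = Nat.card F ^ 2) {e : V} (he : e ∈ C) (he0 : e ≠ 0)
    (hQe : Q e = 0) : Nat.card {v : V | v ∈ C ∧ Q v = 0} = Nat.card F ^ 2 ∨
      Nat.card {v : V | v ∈ C ∧ Q v = 0} = Nat.card F ∨ Nat.card {v : V | v ∈ C ∧ Q v = 0} + 1 = 2 * Nat.card F := by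
  classical
  have hq1 : 1 < Nat.card F := Finite.one_lt_card
  -- a vector outside `F e`
  obtain ⟨f, hf, hfe⟩ : ∃ f ∈ C, ∀ a : F, f ≠ a • e := by
    by_contra hcon
    push Not at hcon
    have h1 : Nat.card C ≤ Nat.card F := by
      refine Nat.card_le_card_of_surjective (fun a : F => (⟨a • e, C.smul_mem a he⟩ : C)) ?_
      rintro ⟨v, hv⟩
      obtain ⟨a, ha⟩ := hcon v hv
      exact ⟨a, Subtype.ext ha.symm⟩
    rw [hC] at h1
    nlinarith only [hq1, h1]
  set! g : F × F → C := fun ab => ⟨ab.1 • e + ab.2 • f, C.add_mem (C.smul_mem _ he) (C.smul_mem _ hf)⟩ with hg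
  have hginj : Function.Injective g := by
    rintro ⟨a, b⟩ ⟨a', b'⟩ h
    have h1 : a • e + b • f = a' • e + b' • f := congrArg Subtype.val h
    have hb : b = b' := by
      by_contra hne
      have hne' : b - b' ≠ 0 := sub_ne_zero.2 hne
      apply hfe ((b - b')⁻¹ * (a' - a))
      have h2 : (b - b') • f = (a' - a) • e := by
        rw [sub_smul, sub_smul, sub_eq_sub_iff_add_eq_add, add_comm (b • f), h1]
      rw [mul_smul, ← h2, smul_smul, inv_mul_cancel₀ hne', one_smul]
    subst hb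
    have h3 : a • e = a' • e := add_right_cancel h1
    have ha : a = a' := by
      by_contra hne
      have h4 : (a - a') • e = 0 := by rw [sub_smul, h3, sub_self]
      rcases smul_eq_zero.1 h4 with h5 | h5
      · exact hne (sub_eq_zero.1 h5)
      · exact he0 h5
    rw [ha]
  have hgbij : Function.Bijective g :=
    (Nat.bijective_iff_injective_and_card g).2 ⟨hginj, by rw [Nat.card_prod, hC, pow_two]⟩
  set! β := polar Q e f with hβ
  set! γ := Q f with hγ
  have hQg : ∀ ab : F × F, Q (g ab : V) = ab.2 * (ab.1 * β + ab.2 * γ) := by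
    rintro ⟨a, b⟩
    show Q (a • e + b • f) = _
    rw [Q_add, QuadraticMap.map_smul, QuadraticMap.map_smul, hQe, polar_smul_left, polar_smul_right]
    simp only [smul_eq_mul]
    ring
  -- transfer the count
  have hcount : Nat.card {v : V | v ∈ C ∧ Q v = 0} = ({ab : F × F | ab.2 * (ab.1 * β + ab.2 * γ) = 0} : Set (F × F)).ncard := by
    rw [← Nat.card_coe_set_eq]
    refine Nat.card_congr (Equiv.symm (Equiv.ofBijective
      (fun ab => ⟨(g ab.1 : V), (g ab.1).2, by rw [hQg]; exact ab.2⟩) ⟨?_, ?_⟩))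
    · rintro ⟨ab, hab⟩ ⟨ab', hab'⟩ h
      have h1 := Subtype.ext_iff.1 h
      exact Subtype.ext (hginj (Subtype.ext h1))
    · rintro ⟨v, hv, hv0⟩
      obtain ⟨ab, hab⟩ := hgbij.2 ⟨v, hv⟩
      have h1 : (g ab : V) = v := congrArg Subtype.val hab
      refine ⟨⟨ab, ?_⟩, Subtype.ext h1⟩
      show ab.2 * (ab.1 * β + ab.2 * γ) = 0
      rw [← hQg, h1, hv0]
  rw [hcount]
  have hA : ({ab : F × F | ab.2 = 0} : Set (F × F)).ncard = Nat.card F := by
    rw [← Nat.card_coe_set_eq]
    exact Nat.card_congr ⟨fun ab => ab.1.1, fun a => ⟨(a, 0), rfl⟩, fun ab => Subtype.ext (Prod.ext rfl ab.2.symm),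
      fun _ => rfl⟩
  by_cases hβ0 : β = 0
  · by_cases hγ0 : γ = 0
    · left
      have h1 : ({ab : F × F | ab.2 * (ab.1 * β + ab.2 * γ) = 0} : Set (F × F)) = Set.univ := by
        ext ab
        simp [hβ0, hγ0]
      rw [h1, Set.ncard_univ, Nat.card_prod, pow_two]
    · right; left
      have h1 : ({ab : F × F | ab.2 * (ab.1 * β + ab.2 * γ) = 0} : Set (F × F)) = {ab : F × F | ab.2 = 0} := by
        ext ab
        simp [hβ0, hγ0]
      rw [h1, hA]
  · right; right
    set! A' : Set (F × F) := {ab | ab.1 * β + ab.2 * γ = 0} with hA'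
    have h1 : ({ab : F × F | ab.2 * (ab.1 * β + ab.2 * γ) = 0} : Set (F × F)) = {ab : F × F | ab.2 = 0} ∪ A' := by
      ext ab
      simp only [hA', mul_eq_zero, _root_.Set.mem_ofPred_eq, _root_.Set.mem_union]
    have hA'c : A'.ncard = Nat.card F := by
      rw [← Nat.card_coe_set_eq]
      refine Nat.card_congr ⟨fun ab => ab.1.2, fun b => ⟨(-(b * γ) * β⁻¹, b), ?_⟩, fun ab => ?_, fun _ => rfl⟩
      · show -(b * γ) * β⁻¹ * β + b * γ = 0
        rw [mul_assoc, inv_mul_cancel₀ hβ0, mul_one, neg_add_cancel]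
      · obtain ⟨⟨a, b⟩, hab⟩ := ab
        have hab' : a * β + b * γ = 0 := hab
        refine Subtype.ext (Prod.ext ?_ rfl)
        show -(b * γ) * β⁻¹ = a
        rw [← eq_neg_of_add_eq_zero_left hab', mul_assoc, mul_inv_cancel₀ hβ0, mul_one]
    have hinter : (({ab : F × F | ab.2 = 0} : Set (F × F)) ∩ A') = {(0, 0)} := by
      ext ⟨a, b⟩
      constructor
      · rintro ⟨hb, hab⟩
        have hb' : b = 0 := hb
        have hab' : a * β + b * γ = 0 := hab
        rw [hb', zero_mul, add_zero] at hab'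
        rw [Set.mem_singleton_iff, hb', (mul_eq_zero.1 hab').resolve_right hβ0]
      · intro h
        rw [Set.mem_singleton_iff, Prod.mk.injEq] at h
        obtain ⟨rfl, rfl⟩ := h
        exact ⟨rfl, show (0 : F) * β + 0 * γ = 0 by ring⟩
    have h2 := Set.ncard_union_add_ncard_inter ({ab : F × F | ab.2 = 0} : Set (F × F)) A'
    rw [hinter, Set.ncard_singleton, hA, hA'c] at h2
    rw [h1, h2, two_mul]

end plane

section core

variable {F V : Type*} [Field F] [Finite F] [AddCommGroup V] [Module F V] [Finite V] {Q : QuadraticForm F V}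

theorem frm (hQ : Nondeg Q) : Frm F ↥(E Q) (fun u v => polar Q u v) where
  add u v w := polar_add_left _ _ _ _
  smul c u w := by rw [polar_smul_left]; rfl
  refl u v h := by rw [polar_comm]; exact h
  sub_right u v w := polar_sub_right _ _ _ _
  inv g u v := polar_map (E_le_O g.2) u v
  nondeg u h := hQ u h

/-- orbits of `E Q` -/
theorem card_orbit (hG : Good Q) {v : V} (hv : v ≠ 0) :
    Nat.card (orbit ↥(E Q) v) = Nat.card {w : V | w ≠ 0 ∧ Q w = Q v} := by
  have h1 : orbit ↥(E Q) v = {w : V | w ≠ 0 ∧ Q w = Q v} := by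
    ext w
    constructor
    · rintro ⟨g, hg⟩
      have hg' : (g : V ≃ₗ[F] V) v = w := hg
      refine ⟨fun h => hv ?_, ?_⟩
      · rw [h] at hg'
        exact (g : V ≃ₗ[F] V).map_eq_zero_iff.1 hg'
      · rw [← hg']
        exact E_le_O g.2 v
    · rintro ⟨hw, hQw⟩
      obtain ⟨g, hg, hgv⟩ := hG.trans_norm hv hw hQw.symm
      exact ⟨⟨g, hg⟩, hgv⟩
  rw [h1]

instance : Finite ↥(E Q) := by
  have : Finite (V ≃ₗ[F] V) := Finite.of_injective (fun g : V ≃ₗ[F] V => (g : V → V)) DFunLike.coe_injective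
  infer_instance

/-- a subgroup of index prime to `p` fixes only singular vectors -/
theorem exists_sing (hG : Good Q) {p : ℕ} [hp : Fact p.Prime] [CharP F p]
    (hc : ∀ c : F, c ≠ 0 → p ∣ Nat.card {v : V | Q v = c}) {M : Subgroup ↥(E Q)} (hM : ¬ p ∣ M.index)
    {R : Submodule F V} (hR : R ≠ ⊥) (hinv : ∀ m ∈ M, ∀ v ∈ R, m • v ∈ R) : ∃ v ∈ R, v ≠ 0 ∧ Q v = 0 := by
  obtain ⟨S⟩ : Nonempty (Sylow p M) := inferInstance
  set! S' : Subgroup ↥(E Q) := ((S : Subgroup M).map M.subtype :) with hS'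
  have hSp : IsPGroup p S' := S.isPGroup'.map _
  have hSM : S' ≤ M := Subgroup.map_subtype_le _
  have hSi : ¬ p ∣ S'.index := by
    have h1 : S'.index = (S : Subgroup M).index * M.index := Subgroup.index_map_subtype (S : Subgroup M)
    rw [h1, hp.out.dvd_mul]
    rintro (h | h)
    · exact S.not_dvd_index h
    · exact hM h
  obtain ⟨v, hv, hv0, hvS⟩ := exists_fixed hSp hR (fun g hg w hw => hinv g (hSM hg) w hw)
  refine ⟨v, hv, hv0, ?_⟩
  by_contra hQv
  apply hSi
  have h1 : S' ≤ stabilizer ↥(E Q) v := fun g hg => hvS g hg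
  have h2 : (stabilizer ↥(E Q) v).index = Nat.card {w : V | Q w = Q v} := by
    rw [index_stabilizer, ← Nat.card_coe_set_eq, card_orbit hG hv0]
    congr 1
    refine congrArg _ ?_
    ext w
    refine ⟨fun h => h.2, fun h => ⟨fun h0 => ?_, h⟩⟩
    have h' : Q w = Q v := h
    rw [h0, QuadraticMap.map_zero] at h'
    exact hQv h'.symm
  have h3 := Subgroup.index_dvd_of_le h1
  rw [h2] at h3
  exact (hc _ hQv).trans h3

theorem core_u {q m u : ℕ} (hq : Nat.card F = q) (hV : Nat.card V = q ^ (2 * m)) (hm : 4 ≤ m)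
    (h0 : Nat.card {v : V | Q v = 0} = q ^ (2 * m - 1) + q ^ m - q ^ (m - 1)) (hu : Prim q (2 * m - 2) u)
    {M : Subgroup ↥(E Q)} {R : Submodule F V} (hinv : ∀ g ∈ M, ∀ v ∈ R, g • v ∈ R)
    (hRle : Nat.card R ^ 2 ≤ Nat.card V) {e : V} (he : e ∈ R) (he0 : e ≠ 0) (hQe : Q e = 0)
    (hdiv : u ∣ Nat.card M) : False := by
  have : Fact u.Prime := ⟨hu.prime⟩
  have hq1 : 1 < q := hq ▸ Finite.one_lt_card
  obtain ⟨x, hx⟩ := exists_prime_orderOf_dvd_card' (G := M) u hdiv
  have hx' : orderOf (x : ↥(E Q)) = u := by rw [Subgroup.orderOf_coe]; exact hx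
  have hx1 : (x : ↥(E Q)) ≠ 1 := by
    intro h
    rw [h, orderOf_one] at hx'
    exact hu.prime.one_lt.ne hx'
  -- the fixed space has dimension 2
  have hctop : Nat.card (⊤ : Submodule F V) = q ^ (2 * m) := by
    rw [← hV]; exact Nat.card_congr (Equiv.Set.univ _)
  have hc2 := card_cfix_modEq (F := F) hx' (⊤ : Submodule F V) (fun _ _ => trivial)
  rw [top_inf_eq, hctop] at hc2
  obtain ⟨c, hc⟩ := exists_card hq (cfix F (x : ↥(E Q)) : Submodule F V)
  have hcle : Nat.card (cfix F (x : ↥(E Q)) : Submodule F V) < q ^ (2 * m) := hV ▸ card_lt_of_ne_top (cfix_ne_top hx1)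
  rw [hc] at hc2 hcle
  have hclt : c < 2 * m := (Nat.pow_lt_pow_iff_right hq1).1 hcle
  have hc3 := mod_pow hu hclt.le hc2
  have hc4 : c = 2 := by
    obtain ⟨t, ht⟩ := hc3
    rcases t with _ | _ | t
    · (clear * - hclt ht; omega)
    · (clear * - hclt ht; omega)
    · have h1 : (2 * m - 2) * 2 ≤ (2 * m - 2) * (t + 1 + 1) := Nat.mul_le_mul_left _ (by omega)
      (clear * - hm ht h1; omega)
  subst hc4
  -- `x` is trivial on `R`
  obtain ⟨k, hk⟩ := exists_card hq R
  have hkm : k ≤ m := by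
    rw [hk, hV, ← pow_mul] at hRle
    have := (Nat.pow_le_pow_iff_right hq1).1 hRle
    omega
  obtain ⟨j, hj⟩ := exists_card hq (R ⊓ cfix F (x : ↥(E Q)) : Submodule F V)
  have hc1 := card_cfix_modEq hx' R (hinv x x.2)
  rw [hk, hj] at hc1
  have hjk : j ≤ k := by
    have h1 : Nat.card (R ⊓ cfix F (x : ↥(E Q)) : Submodule F V) ≤ Nat.card R :=
      Nat.card_le_card_of_injective (Submodule.inclusion inf_le_left) (Submodule.inclusion_injective _)
    rw [hj, hk] at h1
    exact (Nat.pow_le_pow_iff_right hq1).1 h1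
  have hjk2 : j = k := by
    obtain ⟨t, ht⟩ := mod_pow hu hjk hc1
    rcases t with _ | t
    · omega
    · have h1 : (2 * m - 2) * 1 ≤ (2 * m - 2) * (t + 1) := Nat.mul_le_mul_left _ (by omega)
      omega
  have hRC : e ∈ cfix F (x : ↥(E Q)) := by
    have h1 : Function.Bijective (Submodule.inclusion (inf_le_left : R ⊓ cfix F (x : ↥(E Q)) ≤ R)) :=
      (Nat.bijective_iff_injective_and_card _).2 ⟨Submodule.inclusion_injective _, by rw [hj, hk, hjk2]⟩
    obtain ⟨w, hw⟩ := h1.2 ⟨e, he⟩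
    have : (w : V) = e := congrArg Subtype.val hw
    rw [← this]
    exact w.2.2
  -- count the singular vectors
  have hmod := card_modEq_of_order hx' {v : V | Q v = 0} (fun v hv => by
    show Q ((x : ↥(E Q)) • v) = 0
    have := E_le_O (x : ↥(E Q)).2 v
    exact this.trans hv)
  have hset : {y : V | y ∈ {v : V | Q v = 0} ∧ (x : ↥(E Q)) • y = y} = {v : V | v ∈ cfix F (x : ↥(E Q)) ∧ Q v = 0} := by
    ext y
    exact ⟨fun h => ⟨h.2, h.1⟩, fun h => ⟨h.2, h.1⟩⟩
  rw [hset, h0] at hmod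
  -- modulo `u`
  have hz : ∀ n : ℕ, ((q ^ n : ℕ) : ZMod u) = (q : ZMod u) ^ n := fun n => by push_cast; rfl
  have hzu : ((q : ZMod u)) ^ (m - 1) = -1 := by
    have h1 : u ∣ q ^ (m - 1) + 1 := by
      refine hu.dvd_add ⟨1, by (clear * -; solve | lia | omega)⟩ fun h => ?_
      have := Nat.le_of_dvd (by omega) h
      omega
    have h2 : ((q ^ (m - 1) + 1 : ℕ) : ZMod u) = 0 := (ZMod.natCast_eq_zero_iff _ _).2 h1
    push_cast at h2
    exact eq_neg_of_add_eq_zero_left h2
  have hle : q ^ (m - 1) ≤ q ^ (2 * m - 1) + q ^ m :=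
    (Nat.pow_le_pow_right (by omega) (by omega)).trans (Nat.le_add_left _ _)
  have hN : ((q ^ (2 * m - 1) + q ^ m - q ^ (m - 1) : ℕ) : ZMod u) = 1 := by
    rw [Nat.cast_sub hle]
    push_cast
    rw [hzu, show 2 * m - 1 = (m - 1) * 2 + 1 by omega, pow_succ, pow_mul, hzu,
      show (q : ZMod u) ^ m = (q : ZMod u) ^ (m - 1) * q by rw [← pow_succ]; congr 1; omega, hzu]
    ring
  have hmod' := (ZMod.natCast_eq_natCast_iff _ _ _).2 hmod
  rw [hN] at hmod'
  have hq1' : (q : ZMod u) ≠ 1 := by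
    intro h
    have h1 : u ∣ q - 1 := by
      have h2 : ((q - 1 : ℕ) : ZMod u) = 0 := by
        rw [Nat.cast_sub hq1.le, h]; simp
      exact (ZMod.natCast_eq_zero_iff _ _).1 h2
    have h3 := (hu.dvd_iff 1).1 (by rwa [pow_one])
    have := Nat.le_of_dvd (by norm_num) h3
    omega
  have hq2' : (q : ZMod u) ^ 2 ≠ 1 := by
    intro h
    have h1 : u ∣ q ^ 2 - 1 := by
      have h2 : ((q ^ 2 - 1 : ℕ) : ZMod u) = 0 := by
        rw [Nat.cast_sub (Nat.one_le_pow _ _ (by omega))]; push_cast; rw [h]; simp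
      exact (ZMod.natCast_eq_zero_iff _ _).1 h2
    have h3 := (hu.dvd_iff 2).1 h1
    have := Nat.le_of_dvd (by norm_num) h3
    omega
  have h2u : (2 : ZMod u) ≠ 0 := by
    intro h
    have h1 : u ∣ 2 := (ZMod.natCast_eq_zero_iff 2 u).1 (by exact_mod_cast h)
    have h2 : u = 2 := (Nat.prime_dvd_prime_iff_eq hu.prime Nat.prime_two).1 h1
    rcases Nat.even_or_odd q with ho | ho
    · exact hu.not_dvd (h2 ▸ ho.two_dvd)
    · have h4 : u ∣ q ^ 1 - 1 := by
        rw [pow_one, h2]
        exact (Nat.even_sub' hq1.le).2 (by simp [ho]) |>.two_dvd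
      have h3 := (hu.dvd_iff 1).1 h4
      have := Nat.le_of_dvd (by norm_num) h3
      omega
  rcases card_plane (Q := Q) (C := cfix F (x : ↥(E Q))) (by rw [hc, hq]) hRC he0 hQe with h | h | h
  · rw [h, hq] at hmod'
    push_cast at hmod'
    exact hq2' hmod'.symm
  · rw [h, hq] at hmod'
    exact hq1' hmod'.symm
  · rw [hq] at h
    have h1 := congrArg (Nat.cast : ℕ → ZMod u) h
    push_cast at h1
    rw [← hmod'] at h1
    have h2 : (2 : ZMod u) * ((q : ZMod u) - 1) = 0 := by rw [mul_sub, ← h1]; ring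
    exact (mul_ne_zero h2u (sub_ne_zero.2 hq1')) h2

/-- `Ω₈⁺(2)` -/
theorem core_two (hG : Good Q) (hq : Nat.card F = 2) [CharP F 2] (hV : Nat.card V = 2 ^ 8)
    (h0 : Nat.card {v : V | Q v = 0} = 136) {M : Subgroup ↥(E Q)} (hsq : ¬ 3 ^ 2 ∣ M.index)
    {R : Submodule F V} (hinv : ∀ g ∈ M, ∀ v ∈ R, g • v ∈ R) (hiso : ∀ v ∈ R, ∀ w ∈ R, polar Q v w = 0)
    (hRle : Nat.card R ^ 2 ≤ Nat.card V) {e : V} (he : e ∈ R) (he0 : e ≠ 0) (hQe : Q e = 0) : False := by
  let R0 : Submodule F V :=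
    { carrier := {v | v ∈ R ∧ Q v = 0}
      add_mem' := fun {a b} ha hb => ⟨R.add_mem ha.1 hb.1, by rw [Q_add, ha.2, hb.2, hiso a ha.1 b hb.1]; ring⟩
      zero_mem' := ⟨R.zero_mem, QuadraticMap.map_zero Q⟩
      smul_mem' := fun c v hv => ⟨R.smul_mem c hv.1, by rw [QuadraticMap.map_smul, hv.2, smul_zero]⟩ }
  obtain ⟨k, hk⟩ := exists_card hq R0
  have hR0 : 1 < Nat.card R0 := one_lt_card_of_ne_bot ((Submodule.ne_bot_iff _).2 ⟨e, ⟨he, hQe⟩, he0⟩)
  have hle : Nat.card R0 ≤ Nat.card R :=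
    Nat.card_le_card_of_injective (Submodule.inclusion (fun v hv => hv.1 : R0 ≤ R)) (Submodule.inclusion_injective _)
  have hk4 : k ≤ 4 := by
    have h1 : Nat.card R0 ^ 2 ≤ 2 ^ 8 := (Nat.pow_le_pow_left hle 2).trans (hRle.trans_eq hV)
    rw [hk, ← pow_mul] at h1
    have := (Nat.pow_le_pow_iff_right (by norm_num : 1 < 2)).1 h1
    omega
  have hk0 : 1 ≤ k := Nat.one_le_iff_ne_zero.2 (by rintro rfl; rw [hk] at hR0; norm_num at hR0)
  have h3 : 3 ^ 2 ∣ Nat.card ↥((R0 : Set V) \ {0}) := by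
    refine orbit_dvd (G := ↥(E Q)) Nat.prime_three hsq _ ?_ ?_
    · rintro g hg v ⟨hv1, hv2⟩
      refine ⟨⟨hinv g hg v hv1.1, (E_le_O g.2 v).trans hv1.2⟩, fun h => hv2 ((smul_eq_zero_iff_eq g).1 h)⟩
    · rintro v ⟨hv1, hv2⟩
      have h4 : Nat.card {w : V | w ≠ 0 ∧ Q w = Q v} = 135 := by
        have h5 : {w : V | w ≠ 0 ∧ Q w = Q v} = {w : V | Q w = 0} \ {0} := by
          ext w
          rw [hv1.2]
          exact ⟨fun h => ⟨h.2, h.1⟩, fun h => ⟨h.2, h.1⟩⟩
        rw [h5, Nat.card_coe_set_eq, Set.ncard_sdiff_singleton_of_mem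
          (show (0 : V) ∈ {w : V | Q w = 0} from QuadraticMap.map_zero Q), ← Nat.card_coe_set_eq, h0]
      rw [card_orbit hG hv2, h4]
      norm_num
  rw [card_diff_zero, hk] at h3
  interval_cases k <;> revert h3 <;> decide

end core

section main

open Cfsg.Agent.LieClassical Cfsg.Agent.LieClassical.OrthFinite Cfsg.Agent.LieClassical.OrthForms

variable {F : Type} [Field F] [Fintype F]

theorem card_norm (m : ℕ) {p : ℕ} [Fact p.Prime] [CharP F p] (h2 : 2 ≤ m) (c : F) (hc : c ≠ 0) :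
    p ∣ Nat.card {v : Fin m ⊕ Fin m → F | plusForm m F v = c} := by
  classical
  have h := QuadCount.card_plus (F := F) m c
  rw [if_neg hc, add_zero] at h
  have hpq : p ∣ Fintype.card F := by
    obtain ⟨n, hp, hn⟩ := FiniteField.card F p
    rw [hn]
    exact dvd_pow_self p n.2.ne'
  have hq : 0 < Fintype.card F := Fintype.card_pos
  obtain ⟨k, rfl⟩ : ∃ k, m = k + 2 := ⟨m - 2, by omega⟩
  have h3 : Nat.card {v : Fin (k + 2) ⊕ Fin (k + 2) → F // Cfsg.quadFormPlus (k + 2) F v = c} + Fintype.card F ^ (k + 1) =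
      Fintype.card F ^ (2 * k + 3) := by
    refine Nat.eq_of_mul_eq_mul_left hq ?_
    rw [mul_add, ← pow_succ', ← pow_succ', h]
    congr 1
  have h4 : {v : Fin (k + 2) ⊕ Fin (k + 2) → F | plusForm (k + 2) F v = c} =
      {v | Cfsg.quadFormPlus (k + 2) F v = c} := by rw [coe_plusForm]
  rw [h4]
  exact (Nat.dvd_add_left (hpq.trans (dvd_pow_self _ (by omega)))).1 (h3 ▸ hpq.trans (dvd_pow_self _ (by omega)))

theorem sq_po_plus {m : ℕ} (hm : 4 ≤ m) : SQ (Cfsg.POmega F (Cfsg.quadFormPlus m F)) := by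
  classical
  obtain ⟨p, hch⟩ := CharP.exists F
  have hp : Fact p.Prime := ⟨CharP.char_is_prime F p⟩
  have hq : Nat.card F = Fintype.card F := Nat.card_eq_fintype_card
  have hq1 : 1 < Fintype.card F := Fintype.one_lt_card
  -- the model
  have hG : Good (plusForm m F) := by
    apply good_of_finite (nondeg_plusForm m F)
    rw [Module.finrank_fintype_fun_eq_card, Fintype.card_sum, Fintype.card_fin]
    omega
  have hPar : Par p (Cfsg.POmega F (Cfsg.quadFormPlus m F)) := by
    obtain ⟨n, rfl⟩ : ∃ n, m = n + 3 := ⟨m - 3, by omega⟩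
    exact (CommTab.hasCG_PO_plus (F := F) n (p := p)).par
  let e : Cfsg.POmega F (Cfsg.quadFormPlus m F) ≃*
      (↥(E (plusForm m F)) ⧸ Subgroup.center ↥(E (plusForm m F))) := by
    rw [← coe_plusForm]
    exact quotientCenterCongr ((omegaEquiv (plusForm m F)).trans (MulEquiv.subgroupCongr hG.commutator_eq_E))
  have hParE := hPar.of_equiv e
  have hfinT : Finite (Cfsg.POmega F (Cfsg.quadFormPlus m F)) := Finite.of_equiv _ e.symm.toEquiv
  refine sq_of_sqMax (SQMax.congr e.symm fun M hM hsq => Or.inl ?_)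
  obtain ⟨hidx, V, hV, hVp, -, hMV⟩ := hParE.of_isCoatom hM (not_sq_dvd hsq hp.out)
  obtain ⟨P, hP, hPp, hMP⟩ := exists_pgroup
    (QuotientGroup.mk' (Subgroup.center ↥(E (plusForm m F)))) (QuotientGroup.mk'_surjective _)
    (by rw [QuotientGroup.ker_mk']) hV hVp hMV
  set! M' := M.comap (QuotientGroup.mk' (Subgroup.center ↥(E (plusForm m F)))) with hM'; rewrite [← hM'] at hMP
  have hidx' : M'.index = M.index := Subgroup.index_comap_of_surjective M (QuotientGroup.mk'_surjective _)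
  obtain ⟨R, hR0, hRinv, hRiso, hRle⟩ := exists_isotropic (p := p) (frm hG.nondeg) hP hPp hMP
  obtain ⟨v, hv, hv0, hQv⟩ := exists_sing hG (p := p) (fun c hc => card_norm m (by omega) c hc)
    (M := M') (by rw [hidx']; exact hidx) hR0 hRinv
  have hcV : Nat.card (Fin m ⊕ Fin m → F) = Fintype.card F ^ (2 * m) := by
    rw [Nat.card_eq_fintype_card, Fintype.card_fun, Fintype.card_sum, Fintype.card_fin, two_mul]
  have h0 : Nat.card {v : Fin m ⊕ Fin m → F | plusForm m F v = 0} =
      Fintype.card F ^ (2 * m - 1) + Fintype.card F ^ m - Fintype.card F ^ (m - 1) := by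
    have h1 : {v : Fin m ⊕ Fin m → F | plusForm m F v = 0} = {v | Cfsg.quadFormPlus m F v = 0} := by
      rw [coe_plusForm]
    rw [h1]
    exact S0289.result (F := F) rfl m (by omega)
  by_cases hex : Fintype.card F = 2 ∧ 2 * m - 2 = 6
  · exfalso
    obtain ⟨hF2, hm4⟩ := hex
    have hm' : m = 4 := by omega
    subst hm'
    have : CharP F 2 := by
      have : Fact (Nat.Prime 2) := ⟨Nat.prime_two⟩
      exact charP_of_card_eq_prime hF2
    rw [hF2] at h0 hcV
    exact core_two hG (by rw [hq, hF2]) hcV (h0.trans (by norm_num)) (M := M')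
      (by rw [hidx']; exact not_sq_dvd hsq Nat.prime_three) hRinv hRiso hRle hv hv0 hQv
  · obtain ⟨u, hu⟩ := exists_prim (q := Fintype.card F) (e := 2 * m - 2) hq1 (by omega) hex
    by_cases hdiv : u ∣ Nat.card M
    · exfalso
      exact core_u hq hcV hm h0 hu (M := M') hRinv hRle hv hv0 hQv
        (hdiv.trans (card_dvd_comap _ (QuotientGroup.mk'_surjective _) M))
    · refine der_of_prime hu.prime ?_ hdiv
      rw [← Nat.card_congr e.toEquiv]
      -- `u` divides the order
      have h1 := S0293.result (F := F) rfl m hm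
      have h2 : u ∣ Nat.gcd 4 (Fintype.card F ^ m - 1) * Nat.card (Cfsg.POmega F (Cfsg.quadFormPlus m F)) := by
        rw [h1]
        refine Dvd.dvd.mul_left ?_ _
        refine (hu.dvd (m := 2 * (m - 2 + 1)) ⟨1, by omega⟩).trans ?_
        exact Finset.dvd_prod_of_mem (fun i => Fintype.card F ^ (2 * (i + 1)) - 1)
          (Finset.mem_range.2 (show m - 2 < m - 1 by omega))
      refine (hu.prime.dvd_mul.1 h2).resolve_left fun h3 => ?_
      have h4 : u ∣ Fintype.card F ^ m - 1 := h3.trans (Nat.gcd_dvd_right _ _)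
      have := Nat.le_of_dvd (by omega) ((hu.dvd_iff m).1 h4)
      omega

end main

end Cfsg.Agent.H686.SqPlus
end

private theorem dce_8def9b32dfc5 : _root_.True := by
  try have : _root_.True := by simp only [_root_.Cfsg.Agent.H686.SqSmall.cfix.congr_simp]
  exact _root_.True.intro
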